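import Cfsg.Agent.Lib.MaxSub.SlNine.Setting

/-!
The action of the generators of the normaliser on the groups in dimensions three and nine.
-/

set_option autoImplicit false
set_option linter.unusedSectionVars false

namespace CfsgLib.MaxSub.SlNine

open Matrix
open scoped MatrixGroups

variable {F : Type*} [Field F] {w : F}

/-- an element of the group in dimension three, indexed by a pair -/
abbrev v3 (w : F) (v : Z × Z) : Matrix Z Z F := w3 w v.1 v.2

/-- `X` carries `v` to `v'` -/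
def Sends (w : F) (X : Matrix Z Z F) (v v' : Z × Z) : Prop := ∃ c : F, X * v3 w v = c • (v3 w v' * X)

namespace Sends

variable {X Y : Matrix Z Z F} {u u' u'' v v' : Z × Z}

theorem mul (hX : Sends w X u' u'') (hY : Sends w Y u u') : Sends w (X * Y) u u'' := by
  obtain ⟨c, hc⟩ := hY
  obtain ⟨d, hd⟩ := hX
  refine ⟨c * d, ?_⟩
  rw [mul_assoc, hc, mul_smul_comm, ← mul_assoc, hd, smul_mul_assoc, smul_smul, mul_assoc]

theorem smul (hX : Sends w X u u') (k : F) : Sends w (k • X) u u' := by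
  obtain ⟨c, hc⟩ := hX
  exact ⟨c, by rw [smul_mul_assoc, hc, mul_smul_comm, smul_smul, smul_smul, mul_comm]⟩

theorem add (h : Root w) (hu : Sends w X u u') (hv : Sends w X v v') : Sends w X (u + v) (u' + v') := by
  obtain ⟨c, hc⟩ := hu
  obtain ⟨d, hd⟩ := hv
  refine ⟨(ch w (-(v.1 * u.2)))⁻¹ * (c * d * ch w (-(v'.1 * u'.2))), ?_⟩
  have e : v3 w (u + v) = (ch w (-(v.1 * u.2)))⁻¹ • (v3 w u * v3 w v) := by
    rw [v3, v3, v3, h.w3_mul, smul_smul, inv_mul_cancel₀ (h.ch_ne_zero _), one_smul, Prod.fst_add, Prod.snd_add]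
  have e' : v3 w u' * v3 w v' = ch w (-(v'.1 * u'.2)) • v3 w (u' + v') := by
    rw [v3, v3, h.w3_mul]; rfl
  rw [e, mul_smul_comm, ← mul_assoc, hc, smul_mul_assoc, mul_assoc, hd, mul_smul_comm, ← mul_assoc, e',
    smul_mul_assoc, smul_smul, smul_smul, smul_smul]
  congr 1
  ring

theorem zero (X : Matrix Z Z F) : Sends w X 0 0 :=
  ⟨1, by simp [v3, w3_zero]⟩

theorem one (v : Z × Z) : Sends w (1 : Matrix Z Z F) v v := ⟨1, by simp⟩

theorem unique (h : Root w) (hd : X.det ≠ 0) (hu : Sends w X u u') (hu' : Sends w X u u'') : u' = u'' := by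
  have hXu : IsUnit X := (Matrix.isUnit_iff_isUnit_det X).2 (isUnit_iff_ne_zero.2 hd)
  obtain ⟨c, hc⟩ := hu
  obtain ⟨d, hd'⟩ := hu'
  rw [hc] at hd'
  have e : c • v3 w u' = d • v3 w u'' := hXu.mul_left_injective (by simpa using hd')
  have hc0 : c ≠ 0 := fun e0 => by
    rw [e0, zero_smul] at hc
    have h2 : X * (v3 w u * v3 w (-u)) = 0 := by rw [← mul_assoc, hc, zero_mul]
    rw [v3, v3, h.w3_mul, mul_smul_comm, smul_eq_zero] at h2
    rcases h2 with h2 | h2
    · exact h.ch_ne_zero _ h2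
    · simp [w3_zero, hXu.ne_zero] at h2
  have e2 : v3 w u' = (c⁻¹ * d) • v3 w u'' := by rw [← smul_smul, ← e, smul_smul, inv_mul_cancel₀ hc0, one_smul]
  obtain ⟨h1, h2⟩ := h.w3_inj e2
  exact Prod.ext h1 h2

theorem of_basis (h : Root w) {α β : Z × Z} (hα : Sends w X (1, 0) α) (hβ : Sends w X (0, 1) β) :
    ∀ u : Z × Z, Sends w X u (u.1.val • α + u.2.val • β) := by
  have key : ∀ (u α : Z × Z), Sends w X u α → ∀ n : ℕ, Sends w X (n • u) (n • α) := by
    intro u α hu n
    induction n with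
    | zero => simpa using Sends.zero X
    | succ n ih => rw [succ_nsmul, succ_nsmul]; exact ih.add h hu
  intro u
  have := (key _ _ hα u.1.val).add h (key _ _ hβ u.2.val)
  have e : u.1.val • ((1, 0) : Z × Z) + u.2.val • ((0, 1) : Z × Z) = u := by
    obtain ⟨a, b⟩ := u
    simp
  rwa [e] at this

end Sends

theorem Nm3.sends {X : Matrix Z Z F} (hX : Nm3 w X) (u : Z × Z) : ∃ u', Sends w X u u' := by
  obtain ⟨c, a', b', e⟩ := hX u.1 u.2
  exact ⟨(a', b'), c, e⟩

theorem nm3_of_sends {X : Matrix Z Z F} (h : ∀ u, ∃ u', Sends w X u u') : Nm3 w X := fun a b => by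
  obtain ⟨u', c, e⟩ := h (a, b)
  exact ⟨c, u'.1, u'.2, e⟩

variable (h : Root w)
include h

theorem sends_w3 (v u : Z × Z) : Sends w (v3 w v) u u :=
  ⟨_, h.w3_comm v.1 v.2 u.1 u.2⟩

theorem sends_phi (u : Z × Z) : Sends w (phi w) u (u.2, -u.1) := by
  refine ⟨ch w (u.1 * u.2), Matrix.ext fun i j => ?_⟩
  have hL : ∀ X : Matrix Z Z F, (X * v3 w u) i j = ch w (u.1 * (j + u.2)) * X i (j + u.2) := fun X => by
    rw [v3, w3, ← mul_assoc, mul_pm_apply, mul_diagonal]
    exact mul_comm _ _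
  have hR : ∀ X : Matrix Z Z F, (v3 w (u.2, -u.1) * X) i j = ch w (u.2 * i) * X (i + u.1) j := fun X => by
    rw [v3, w3, mul_assoc, diagonal_mul, pm_mul_apply]
    simp
  rw [hL, Matrix.smul_apply, hR, phi, Matrix.smul_apply, Matrix.smul_apply, Matrix.of_apply, Matrix.of_apply,
    smul_eq_mul, smul_eq_mul, smul_eq_mul]
  calc ch w (u.1 * (j + u.2)) * ((w - w ^ 2)⁻¹ * ch w (i * (j + u.2)))
      = (w - w ^ 2)⁻¹ * ch w (u.1 * (j + u.2) + i * (j + u.2)) := by rw [h.ch_add]; ring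
    _ = (w - w ^ 2)⁻¹ * ch w (u.1 * u.2 + u.2 * i + (i + u.1) * j) := by congr 2; ring
    _ = _ := by rw [h.ch_add, h.ch_add]; ring

theorem sends_phase (k : Z) (u : Z × Z) :
    Sends w (diagonal fun y : Z => ch w (k * (y * y))) u (u.1 + 2 * k * u.2, u.2) := by
  refine ⟨ch w (-(k * u.2 * u.2)), Matrix.ext fun i j => ?_⟩
  simp only [diagonal_mul, mul_diagonal, Matrix.smul_apply, v3, w3_apply, smul_eq_mul, ite_mul, mul_ite,
    zero_mul, mul_zero]
  split_ifs with e
  · subst e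
    rw [← h.ch_add, ← h.ch_add, ← h.ch_add]
    congr 1
    ring
  · rfl

theorem phi_mul_phiInv : phi w * phiInv w = 1 := by
  have hd : w - w ^ 2 ≠ 0 := fun e => by
    have h0 : w * (1 - w) = 0 := by linear_combination e
    rcases mul_eq_zero.1 h0 with h0 | h0
    · exact h.ne_zero h0
    · exact h.ne_one (sub_eq_zero.1 h0).symm
  ext i j
  rw [phi, phiInv, smul_mul_assoc, mul_smul_comm, smul_smul, Matrix.smul_apply, Matrix.mul_apply]
  simp only [Matrix.of_apply, ← h.ch_add]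
  have hsum : ∑ k : Z, ch w (i * k + -(k * j)) = if i = j then 3 else 0 := by
    have : ∀ k : Z, i * k + -(k * j) = (i - j) * k := fun k => by ring
    simp only [this]
    split_ifs with e
    · simp [e, ch_zero]
    · have hi : i - j = 1 ∨ i - j = 2 := by
        have : ∀ a : Z, a ≠ 0 → a = 1 ∨ a = 2 := by decide
        exact this _ (sub_ne_zero.2 e)
      rw [show (Finset.univ : Finset Z) = {0, 1, 2} by decide, Finset.sum_insert (by decide),
        Finset.sum_pair (by decide)]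
      rcases hi with hi | hi <;> rw [hi]
      · show w ^ 0 + (w ^ 1 + w ^ 2) = 0
        linear_combination h.eq
      · show w ^ 0 + (w ^ 2 + w ^ 1) = 0
        linear_combination h.eq
  rw [hsum, smul_eq_mul]
  rcases eq_or_ne i j with e | e
  · rw [if_pos e, e, Matrix.one_apply_eq]
    have hsq : (w - w ^ 2) * (w - w ^ 2) = -3 := by linear_combination (w ^ 2 - 3 * w + 3) * h.eq
    calc (w - w ^ 2)⁻¹ * -(w - w ^ 2)⁻¹ * 3 = ((w - w ^ 2) * (w - w ^ 2))⁻¹ * (-3) := by rw [mul_inv]; ring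
      _ = 1 := by rw [hsq]; exact inv_mul_cancel₀ (neg_ne_zero.2 h.three)
  · rw [if_neg e, Matrix.one_apply_ne e, mul_zero]

theorem phiInv_mul_phi : phiInv w * phi w = 1 := mul_eq_one_comm.1 (phi_mul_phiInv h)

/-- what commutes with the group up to scalars is a multiple of an element of it -/
theorem eq_w3_of_sends {X : Matrix Z Z F} (hd : X.det ≠ 0) (h1 : Sends w X (1, 0) (1, 0))
    (h2 : Sends w X (0, 1) (0, 1)) : ∃ (c : F) (v : Z × Z), X = c • v3 w v := by
  have hroot : ∀ {u : Z × Z} {c : F}, X * v3 w u = c • (v3 w u * X) → c ^ 3 = 1 := by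
    intro u c e
    have e1 := congrArg Matrix.det e
    rw [det_mul, det_smul, det_mul, ZMod.card] at e1
    have hu : (v3 w u).det ≠ 0 := fun e0 => by
      have := congrArg Matrix.det (h.w3_mul u.1 u.2 (-u.1) (-u.2))
      rw [det_mul, e0, zero_mul, det_smul, add_neg_cancel, add_neg_cancel, w3_zero, det_one, mul_one] at this
      exact pow_ne_zero _ (h.ch_ne_zero _) this.symm
    apply mul_right_cancel₀ (mul_ne_zero hd hu)
    linear_combination -e1
  obtain ⟨c1, e1⟩ := h1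
  obtain ⟨c2, e2⟩ := h2
  obtain ⟨k1, hk1⟩ := h.eq_ch (hroot e1)
  obtain ⟨k2, hk2⟩ := h.eq_ch (hroot e2)
  subst hk1; subst hk2
  obtain ⟨Y, hY⟩ : ∃ Y, Y = v3 w (-k2, k1) * X := ⟨_, rfl⟩
  have hc : ∀ (u : Z × Z) (k : Z), X * v3 w u = ch w k • (v3 w u * X) → -k2 * u.2 - u.1 * k1 + k = 0 →
      Y * v3 w u = v3 w u * Y := by
    intro u k e hk
    rw [hY, mul_assoc, e, mul_smul_comm, ← mul_assoc, v3, v3, h.w3_comm, smul_mul_assoc, smul_smul, mul_assoc,
      ← h.ch_add, show k + (-k2 * u.2 - u.1 * k1) = 0 by rw [add_comm]; exact hk, ch_zero, one_smul]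
  have hq := hc (1, 0) k1 e1 (by ring)
  have hs := hc (0, 1) k2 e2 (by ring)
  have hdiag : ∀ i j, i ≠ j → Y i j = 0 := fun i j hij => by
    have := congrFun (congrFun hq i) j
    rw [v3, w3, show Equiv.addRight (0 : Z) = 1 from Equiv.ext fun x => add_zero x, pm_one, mul_one,
      mul_diagonal, diagonal_mul, one_mul, one_mul, mul_comm, ← sub_eq_zero, ← sub_mul, mul_eq_zero] at this
    exact this.resolve_left fun e => hij (h.ch_inj (sub_eq_zero.1 e)).symm
  have hconst : ∀ i, Y i i = Y 0 0 := fun i => by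
    have key : ∀ j : Z, Y (j + 1) (j + 1) = Y j j := fun j => by
      have := congrFun (congrFun hs (j + 1)) j
      rw [v3, w3, show (fun y : Z => ch w (0 * y)) = fun _ => 1 from funext fun y => by rw [zero_mul, ch_zero],
        diagonal_one, one_mul, mul_pm_apply, pm_mul_apply] at this
      simpa using this
    have : ∀ i : Z, i = 0 ∨ i = 0 + 1 ∨ i = 0 + 1 + 1 := by decide
    rcases this i with e | e | e <;> subst e
    · rfl
    · exact key 0
    · rw [key, key]
  have hYs : Y = Y 0 0 • 1 := Matrix.ext fun i j => by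
    rcases eq_or_ne i j with e | e
    · subst e; simp [hconst i]
    · simp [Matrix.one_apply_ne e, hdiag i j e]
  obtain ⟨d, hd0, hd'⟩ : ∃ d : F, d ≠ 0 ∧ v3 w (k2, -k1) * v3 w (-k2, k1) = d • 1 := ⟨_, h.ch_ne_zero _, by
    rw [v3, v3, h.w3_mul]; simp [w3_zero]; rfl⟩
  refine ⟨d⁻¹ * Y 0 0, (k2, -k1), ?_⟩
  have e : v3 w (k2, -k1) * Y = d • X := by rw [hY, ← mul_assoc, hd', smul_mul_assoc, one_mul]
  rw [hYs, mul_smul_comm, mul_one] at e
  rw [← smul_smul, e, smul_smul, inv_mul_cancel₀ hd0, one_smul]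

/-- the generators of the action realise every symplectic pair -/
theorem exists_word {α β : Z × Z} (hp : α.1 * β.2 - β.1 * α.2 = 1) :
    ∃ (k₁ k₂ : Z) (n : ℕ), Sends w ((diagonal fun y : Z => ch w (k₂ * (y * y))) *
        phi w ^ n * (diagonal fun y : Z => ch w (k₁ * (y * y)))) (1, 0) α ∧
      Sends w ((diagonal fun y : Z => ch w (k₂ * (y * y))) *
        phi w ^ n * (diagonal fun y : Z => ch w (k₁ * (y * y)))) (0, 1) β := by
  let J : Z × Z → Z × Z := fun u => (u.2, -u.1)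
  let U : Z → Z × Z → Z × Z := fun k u => (u.1 + 2 * k * u.2, u.2)
  have hall : ∀ α β : Z × Z, α.1 * β.2 - β.1 * α.2 = 1 → ∃ (k₁ k₂ : Z) (n : Fin 4),
      U k₂ (J^[n.val] (U k₁ (1, 0))) = α ∧ U k₂ (J^[n.val] (U k₁ (0, 1))) = β := by decide
  obtain ⟨k₁, k₂, n, e1, e2⟩ := hall α β hp
  have hpow : ∀ (m : ℕ) (u : Z × Z), Sends w (phi w ^ m) u (J^[m] u) := by
    intro m
    induction m with
    | zero => intro u; simpa using Sends.one u
    | succ m ih =>
      intro u
      rw [pow_succ', Function.iterate_succ_apply']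
      exact (sends_phi h _).mul (ih u)
  have hw : ∀ u, Sends w ((diagonal fun y : Z => ch w (k₂ * (y * y))) *
      phi w ^ n.val * (diagonal fun y : Z => ch w (k₁ * (y * y)))) u (U k₂ (J^[n.val] (U k₁ u))) :=
    fun u => ((sends_phase h k₂ _).mul (hpow _ _)).mul (sends_phase h k₁ u)
  exact ⟨k₁, k₂, n.val, e1 ▸ hw _, e2 ▸ hw _⟩

end CfsgLib.MaxSub.SlNine
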