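import Cfsg.Agent.Lib.MaxSub.SlNine.CentR

/-!
The elements commuting with the involution `zed`, their action on its three-dimensional eigenspace, and the
centralisers of the elements of the second factor.
-/

set_option autoImplicit false
set_option linter.unusedSectionVars false

namespace CfsgLib.MaxSub.SlNine

open Matrix
open scoped MatrixGroups

variable {F : Type*} [Field F] {w : F}

/-- the component on the eigenspace spanned by the vectors `(e₁ - e₂) ⊗ v` -/
def acomp (X : Matrix I9 I9 F) : Matrix Z Z F := Matrix.of fun y y' => X (1, y) (1, y') - X (1, y) (2, y')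

theorem acomp_apply (X : Matrix I9 I9 F) (y y' : Z) : acomp X y y' = X (1, y) (1, y') - X (1, y) (2, y') := rfl

theorem negFst_apply (i : I9) : negFst i = (-i.1, i.2) := rfl

theorem negFst_inv : negFst⁻¹ = negFst := Equiv.ext fun i => rfl

theorem zed_mul_zed : zed F * zed F = 1 := by
  rw [zed, neg_mul_neg, pm_mul_pm, show negFst * negFst = 1 from Equiv.ext fun x => by
    simp [negFst_apply, Equiv.Perm.mul_apply], pm_one]

theorem comm_zed {X : Matrix I9 I9 F} : X * zed F = zed F * X ↔ ∀ i j, X (negFst i) (negFst j) = X i j := by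
  have e1 : ∀ i j, (X * zed F) i j = -X i (negFst j) := fun i j => by
    rw [zed, Matrix.mul_neg, Matrix.neg_apply, mul_pm_apply]
  have e2 : ∀ i j, (zed F * X) i j = -X (negFst i) j := fun i j => by
    rw [zed, Matrix.neg_mul, Matrix.neg_apply, pm_mul_apply]; rfl
  constructor
  · intro h i j
    have := congrFun (congrFun h i) (negFst j)
    rw [e1, e2, neg_inj] at this
    simpa [negFst_apply] using this.symm
  · intro h
    ext i j
    rw [e1, e2, ← h (negFst i) j]
    simp [negFst_apply]

theorem bd_const_comm_zed (A : Matrix Z Z F) : (bd fun _ => A) * zed F = zed F * bd fun _ => A :=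
  comm_zed.2 fun i j => by simp [bd_apply, negFst_apply]

theorem acomp_mul {X Y : Matrix I9 I9 F} (hY : Y * zed F = zed F * Y) : acomp (X * Y) = acomp X * acomp Y := by
  have hs := comm_zed.1 hY
  ext y y'
  have h0 : ∀ z, Y (0, z) (2, y') = Y (0, z) (1, y') := fun z => by
    simpa [negFst_apply, show -(1 : Z) = 2 by decide] using hs (0, z) (1, y')
  have h21 : ∀ z, Y (2, z) (1, y') = Y (1, z) (2, y') := fun z => by
    simpa [negFst_apply, show -(1 : Z) = 2 by decide, show -(2 : Z) = 1 by decide] using hs (1, z) (2, y')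
  have h22 : ∀ z, Y (2, z) (2, y') = Y (1, z) (1, y') := fun z => by
    simpa [negFst_apply, show -(1 : Z) = 2 by decide] using hs (1, z) (1, y')
  rw [acomp_apply, Matrix.mul_apply, Matrix.mul_apply, Matrix.mul_apply, Fintype.sum_prod_type,
    Fintype.sum_prod_type, show (Finset.univ : Finset Z) = {0, 1, 2} by decide]
  rw [Finset.sum_insert (by decide), Finset.sum_pair (by decide), Finset.sum_insert (by decide),
    Finset.sum_pair (by decide)]
  simp only [h0, h21, h22, acomp_apply, Finset.sum_insert (show (0 : Z) ∉ ({1, 2} : Finset Z) by decide),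
    Finset.sum_pair (show (1 : Z) ≠ 2 by decide)]
  ring

theorem acomp_bd (A : Z → Matrix Z Z F) : acomp (bd A) = A 1 := by
  ext y y'
  simp [acomp_apply, bd_apply, show (1 : Z) ≠ 2 by decide]

theorem acomp_smul (c : F) (X : Matrix I9 I9 F) : acomp (c • X) = c • acomp X := by
  ext y y'
  simp [acomp_apply, mul_sub]

theorem acomp_one : acomp (1 : Matrix I9 I9 F) = 1 := by rw [← bd_one, acomp_bd]

/-- a matrix acting on the first factor -/
def lft (B : Matrix Z Z F) : Matrix I9 I9 F := Matrix.of fun i j => if i.2 = j.2 then B i.1 j.1 else 0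

theorem lft_apply (B : Matrix Z Z F) (i j : I9) : lft B i j = if i.2 = j.2 then B i.1 j.1 else 0 := rfl

theorem lft_inj {B C : Matrix Z Z F} (e : lft B = lft C) : B = C := by
  ext x x'
  simpa [lft_apply] using congrFun (congrFun e (x, 0)) (x', 0)

theorem swap_conj (X : Matrix Z Z F) : (-pm swp : Matrix I9 I9 F) * (bd fun _ => X) * -pm swp = lft X := by
  rw [neg_mul, neg_mul_neg]
  ext i j
  rw [mul_pm_apply, pm_mul_apply, bd_apply, lft_apply]
  rfl

theorem lft_mul (B C : Matrix Z Z F) : lft B * lft C = lft (B * C) := by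
  ext i j
  rw [Matrix.mul_apply, Fintype.sum_prod_type, lft_apply]
  simp only [lft_apply, Matrix.mul_apply]
  split_ifs with e
  · refine Finset.sum_congr rfl fun x _ => ?_
    rw [Finset.sum_eq_single i.2]
    · rw [if_pos rfl, if_pos e]
    · intro b _ hb; rw [if_neg (Ne.symm hb), zero_mul]
    · simp
  · refine Finset.sum_eq_zero fun x _ => Finset.sum_eq_zero fun z _ => ?_
    split_ifs with e1 e2
    · exact absurd (e1.trans e2) e
    all_goals simp

theorem lft_one : lft (1 : Matrix Z Z F) = 1 := by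
  ext i j
  simp only [lft_apply, Matrix.one_apply, Prod.ext_iff]
  split_ifs <;> simp_all

theorem lft_smul (c : F) (B : Matrix Z Z F) : lft (c • B) = c • lft B := by
  ext i j
  simp [lft_apply]

theorem lft_comm_const (B A : Matrix Z Z F) : lft B * bd (fun _ => A) = bd (fun _ => A) * lft B := by
  ext i j
  rw [Matrix.mul_apply, Matrix.mul_apply, Finset.sum_eq_single (j.1, i.2), Finset.sum_eq_single (i.1, j.2)]
  · simp [lft_apply, bd_apply, mul_comm]
  · intro b _ hb
    rw [lft_apply, bd_apply]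
    by_cases e1 : i.1 = b.1
    · rw [if_neg (fun e2 : b.2 = j.2 => hb (Prod.ext e1.symm e2)), mul_zero]
    · rw [if_neg e1, zero_mul]
  · simp
  · intro b _ hb
    rw [lft_apply, bd_apply]
    by_cases e1 : i.2 = b.2
    · rw [if_neg (fun e2 : b.1 = j.1 => hb (Prod.ext e2 e1.symm)), mul_zero]
    · rw [if_neg e1, zero_mul]
  · simp

variable (h : Root w)
include h

theorem lft_w3 (a b : Z) : lft (w3 w a b) = w9 w (a, 0) (b, 0) := by
  ext i j
  rw [lft_apply, w3_apply, w9_apply, ← ite_and]
  refine if_congr ?_ (by simp [dot]) rfl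
  simp [Prod.ext_iff, and_comm]

theorem w9_const (a : Z) (b : Z) : w9 w (0, a) (0, b) = bd fun _ => w3 w a b := by
  rw [h.w9_bd]
  simp [ch_zero]

omit h

theorem nm_inv [Fintype F] {g : GL I9 F} (hg : Nm w (g : Matrix I9 I9 F)) :
    Nm w ((g⁻¹ : GL I9 F) : Matrix I9 I9 F) := by
  haveI : Finite (GL I9 F) := Finite.of_injective (fun g => (g : Matrix I9 I9 F)) fun _ _ => Units.ext
  have e : g⁻¹ = g ^ (orderOf g - 1) := by
    refine inv_eq_of_mul_eq_one_right ?_
    rw [← pow_succ', Nat.sub_add_cancel (isOfFinOrder_of_finite g).orderOf_pos, pow_orderOf_eq_one]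
  rw [e, Units.val_pow_eq_pow_val]
  exact hg.pow _

namespace Setup

variable {M : Subgroup (GL I9 F)} {G S : Subgroup (GL Z F)} (hS : Setup w M G S) (hp : NoPure w M)
include hS hp

/-- the centralisers of the elements of the second factor normalise -/
theorem cent_v3 [Fintype F] {v : Z × Z} (hv : v ≠ 0) {X : Matrix I9 I9 F} (hX : Mem M X)
    (hc : X * bd (fun _ => v3 w v) = bd (fun _ => v3 w v) * X) : Nm w X := by
  have h := hS.root
  obtain ⟨β, hβ⟩ : ∃ β : Z × Z, v.1 * β.2 - β.1 * v.2 = 1 := by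
    have : ∀ v : Z × Z, v ≠ 0 → ∃ β : Z × Z, v.1 * β.2 - β.1 * v.2 = 1 := by decide
    exact this v hv
  obtain ⟨k₁, k₂, n, hW1, -⟩ := exists_word h hβ
  obtain ⟨W, hW⟩ : ∃ W : Matrix Z Z F, W = (diagonal fun y : Z => ch w (k₂ * (y * y))) *
      phi w ^ n * (diagonal fun y : Z => ch w (k₁ * (y * y))) := ⟨_, rfl⟩
  rw [← hW] at hW1
  have hWm : Mem M (bd fun _ => W) ∧ Nm w (bd fun _ => W) := by
    refine ⟨?_, ?_⟩
    · have := ((hS.mem_phase k₂).mul (hS.mem_phi_pow n)).mul (hS.mem_phase k₁)
      rwa [bd_mul, bd_mul, ← hW] at this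
    · have hpow : Nm w (bd fun _ => phi w ^ n) := by
        have e : ∀ m : ℕ, (bd fun _ : Z => phi w) ^ m = bd fun _ => phi w ^ m := by
          intro m
          induction m with
          | zero => simp [bd_one]
          | succ m ih => rw [pow_succ, ih, bd_mul]; simp [pow_succ]
        rw [← e]
        exact (nm_bd_const h (nm3_phi h)).pow n
      have := ((nm_bd_const h (nm3_phase h k₂)).mul hpow).mul (nm_bd_const h (nm3_phase h k₁))
      rwa [bd_mul, bd_mul, ← hW] at this
  obtain ⟨u, hu, hue⟩ := hWm.1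
  obtain ⟨g, hg, hge⟩ := hX
  obtain ⟨c, hc'⟩ := hW1
  obtain ⟨s, hs, hse⟩ := hS.mem_swap
  obtain ⟨q, hq, hqe⟩ := hS.mem_w (0, 1) 0
  obtain ⟨r, hr, hre⟩ := hS.mem_const v
  have hq' : (q : Matrix I9 I9 F) = bd fun _ => v3 w (1, 0) := hqe.trans (w9_const h 1 0)
  have e1 : (u * q * u⁻¹ : GL I9 F).val = c • (r : Matrix I9 I9 F) := by
    have e0 : (u : Matrix I9 I9 F) * q = c • ((r : Matrix I9 I9 F) * u) := by
      rw [hue, hq', hre, bd_mul, bd_mul, ← bd_smul]
      congr 1; funext x
      exact hc'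
    rw [Units.val_mul, Units.val_mul, e0, smul_mul_assoc, mul_assoc, Units.mul_inv, mul_one]
  have e2 : g * (u * q * u⁻¹) = (u * q * u⁻¹) * g := Units.ext (by
    rw [Units.val_mul g, Units.val_mul _ g, e1, mul_smul_comm, smul_mul_assoc, hre, hge, hc])
  -- move the first element to the phase of the blocks
  obtain ⟨f, hf⟩ : ∃ f, f = s * (u⁻¹ * g * u) * s := ⟨_, rfl⟩
  have hss : s * s = 1 := Units.ext (by
    rw [Units.val_mul, hse, neg_mul_neg, pm_mul_pm,
      show swp * swp = 1 from Equiv.ext fun x => by cases x; rfl, pm_one, Units.val_one])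
  have e3 : f * (s * q * s) = (s * q * s) * f := by
    have e : u⁻¹ * g * u * q = q * (u⁻¹ * g * u) := by
      calc u⁻¹ * g * u * q = u⁻¹ * (g * (u * q * u⁻¹)) * u := by group
        _ = u⁻¹ * ((u * q * u⁻¹) * g) * u := by rw [e2]
        _ = q * (u⁻¹ * g * u) := by group
    rw [hf]
    calc s * (u⁻¹ * g * u) * s * (s * q * s) = s * (u⁻¹ * g * u * (s * s) * q) * s := by simp only [mul_assoc]
      _ = s * (q * (s * s) * (u⁻¹ * g * u)) * s := by rw [hss, mul_one, mul_one, e]
      _ = s * q * s * (s * (u⁻¹ * g * u) * s) := by simp only [mul_assoc]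
  have hsq : (s * q * s : GL I9 F).val = diagonal fun i : I9 => ch w i.1 := by
    rw [Units.val_mul, Units.val_mul, hse, hq', swap_conj, v3, lft_w3 h]
    ext i j
    simp [w9_apply, diagonal_apply, dot, ← Prod.zero_eq_mk]
  have hfb : (f : Matrix I9 I9 F) = bd fun x => Matrix.of fun y y' => (f : Matrix I9 I9 F) (x, y) (x, y') := by
    ext i j
    rw [bd_apply]
    split_ifs with e
    · obtain ⟨a, b⟩ := i
      obtain ⟨a', b'⟩ := j
      subst e
      rfl
    · have e5 : (f : Matrix I9 I9 F) * (s * q * s : GL I9 F).val = (s * q * s : GL I9 F).val * f := by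
        rw [← Units.val_mul f, ← Units.val_mul _ f, e3]
      rw [hsq] at e5
      have := congrFun (congrFun e5 i) j
      rw [mul_diagonal, diagonal_mul] at this
      have h2 : (ch w j.1 - ch w i.1) * (f : Matrix I9 I9 F) i j = 0 := by linear_combination this
      exact (mul_eq_zero.1 h2).resolve_left fun e0 => e (h.ch_inj (sub_eq_zero.1 e0)).symm
  have hfm : f ∈ M := hf ▸ M.mul_mem (M.mul_mem hs (M.mul_mem (M.mul_mem (M.inv_mem hu) hg) hu)) hs
  have hfn : Nm w (f : Matrix I9 I9 F) := hfb ▸ hS.nm_blocks hp ⟨f, hfm, hfb⟩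
  have hsn : Nm w (s : Matrix I9 I9 F) := hse ▸ nm_neg_swp h
  have hun : Nm w (u : Matrix I9 I9 F) := hue ▸ hWm.2
  have e4 : g = u * (s * f * s) * u⁻¹ := by
    rw [hf, show s * (s * (u⁻¹ * g * u) * s) * s = (s * s) * (u⁻¹ * g * u) * (s * s) by simp only [mul_assoc],
      hss, one_mul, mul_one]
    group
  rw [← hge, e4]
  simp only [Units.val_mul]
  exact (hun.mul ((hsn.mul hfn).mul hsn)).mul (nm_inv hun)

end Setup

end CfsgLib.MaxSub.SlNine
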