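import Cfsg.Agent.Lib.MaxSub.SlNine.Nine

/-!
The blocks of the block diagonal elements of an overgroup normalise the group of dimension three.
-/

set_option autoImplicit false
set_option linter.unusedSectionVars false

namespace CfsgLib.MaxSub.SlNine

open Matrix
open scoped MatrixGroups

variable {F : Type*} [Field F] {w : F}

/-- block diagonal units -/
def bdGL : (Z → GL Z F) →* GL I9 F where
  toFun f :=
    { val := bd fun x => (f x : Matrix Z Z F)
      inv := bd fun x => ((f x)⁻¹ : GL Z F)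
      val_inv := by rw [bd_mul]; simp only [Units.mul_inv, bd_one]
      inv_val := by rw [bd_mul]; simp only [Units.inv_mul, bd_one] }
  map_one' := Units.ext (by simp [bd_one])
  map_mul' f g := Units.ext (by simp [bd_mul])

theorem bdGL_val (f : Z → GL Z F) : (bdGL f : Matrix I9 I9 F) = bd fun x => (f x : Matrix Z Z F) := rfl

/-- the block diagonal part of a group -/
def blocks (M : Subgroup (GL I9 F)) : Subgroup (Z → GL Z F) := M.comap bdGL

theorem mem_blocks {M : Subgroup (GL I9 F)} {f : Z → GL Z F} :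
    f ∈ blocks M ↔ Mem M (bd fun x => (f x : Matrix Z Z F)) :=
  ⟨fun hf => ⟨bdGL f, hf, rfl⟩, fun ⟨g, hg, e⟩ =>
    show bdGL f ∈ M from (Units.ext e : g = bdGL f) ▸ hg⟩

/-- elements commuting with every element of a subgroup up to scalars -/
theorem exists_comm_group (S : Subgroup (GL Z F)) :
    ∃ L : Subgroup (GL Z F), ∀ g, g ∈ L ↔ ∀ a ∈ S, ∃ c : F, (g : Matrix Z Z F) * a = c • ((a : Matrix Z Z F) * g) := by
  refine ⟨{ carrier := {g | ∀ a ∈ S, ∃ c : F, (g : Matrix Z Z F) * a = c • ((a : Matrix Z Z F) * g)}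
            one_mem' := fun a _ => ⟨1, by simp⟩
            mul_mem' := ?_
            inv_mem' := ?_ }, fun g => Iff.rfl⟩
  · intro x y hx hy a ha
    obtain ⟨c, hc⟩ := hx a ha
    obtain ⟨d, hd⟩ := hy a ha
    refine ⟨d * c, ?_⟩
    rw [Units.val_mul, mul_assoc, hd, mul_smul_comm, ← mul_assoc, hc, smul_mul_assoc, smul_smul, mul_assoc]
  · intro x hx a ha
    obtain ⟨c, hc⟩ := hx a ha
    have hc0 : c ≠ 0 := fun e => by
      rw [e, zero_smul] at hc
      exact (x * a : GL Z F).ne_zero (by simpa using hc)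
    refine ⟨c⁻¹, ?_⟩
    have e := congrArg (fun A : Matrix Z Z F => ((x⁻¹ : GL Z F) : Matrix Z Z F) * A * ((x⁻¹ : GL Z F) : Matrix Z Z F)) hc
    simp only [mul_smul_comm, smul_mul_assoc, mul_assoc, Units.mul_inv, mul_one] at e
    rw [← mul_assoc, Units.inv_mul, one_mul] at e
    rw [e, smul_smul, inv_mul_cancel₀ hc0, one_smul]

/-- the block families trivial on a set of blocks -/
def fixedOn (F : Type*) [Field F] (T : Set Z) : Subgroup (Z → GL Z F) := Subgroup.pi T fun _ => ⊥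

theorem mem_fixedOn {T : Set Z} {f : Z → GL Z F} : f ∈ fixedOn F T ↔ ∀ t ∈ T, f t = 1 := by
  simp [fixedOn, Subgroup.mem_pi]

theorem exists_val_v3 (h : Root w) (v : Z × Z) : ∃ g : GL Z F, (g : Matrix Z Z F) = v3 w v :=
  ⟨Matrix.GeneralLinearGroup.mkOfDetNeZero _ (det_w3_ne h v.1 v.2), rfl⟩

namespace Setup

variable {M : Subgroup (GL I9 F)} {G S : Subgroup (GL Z F)} (hS : Setup w M G S)
include hS

theorem block_unit {A : Z → Matrix Z Z F} (hA : Mem M (bd A)) :
    ∃ f ∈ blocks M, ∀ x, (f x : Matrix Z Z F) = A x := by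
  choose f _ e using hS.block A hA
  exact ⟨f, mem_blocks.2 (by simpa [e] using hA), e⟩

theorem shift_mem {f : Z → GL Z F} (hf : f ∈ blocks M) (c : Z) : (fun x => f (x - c)) ∈ blocks M := by
  rw [mem_blocks] at hf ⊢
  have e : w9 w 0 (c, 0) * w9 w 0 (-c, 0) = 1 := by
    rw [hS.root.w9_mul]; simp [dot, ch_zero, show ((0 : Z), (0 : Z)) = (0 : I9) from rfl, w9_zero]
  have := (hS.mem_w 0 (c, 0)).conj hf e
  rwa [w9_shift hS.root, mul_assoc, e, mul_one] at this

theorem blocks_le {f : Z → GL Z F} (hf : f ∈ blocks M) (x : Z) : f x ∈ G := by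
  obtain ⟨g, hg, e⟩ := hS.block _ (mem_blocks.1 hf) x
  rwa [Units.ext e] at hg

/-- (B): the blocks normalise the group of dimension three -/
theorem nm3_block {A : Z → Matrix Z Z F} (hA : Mem M (bd A)) (x : Z) : Nm3 w (A x) := by
  classical
  have h := hS.root
  by_cases hall : ∀ g ∈ G, Nm3 w (g : Matrix Z Z F)
  · obtain ⟨g, hg, e⟩ := hS.block A hA x
    exact e ▸ hall g hg
  push Not at hall
  let ev : Z → ((Z → GL Z F) →* GL Z F) := fun x => Pi.evalMonoidHom _ x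
  have hP : ∀ x, (blocks M).map (ev x) = (blocks M).map (ev 0) := by
    intro x
    ext g
    constructor
    · rintro ⟨f, hf, rfl⟩
      exact ⟨fun y => f (y - -x), hS.shift_mem hf _, by simp [ev]⟩
    · rintro ⟨f, hf, rfl⟩
      exact ⟨fun y => f (y - x), hS.shift_mem hf _, by simp [ev]⟩
  rcases hS.dich ((blocks M).map (ev 0)) (by rintro _ ⟨f, hf, rfl⟩; exact hS.blocks_le hf 0)
    (fun g hg hn => ⟨fun _ => g, mem_blocks.2 (hS.mem_hess g hg hn), rfl⟩) (by
      obtain ⟨f, hf, e⟩ := hS.block_unit (hS.mem_phase 1)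
      exact ⟨f 0, ⟨f, hf, rfl⟩, by rw [e]; simp⟩) with hl | hr
  · obtain ⟨f, hf, e⟩ := hS.block_unit hA
    rw [← e x]
    exact hl _ (hP x ▸ Subgroup.mem_map_of_mem (ev x) hf)
  exfalso
  obtain ⟨φ, hφS, hφ⟩ := hS.phi_mem
  obtain ⟨q, hqS, hq⟩ := hS.w3_mem 1 0
  -- an element trivial on the block `0` with a non-scalar block `1`
  obtain ⟨σ, hσ, hσv⟩ := hS.block_unit (sigma_eq_bd h ▸ hS.mem_quad 0 1 0)
  have hσ0 : σ 0 = 1 := Units.ext (by rw [hσv, w3_zero]; rfl)
  have hσ1 : σ 1 = q := Units.ext (by rw [hσv, hq])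
  obtain ⟨f, hf, hf1⟩ : φ ∈ (blocks M).map (ev 1) := hP 1 ▸ hr hφS
  have hns : ∀ c : F, ((q * φ * q⁻¹ * φ⁻¹ : GL Z F) : Matrix Z Z F) ≠ c • 1 := by
    intro c hc
    have e1 : (q : Matrix Z Z F) * φ = c • ((φ : Matrix Z Z F) * q) := by
      have := congrArg (fun X : Matrix Z Z F => X * ((φ : Matrix Z Z F) * q)) hc
      simp only [smul_mul_assoc, one_mul] at this
      rw [← this, ← Units.val_mul, ← Units.val_mul, ← Units.val_mul]
      congr 1
      group
    rw [hq, hφ] at e1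
    have hs : Sends w (phi w) (1, 0) (1, 0) := by
      have hc0 : c ≠ 0 := fun e => by
        rw [e, zero_smul] at e1
        exact (q * φ : GL Z F).ne_zero (by rw [Units.val_mul, hq, hφ]; exact e1)
      exact ⟨c⁻¹, by rw [show v3 w (1, 0) = w3 w 1 0 from rfl, e1, smul_smul, inv_mul_cancel₀ hc0, one_smul]⟩
    exact absurd (Sends.unique h (det_phi_ne h) (sends_phi h (1, 0)) hs) (by decide)
  have hk : σ * f * σ⁻¹ * f⁻¹ ∈ blocks M :=
    mul_mem (mul_mem (mul_mem hσ hf) (inv_mem hσ)) (inv_mem hf)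
  have hk0 : (σ * f * σ⁻¹ * f⁻¹) 0 = 1 := by simp [hσ0]
  have hk1 : (σ * f * σ⁻¹ * f⁻¹) 1 = q * φ * q⁻¹ * φ⁻¹ := by
    simp only [ev, Pi.evalMonoidHom_apply] at hf1
    simp [hσ1, hf1]
  -- the blocks `1` of elements trivial on the block `0` cover `S`
  have hnormal : ∀ (T : Set Z) (x : Z), ∀ g ∈ S, ∀ y ∈ (blocks M ⊓ fixedOn F T).map (ev x),
      g * y * g⁻¹ ∈ (blocks M ⊓ fixedOn F T).map (ev x) := by
    intro T x g hg y hy
    obtain ⟨u, hu, rfl⟩ := hy
    obtain ⟨v, hv, rfl⟩ : g ∈ (blocks M).map (ev x) := hP x ▸ hr hg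
    refine ⟨v * u * v⁻¹, ⟨(blocks M).mul_mem ((blocks M).mul_mem hv hu.1) ((blocks M).inv_mem hv), ?_⟩, by simp⟩
    have h2 := hu.2
    simp only [SetLike.mem_coe, Subgroup.mem_toSubmonoid, mem_fixedOn] at h2 ⊢
    intro t ht
    simp [h2 t ht]
  have hle : ∀ (T : Set Z) (x : Z), (blocks M ⊓ fixedOn F T).map (ev x) ≤ G := by
    rintro T x _ ⟨u, hu, rfl⟩
    exact hS.blocks_le hu.1 x
  have hL1 : S ≤ (blocks M ⊓ fixedOn F {0}).map (ev 1) := by
    refine hS.normal_top hall _ (hle _ _) (hnormal _ _) ⟨_, ⟨_, ⟨hk, ?_⟩, hk1⟩, hns⟩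
    simp only [SetLike.mem_coe, Subgroup.mem_toSubmonoid, mem_fixedOn, Set.mem_singleton_iff, forall_eq]
    exact hk0
  -- elements supported on a single block have scalar block
  have hsingle : ∀ u ∈ blocks M, u 0 = 1 → u 1 = 1 → ∃ c : F, (u 2 : Matrix Z Z F) = c • 1 := by
    intro u hu hu0 hu1
    by_contra hno
    push Not at hno
    have htop := hS.normal_top hall _ (hle {0, 1} 2) (hnormal _ _) ⟨u 2, ⟨u, ⟨hu, by
      simp only [SetLike.mem_coe, Subgroup.mem_toSubmonoid, mem_fixedOn]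
      rintro t (rfl | rfl)
      · exact hu0
      · exact hu1⟩, rfl⟩, hno⟩
    refine hS.no_top fun g hg => ?_
    obtain ⟨v, ⟨hv, hv'⟩, rfl⟩ := htop hg
    simp only [SetLike.mem_coe, Subgroup.mem_toSubmonoid, mem_fixedOn] at hv'
    have := mem_blocks.1 (hS.shift_mem hv 1)
    refine (congrArg (fun A => Mem M (bd A)) (funext fun x => ?_)).mp this
    have h0 : v 0 = 1 := hv' 0 (by simp)
    have h1 : v 1 = 1 := hv' 1 (by simp)
    have : ∀ x : Z, x = 0 ∨ x = 1 ∨ x = 2 := by decide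
    rcases this x with e | e | e <;> subst e
    · simp [single, ev, show (0 : Z) - 1 = 2 by decide]
    · simp [single, h0]
    · simp [single, h1, show (2 : Z) - 1 = 1 by decide, show (2 : Z) ≠ 0 by decide]
  have hlift : ∀ a ∈ S, ∃ u ∈ blocks M, u 0 = 1 ∧ u 1 = a := by
    intro a ha
    obtain ⟨u, ⟨hu, hu'⟩, e⟩ := hL1 ha
    simp only [SetLike.mem_coe, Subgroup.mem_toSubmonoid, mem_fixedOn, Set.mem_singleton_iff, forall_eq] at hu'
    exact ⟨u, hu, hu', e⟩
  by_cases hsc : ∀ u ∈ blocks M, u 0 = 1 → ∃ c : F, (u 2 : Matrix Z Z F) = c • 1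
  · obtain ⟨u, hu, hu0, hu1⟩ := hlift q hqS
    obtain ⟨v, hv, hv0, hv1⟩ := hlift φ hφS
    have hm : u * v * u⁻¹ * v⁻¹ ∈ blocks M := mul_mem (mul_mem (mul_mem hu hv) (inv_mem hu)) (inv_mem hv)
    obtain ⟨c, hc⟩ := hsc u hu hu0
    have h2 : (u * v * u⁻¹ * v⁻¹) 2 = 1 := by
      have : u 2 * v 2 = v 2 * u 2 := Units.ext (by simp [hc])
      simp [this]
    obtain ⟨c', hc'⟩ := hsingle _ (hS.shift_mem hm 1) (by simpa [show (0 : Z) - 1 = 2 by decide] using h2)
      (by simp [hu0, hv0])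
    simp only [show (2 : Z) - 1 = 1 by decide] at hc'
    exact hns c' (by rw [← hc']; simp [hu1, hv1])
  · push Not at hsc
    obtain ⟨u, hu, hu0, hno⟩ := hsc
    obtain ⟨L, hL⟩ := exists_comm_group S
    have hu2 : u 2 ∈ L := by
      refine (hL _).2 fun a ha => ?_
      obtain ⟨v, hv, hv0, hv1⟩ := hlift a ha
      have hm : u * (fun x => v (x - 1)) * u⁻¹ * (fun x => v (x - 1))⁻¹ ∈ blocks M :=
        mul_mem (mul_mem (mul_mem hu (hS.shift_mem hv 1)) (inv_mem hu)) (inv_mem (hS.shift_mem hv 1))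
      obtain ⟨c, hc⟩ := hsingle _ hm (by simp [hu0]) (by simp [hv0])
      refine ⟨c, ?_⟩
      have e2 : (u * (fun x => v (x - 1)) * u⁻¹ * (fun x => v (x - 1))⁻¹) 2 = u 2 * a * (u 2)⁻¹ * a⁻¹ := by
        simp [show (2 : Z) - 1 = 1 by decide, hv1]
      rw [e2] at hc
      have := congrArg (fun X : Matrix Z Z F => X * ((a : Matrix Z Z F) * (u 2 : Matrix Z Z F))) hc
      simp only [smul_mul_assoc, one_mul] at this
      rw [← this, ← Units.val_mul, ← Units.val_mul, ← Units.val_mul]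
      congr 1
      group
    have htop := hS.normal_top hall (L ⊓ G) inf_le_right (fun g hg y hy => by
      refine ⟨(hL _).2 fun a ha => ?_, G.mul_mem (G.mul_mem (hS.S_le hg) hy.2) (G.inv_mem (hS.S_le hg))⟩
      obtain ⟨c, hc⟩ := (hL y).1 hy.1 (g⁻¹ * a * g) (S.mul_mem (S.mul_mem (S.inv_mem hg) ha) hg)
      refine ⟨c, ?_⟩
      have e1 : g * y * g⁻¹ * a = g * (y * (g⁻¹ * a * g)) * g⁻¹ := by group
      have e2 : a * (g * y * g⁻¹) = g * (g⁻¹ * a * g * y) * g⁻¹ := by group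
      rw [← Units.val_mul, ← Units.val_mul a, e1, e2, Units.val_mul, Units.val_mul, Units.val_mul, hc,
        mul_smul_comm, smul_mul_assoc]
      simp only [Units.val_mul]) ⟨u 2, ⟨hu2, hS.blocks_le hu 2⟩, hno⟩
    obtain ⟨c, hc⟩ := (hL q).1 (htop hqS).1 φ hφS
    refine hns c ?_
    have := congrArg (fun X : Matrix Z Z F => X * ((q⁻¹ * φ⁻¹ : GL Z F) : Matrix Z Z F)) hc
    simp only [smul_mul_assoc, ← Units.val_mul] at this
    rw [show q * φ * q⁻¹ * φ⁻¹ = q * φ * (q⁻¹ * φ⁻¹) by group, this,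
      show φ * q * (q⁻¹ * φ⁻¹) = 1 by group]
    rfl

end Setup

end CfsgLib.MaxSub.SlNine
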