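import Cfsg.Agent.Lib.MaxSub.SlNine.Block

/-!
The block diagonal elements of an overgroup normalise the group of dimension nine.
-/

set_option autoImplicit false
set_option linter.unusedSectionVars false

namespace CfsgLib.MaxSub.SlNine

open Matrix
open scoped MatrixGroups

variable {F : Type*} [Field F] {w : F}

/-- no element of the group lives on a single block -/
def NoPure (w : F) (M : Subgroup (GL I9 F)) : Prop :=
  ∀ (a b : Z), (a ≠ 0 ∨ b ≠ 0) → ∀ c : F, ¬ Mem M (bd (single (c • w3 w a b)))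

theorem qd_eq_bd_mid (a : Z) : qd w 0 a 0 = bd (fun x => w3 w (a * x) 0) := by
  ext i j
  rw [qd, bd_apply, diagonal_apply, w3_apply, add_zero]
  simp only [zero_mul, zero_add, add_zero, Prod.ext_iff, mul_assoc]
  split_ifs <;> simp_all

theorem bd_affine_eq (h : Root w) (u : Z × Z) :
    bd (fun x => v3 w (x * u.1, x * u.2)) = qd w 0 u.1 0 * pm (shear u.2) := by
  rw [qd_eq_bd_mid, shear_eq_bd (w := w), bd_mul]
  congr 1; funext x
  rw [h.w3_mul]
  simp [ch_zero, mul_comm]

namespace Setup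

variable {M : Subgroup (GL I9 F)} {G S : Subgroup (GL Z F)} (hS : Setup w M G S) (hp : NoPure w M)
include hS hp

/-- translations in the blocks are affine in the block -/
theorem affine {A : Z → Matrix Z Z F} (hA : Mem M (bd A)) {c : Z → F} {v : Z → Z × Z}
    (hv : ∀ x, A x = c x • v3 w (v x)) : v 2 + v 0 = v 1 + v 1 := by
  have h := hS.root
  obtain ⟨u, hu⟩ : ∃ u, u = -(v 1 - v 0) := ⟨_, rfl⟩
  have hB : Mem M (bd fun x => v3 w (x * u.1, x * u.2) * (v3 w (-v 0) * A x)) := by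
    have := (bd_affine_eq h u ▸ (hS.mem_quad 0 u.1 0).mul (hS.mem_shear u.2) :
      Mem M (bd fun x => v3 w (x * u.1, x * u.2))).mul ((hS.mem_const (-v 0)).mul hA)
    rwa [bd_mul, bd_mul] at this
  obtain ⟨f, hf, hfv⟩ := hS.block_unit hB
  have hval : ∀ x, ∃ e : F, e ≠ 0 ∧
      (f x : Matrix Z Z F) = e • v3 w (v x - v 0 + (x * u.1, x * u.2)) := by
    intro x
    have e1 : ∃ e : F, (f x : Matrix Z Z F) = e • v3 w (v x - v 0 + (x * u.1, x * u.2)) := by
      refine ⟨c x * (ch w (-((v x).1 * -(v 0).2)) * ch w (-((-(v 0).1 + (v x).1) * (x * u.2)))), ?_⟩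
      rw [hfv, hv, mul_smul_comm, mul_smul_comm, v3, v3, v3, Prod.fst_neg, Prod.snd_neg, h.w3_mul,
        mul_smul_comm, h.w3_mul, smul_smul, smul_smul]
      simp only [v3, Prod.fst_add, Prod.snd_add, Prod.fst_sub, Prod.snd_sub]
      congr 1
      · ring
      · congr 1 <;> ring
    obtain ⟨e, he⟩ := e1
    exact ⟨e, fun e0 => (f x).ne_zero (by rw [he, e0, zero_smul]), he⟩
  obtain ⟨φ, hφ, hφv⟩ := hS.block_unit hS.mem_phi
  have hscal : ∀ x, v x - v 0 + (x * u.1, x * u.2) = 0 → (φ * f * φ⁻¹ * f⁻¹) x = 1 := by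
    intro x hx
    obtain ⟨e, -, he⟩ := hval x
    rw [hx] at he
    have : φ x * f x = f x * φ x := Units.ext (by
      rw [Units.val_mul, Units.val_mul, he, show v3 w (0 : Z × Z) = 1 from w3_zero w]; simp)
    simp [this]
  by_contra hne
  obtain ⟨d, hd⟩ : ∃ d, d = v 2 - v 0 + ((2 : Z) * u.1, (2 : Z) * u.2) := ⟨_, rfl⟩
  have hd0 : d ≠ 0 := fun e0 => hne (by
    have e1 := hd.symm.trans e0
    rw [hu] at e1
    have h1 := congrArg Prod.fst e1
    have h2 := congrArg Prod.snd e1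
    simp only [Prod.fst_add, Prod.snd_add, Prod.fst_sub, Prod.snd_sub, Prod.fst_neg, Prod.snd_neg, Prod.fst_zero,
      Prod.snd_zero] at h1 h2
    exact Prod.ext (by simp only [Prod.fst_add]; linear_combination h1)
      (by simp only [Prod.snd_add]; linear_combination h2))
  have hm : φ * f * φ⁻¹ * f⁻¹ ∈ blocks M := mul_mem (mul_mem (mul_mem hφ hf) (inv_mem hφ)) (inv_mem hf)
  obtain ⟨e2, he20, he2⟩ := hval 2
  rw [← hd] at he2
  obtain ⟨k, hk⟩ := sends_phi h d
  obtain ⟨k', hk', hneg⟩ : ∃ k' : F, k' ≠ 0 ∧ v3 w d * v3 w (-d) = k' • 1 := ⟨_, h.ch_ne_zero _, by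
    rw [v3, v3, Prod.fst_neg, Prod.snd_neg, h.w3_mul, add_neg_cancel, add_neg_cancel, w3_zero]⟩
  obtain ⟨Y, hY⟩ : ∃ Y, Y = (φ * f * φ⁻¹ * f⁻¹) 2 := ⟨_, rfl⟩
  have e1 : (Y : Matrix Z Z F) * v3 w d = k • v3 w (d.2, -d.1) := by
    have e : Y * f 2 * φ 2 = φ 2 * f 2 := by rw [hY]; simp [mul_assoc]
    have e' := congrArg Units.val e
    rw [Units.val_mul, Units.val_mul, Units.val_mul, he2, hφv, mul_smul_comm, mul_smul_comm, hk,
      smul_mul_assoc] at e'
    have e'' := congrArg (· * phiInv w) (smul_right_injective (Matrix Z Z F) he20 e')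
    simpa only [smul_mul_assoc, mul_assoc, phi_mul_phiInv h, mul_one] using e''
  obtain ⟨m, he⟩ : ∃ m : F, (Y : Matrix Z Z F) = m • w3 w (d.2 + -d.1) (-d.1 + -d.2) := by
    refine ⟨k'⁻¹ * (k * ch w (-(-d.1 * -d.1))), ?_⟩
    have e := congrArg (· * v3 w (-d)) e1
    simp only [mul_assoc, hneg, mul_smul_comm, mul_one, smul_mul_assoc] at e
    rw [v3, v3, Prod.fst_neg, Prod.snd_neg, h.w3_mul, smul_smul] at e
    rw [← smul_smul, ← e, smul_smul, inv_mul_cancel₀ hk', one_smul]
  have hne0 : d.2 + -d.1 ≠ 0 ∨ -d.1 + -d.2 ≠ 0 := by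
    have : ∀ d : Z × Z, d ≠ 0 → d.2 + -d.1 ≠ 0 ∨ -d.1 + -d.2 ≠ 0 := by decide
    exact this d hd0
  refine hp _ _ hne0 m ((congrArg (fun B => Mem M (bd B)) (funext fun x => ?_)).mp
    (mem_blocks.1 (hS.shift_mem hm 1)))
  have h0 : (φ * f * φ⁻¹ * f⁻¹) 0 = 1 := hscal 0 (by simp [← Prod.zero_eq_mk])
  have h1 : (φ * f * φ⁻¹ * f⁻¹) 1 = 1 := hscal 1 (by rw [hu]; exact Prod.ext (by simp) (by simp))
  have : ∀ x : Z, x = 0 ∨ x = 1 ∨ x = 2 := by decide
  rcases this x with hx | hx | hx <;> subst hx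
  · simp only [single, show (0 : Z) - 1 = 2 by decide, if_true]
    rw [← he, hY]
  · simp only [single, sub_self, h0, show (1 : Z) ≠ 0 by decide, if_false]; rfl
  · simp only [single, show (2 : Z) - 1 = 1 by decide, h1, show (2 : Z) ≠ 0 by decide, if_false]; rfl

omit hp in
/-- a family of scalar blocks is a quadratic phase -/
theorem scalar_blocks {c : Z → F} (hA : Mem M (bd fun x => c x • (1 : Matrix Z Z F))) :
    ∃ s l : Z, ∀ x, c x = c 0 * ch w (s * (x * x) + l * x) := by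
  have h := hS.root
  have hd : bd (fun x => c x • (1 : Matrix Z Z F)) = diagonal fun i : I9 => c i.1 := by
    ext i j
    rw [bd_apply, diagonal_apply, Matrix.smul_apply, Matrix.one_apply, smul_eq_mul, mul_ite, mul_one, mul_zero,
      ← ite_and]
    simp only [Prod.ext_iff]
  have hc : ∀ x, c x ≠ 0 := fun x e => by
    obtain ⟨g, -, hg⟩ := hS.block _ hA x
    exact g.ne_zero (by rw [hg, e, zero_smul])
  have hsw : (-pm swp : Matrix I9 I9 F) * -pm swp = 1 := by
    rw [neg_mul_neg, pm_mul_pm, show swp * swp = 1 from Equiv.ext fun x => by cases x; rfl, pm_one]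
  have h2 := hS.mem_swap.conj hA hsw
  rw [neg_mul, neg_mul_neg, hd, pm_mul_diagonal, mul_assoc, pm_mul_pm,
    show swp * swp = 1 from Equiv.ext fun x => by cases x; rfl, pm_one, mul_one] at h2
  have e : (diagonal fun i : I9 => c (swp.symm i).1) = bd fun _ => diagonal c := by
    ext i j
    rw [bd_apply, diagonal_apply, diagonal_apply, ← ite_and]
    simp only [Prod.ext_iff]
    rfl
  rw [e] at h2
  obtain ⟨m, a, b, hm⟩ := hS.nm3_block h2 0 0 1
  have hb : b = 1 := by
    have := congrFun (congrFun hm 1) 0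
    simp only [diagonal_mul, mul_diagonal, Matrix.smul_apply, w3_apply, smul_eq_mul, zero_add, if_true,
      zero_mul, ch_zero, mul_one] at this
    by_contra hne
    rw [if_neg (Ne.symm hne), zero_mul, mul_zero] at this
    exact hc 1 this
  subst hb
  have key : ∀ i, c (i + 1) = m * ch w (a * (i + 1)) * c i := fun i => by
    have := congrFun (congrFun hm (i + 1)) i
    simp only [diagonal_mul, mul_diagonal, Matrix.smul_apply, w3_apply, smul_eq_mul, if_true, zero_mul, ch_zero,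
      mul_one] at this
    rw [this]; ring
  have hm3 : m ^ 3 = 1 := by
    have e0 := key 0
    have e1 := key 1
    have e2 := key 2
    rw [zero_add] at e0
    rw [show (1 : Z) + 1 = 2 by decide] at e1
    rw [show (2 : Z) + 1 = 0 by decide, mul_zero, ch_zero, mul_one] at e2
    rw [e1, e0] at e2
    apply mul_right_cancel₀ (hc 0)
    calc m ^ 3 * c 0 = ch w (a * 2 + a * 1) * (m ^ 3 * c 0) := by
          rw [show a * 2 + a * 1 = a * ((2 : Z) + 1) by ring, show (2 : Z) + 1 = 0 by decide, mul_zero, ch_zero,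
            one_mul]
      _ = 1 * c 0 := by rw [one_mul, h.ch_add]; linear_combination -e2
  obtain ⟨k, rfl⟩ := h.eq_ch hm3
  refine ⟨2 * a, k + 2 * a, fun x => ?_⟩
  have : ∀ x : Z, x = 0 ∨ x = 0 + 1 ∨ x = 0 + 1 + 1 := by decide
  have q1 : ∀ a k : Z, 2 * a * ((0 + 1) * (0 + 1)) + (k + 2 * a) * (0 + 1) = k + a * (0 + 1) := by decide
  have q2 : ∀ a k : Z, 2 * a * ((0 + 1 + 1) * (0 + 1 + 1)) + (k + 2 * a) * (0 + 1 + 1) =
      k + a * (0 + 1 + 1) + (k + a * (0 + 1)) := by decide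
  rcases this x with hx | hx | hx <;> subst hx
  · simp [ch_zero]
  · rw [key, q1, h.ch_add]; ring
  · rw [key, key, q2, h.ch_add, h.ch_add, h.ch_add]; ring

/-- (E): the block diagonal elements normalise the group -/
theorem nm_blocks {A : Z → Matrix Z Z F} (hA : Mem M (bd A)) : Nm w (bd A) := by
  have h := hS.root
  have hdet : ∀ x, (A x).det ≠ 0 := fun x => by
    obtain ⟨g, -, hg⟩ := hS.block _ hA x
    rw [← hg]
    exact ((Matrix.isUnit_iff_isUnit_det _).1 g.isUnit).ne_zero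
  choose α hα using fun x => (hS.nm3_block hA x).sends (1, 0)
  choose β hβ using fun x => (hS.nm3_block hA x).sends (0, 1)
  obtain ⟨f, hf, hfv⟩ := hS.block_unit hA
  -- all blocks act alike
  have halike : ∀ v : Z × Z, ∀ u : Z → Z × Z, (∀ x, Sends w (A x) v (u x)) → ∀ x, u x = u 0 := by
    intro v u hu
    choose c hc using hu
    obtain ⟨e, he, hev⟩ := hS.block_unit (hS.mem_const v)
    have m1 : f * e * f⁻¹ ∈ blocks M := mul_mem (mul_mem hf he) (inv_mem hf)
    obtain ⟨s, hs, hsv⟩ := hS.block_unit (bd_affine_eq h v ▸ (hS.mem_quad 0 v.1 0).mul (hS.mem_shear v.2))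
    have m2 : f * s * f⁻¹ ∈ blocks M := mul_mem (mul_mem hf hs) (inv_mem hf)
    have a1 := hS.affine hp (mem_blocks.1 m1) (c := c) (v := u) fun x => by
      have e := congrArg (fun X => X * ((f x)⁻¹ : GL Z F).val) (hc x)
      simp only [smul_mul_assoc, mul_assoc] at e
      rw [Pi.mul_apply, Pi.mul_apply, Pi.inv_apply, Units.val_mul, Units.val_mul, hfv, hev, mul_assoc, e, ← hfv,
        Units.mul_inv, mul_one]
    have hsend : ∀ x : Z, Sends w (A x) (x * v.1, x * v.2) (x * (u x).1, x * (u x).2) := by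
      intro x
      have : ∀ x : Z, x = 0 ∨ x = 1 ∨ x = 1 + 1 := by decide
      rcases this x with hx | hx | hx <;> subst hx
      · simpa [← Prod.zero_eq_mk] using Sends.zero (w := w) (A 0)
      · simp only [one_mul, Prod.mk.eta]; exact ⟨c 1, hc 1⟩
      · have e1 : ∀ p : Z × Z, (((1 : Z) + 1) * p.1, ((1 : Z) + 1) * p.2) = p + p := fun p =>
          Prod.ext (by simp only [Prod.fst_add]; ring) (by simp only [Prod.snd_add]; ring)
        rw [e1, e1]
        exact (show Sends w (A (1 + 1)) v (u (1 + 1)) from ⟨c _, hc _⟩).add h (show Sends w (A (1 + 1)) v (u (1 + 1)) from ⟨c _, hc _⟩)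
    choose d hd using hsend
    have a2 := hS.affine hp (mem_blocks.1 m2) (c := d) (v := fun x => (x * (u x).1, x * (u x).2)) fun x => by
      have e := congrArg (fun X => X * ((f x)⁻¹ : GL Z F).val) (hd x)
      simp only [smul_mul_assoc, mul_assoc] at e
      rw [Pi.mul_apply, Pi.mul_apply, Pi.inv_apply, Units.val_mul, Units.val_mul, hfv, hsv, mul_assoc, e, ← hfv,
        Units.mul_inv, mul_one]
    have h21 : u 2 = u 1 := by
      have := congrArg Prod.fst a2
      have := congrArg Prod.snd a2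
      have key : ∀ p q : Z, 2 * p + 0 = 1 * q + 1 * q → p = q := by decide
      exact Prod.ext (key _ _ (by simpa using congrArg Prod.fst a2)) (key _ _ (by simpa using congrArg Prod.snd a2))
    have h10 : u 0 = u 1 := by rw [h21] at a1; exact add_left_cancel a1
    intro x
    have : ∀ x : Z, x = 0 ∨ x = 1 ∨ x = 2 := by decide
    rcases this x with hx | hx | hx <;> subst hx
    · rfl
    · exact h10.symm
    · exact h21.trans h10.symm
  have eα := halike _ α hα
  have eβ := halike _ β hβ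
  have hdetab : (α 0).1 * (β 0).2 - (β 0).1 * (α 0).2 = 1 := by
    obtain ⟨c, hc⟩ := hα 0
    obtain ⟨d, hd⟩ := hβ 0
    have e1 : A 0 * (v3 w (1, 0) * v3 w (0, 1)) = (c * d) • (v3 w (α 0) * v3 w (β 0) * A 0) := by
      rw [← mul_assoc, hc, smul_mul_assoc, mul_assoc, hd, mul_smul_comm, smul_smul, mul_assoc]
    have e2 : A 0 * (v3 w (0, 1) * v3 w (1, 0)) = (c * d) • (v3 w (β 0) * v3 w (α 0) * A 0) := by
      rw [← mul_assoc, hd, smul_mul_assoc, mul_assoc, hc, mul_smul_comm, smul_smul, mul_assoc, mul_comm d]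
    rw [v3, v3, h.w3_comm, mul_smul_comm, e2, v3, v3, h.w3_comm (α 0).1, smul_mul_assoc, smul_smul,
      smul_smul] at e1
    have hne : (v3 w (β 0) * v3 w (α 0) * A 0 : Matrix Z Z F) ≠ 0 := fun e0 => by
      have := congrArg Matrix.det e0
      rw [det_mul, det_mul, det_zero] at this
      simp [det_w3_ne h, hdet 0] at this
    have hcd : c * d ≠ 0 := fun e0 => by
      rw [e0, zero_smul] at e2
      have := congrArg Matrix.det e2
      simp [det_mul, det_w3_ne h, hdet 0] at this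
    have e3 := smul_left_injective F hne e1
    rw [mul_comm (c * d)] at e3
    have := h.ch_inj (mul_right_cancel₀ hcd e3)
    linear_combination -this
  obtain ⟨k₁, k₂, n, hW1, hW2⟩ := exists_word h hdetab
  obtain ⟨W, hW⟩ : ∃ W : Matrix Z Z F, W = (diagonal fun y : Z => ch w (k₂ * (y * y))) *
      phi w ^ n * (diagonal fun y : Z => ch w (k₁ * (y * y))) := ⟨_, rfl⟩
  rw [← hW] at hW1 hW2
  have hWm : Mem M (bd fun _ => W) := by
    have := ((hS.mem_phase k₂).mul (hS.mem_phi_pow n)).mul (hS.mem_phase k₁)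
    rwa [bd_mul, bd_mul, ← hW] at this
  have hWn : Nm3 w W := hW ▸ nm3_of_sends fun u => by
    obtain ⟨u1, e1⟩ := (nm3_phase h k₁).sends u
    obtain ⟨u2, e2⟩ : ∃ u2, Sends w (phi w ^ n) u1 u2 := by
      clear e1 hW hWm hW1 hW2
      induction n with
      | zero => exact ⟨u1, by rw [pow_zero]; exact Sends.one u1⟩
      | succ n ih => obtain ⟨u2, e2⟩ := ih; exact ⟨_, by rw [pow_succ']; exact (sends_phi h u2).mul e2⟩
    obtain ⟨u3, e3⟩ := (nm3_phase h k₂).sends u2
    exact ⟨u3, (e3.mul e2).mul e1⟩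
  obtain ⟨g, hg, hgv⟩ := hS.block_unit hWm
  have hone : ∀ x v v', Sends w W v v' → Sends w (A x) v v' →
      Sends w (((g x)⁻¹ * f x : GL Z F) : Matrix Z Z F) v v := by
    intro x v v' hw hx
    obtain ⟨c, hc⟩ := hw
    obtain ⟨d, hd⟩ := hx
    refine ⟨d * c⁻¹, ?_⟩
    have hc0 : c ≠ 0 := fun e0 => by
      rw [e0, zero_smul, ← hgv x] at hc
      have := congrArg Matrix.det hc
      simp [det_mul, det_w3_ne h] at this
      exact ((Matrix.isUnit_iff_isUnit_det _).1 (g x).isUnit).ne_zero this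
    have e : v3 w v' * W = c⁻¹ • (W * v3 w v) := by rw [hc, smul_smul, inv_mul_cancel₀ hc0, one_smul]
    have e' : ((g x)⁻¹ : GL Z F).val * v3 w v' = c⁻¹ • (v3 w v * ((g x)⁻¹ : GL Z F).val) := by
      have := congrArg (fun X => ((g x)⁻¹ : GL Z F).val * X * ((g x)⁻¹ : GL Z F).val) e
      simp only [← hgv x, mul_smul_comm, smul_mul_assoc] at this
      simp only [mul_assoc, Units.mul_inv, mul_one] at this
      rwa [← mul_assoc ((g x)⁻¹ : GL Z F).val (g x : Matrix Z Z F), Units.inv_mul, one_mul] at this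
    rw [Units.val_mul, mul_assoc, hfv, hd, mul_smul_comm, ← mul_assoc, e', smul_mul_assoc, smul_smul, mul_assoc]
  have hB : g⁻¹ * f ∈ blocks M := mul_mem (inv_mem hg) hf
  have hval : ∀ x, ∃ (c : F) (v : Z × Z), ((g⁻¹ * f) x : Matrix Z Z F) = c • v3 w v := fun x => by
    rw [Pi.mul_apply, Pi.inv_apply]
    exact eq_w3_of_sends h ((Matrix.isUnit_iff_isUnit_det _).1 ((g x)⁻¹ * f x).isUnit).ne_zero
      (hone x _ _ hW1 (eα x ▸ hα x)) (hone x _ _ hW2 (eβ x ▸ hβ x))
  choose c v hcv using hval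
  have haff := hS.affine hp (mem_blocks.1 hB) hcv
  obtain ⟨u, hu⟩ : ∃ u, u = v 1 - v 0 := ⟨_, rfl⟩
  have hvx : ∀ x, v x = v 0 + (x * u.1, x * u.2) := by
    intro x
    have : ∀ x : Z, x = 0 ∨ x = 1 ∨ x = 1 + 1 := by decide
    rcases this x with hx | hx | hx <;> subst hx
    · simp [← Prod.zero_eq_mk]
    · rw [hu]; exact Prod.ext (by simp) (by simp)
    · rw [show (1 : Z) + 1 = 2 by decide]
      refine add_right_cancel (b := v 0) (haff.trans ?_)
      rw [hu]
      refine Prod.ext ?_ ?_ <;> simp only [Prod.fst_add, Prod.snd_add, Prod.fst_sub, Prod.snd_sub] <;> ring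
  have hdec : ∀ x, ∃ d : F, (((g⁻¹ * f) x : GL Z F) : Matrix Z Z F) =
      v3 w (v 0) * (v3 w (x * u.1, x * u.2) * (d • 1)) := by
    intro x
    refine ⟨c x * (ch w (-((x * u.1) * (v 0).2)))⁻¹, ?_⟩
    rw [hcv, mul_smul_comm, mul_one, mul_smul_comm, v3, v3, v3, h.w3_mul, smul_smul, hvx, mul_assoc,
      inv_mul_cancel₀ (h.ch_ne_zero _), mul_one]
    rfl
  choose d hd using hdec
  obtain ⟨k, hk, hkv⟩ := hS.block_unit (hS.mem_const (v 0))
  obtain ⟨s, hs, hsv⟩ := hS.block_unit (bd_affine_eq h u ▸ (hS.mem_quad 0 u.1 0).mul (hS.mem_shear u.2))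
  have hsc : Mem M (bd fun x => d x • (1 : Matrix Z Z F)) := by
    have := mem_blocks.1 (mul_mem (inv_mem (mul_mem hk hs)) hB)
    refine (congrArg (fun B => Mem M (bd B)) (funext fun x => ?_)).mp this
    rw [Pi.mul_apply, Pi.inv_apply, Pi.mul_apply, Units.val_mul, hd, ← hkv x, ← hsv x, ← mul_assoc,
      ← mul_assoc, mul_assoc _ (k x : Matrix Z Z F), ← Units.val_mul (k x), ← Units.val_mul, inv_mul_cancel,
      Units.val_one, one_mul]
  obtain ⟨t, l, htl⟩ := hS.scalar_blocks hsc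
  have hscn : Nm w (bd fun x => d x • (1 : Matrix Z Z F)) := by
    have e : bd (fun x => d x • (1 : Matrix Z Z F)) = d 0 • (qd w t 0 0 * w9 w (l, 0) 0) := by
      ext i j
      simp only [bd_apply, qd, Matrix.smul_apply, diagonal_mul, w9_apply, Matrix.one_apply,
        smul_eq_mul, add_zero, mul_ite, mul_one, mul_zero, ← ite_and]
      refine if_congr (by simp [Prod.ext_iff]) ?_ rfl
      rw [htl, ← h.ch_add]
      simp [dot]
    rw [e]
    exact ((nm_qd h t 0 0).mul (nm_w9 h _ _)).smul _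
  have hfac : bd A = bd (fun _ => W) * (bd (fun _ => v3 w (v 0)) * (bd (fun x => v3 w (x * u.1, x * u.2)) *
      bd (fun x => d x • (1 : Matrix Z Z F)))) := by
    rw [bd_mul, bd_mul, bd_mul]
    congr 1; funext x
    rw [← hd, ← hgv x, ← Units.val_mul, Pi.mul_apply, Pi.inv_apply, mul_inv_cancel_left, hfv]
  rw [hfac]
  refine (nm_bd_const h hWn).mul ((nm_bd_const h (nm3_w3 h _)).mul ?_)
  rw [bd_affine_eq h]
  exact ((nm_qd h 0 u.1 0).mul (nm_shear h u.2)).mul hscn

end Setup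

end CfsgLib.MaxSub.SlNine
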