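import Cfsg.Agent.Lib.MaxSub.SlNine.Kern
import Cfsg.Agent.Lib.Coprime.Generation

/-!
The centraliser of `zed` in an overgroup normalises the group: transfer at the prime three and coprime action
for the kernel of the action on the eigenspace, then the dichotomy in dimension three.
-/

set_option autoImplicit false
set_option linter.unusedSectionVars false

namespace CfsgLib.MaxSub.SlNine

open Matrix
open scoped MatrixGroups commutatorElement

variable {F : Type*} [Field F] {w : F}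

/-- the elements `w ^ k` times an element of the second factor -/
def cR (M : Subgroup (GL I9 F)) (h : Root w) : Subgroup (centZ M) where
  carrier := {g | ∃ (k : Z) (v : Z × Z), ((g : GL I9 F) : Matrix I9 I9 F) = ch w k • bd fun _ => v3 w v}
  one_mem' := ⟨0, 0, by simp [ch_zero, v3, w3_zero, bd_one]⟩
  mul_mem' := by
    rintro g g' ⟨k, v, e⟩ ⟨k', v', e'⟩
    refine ⟨k + k' + -(v'.1 * v.2), v + v', ?_⟩
    rw [Subgroup.coe_mul, Units.val_mul, e, e', smul_mul_smul_comm, bd_mul, ← h.ch_add, h.ch_add (k + k'),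
      ← smul_smul (ch w (k + k')), ← bd_smul (ch w (-(v'.1 * v.2)))]
    congr 2; funext x
    rw [v3, v3, h.w3_mul]; rfl
  inv_mem' := by
    rintro g ⟨k, v, e⟩
    refine ⟨-k + -(v.1 * v.2), -v, ?_⟩
    rw [Subgroup.coe_inv]
    refine Units.inv_eq_of_mul_eq_one_right ?_
    rw [e, smul_mul_smul_comm, bd_mul, ← h.ch_add]
    simp only [v3, h.w3_mul, Prod.fst_neg, Prod.snd_neg, add_neg_cancel, w3_zero, bd_smul, bd_one, smul_smul,
      ← h.ch_add]
    rw [show k + (-k + -(v.1 * v.2)) + -(-v.1 * v.2) = 0 by ring, ch_zero, one_smul]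

theorem colMat_mul {α β α' β' γ δ : Z × Z} (eγ : γ = α'.1.val • α + α'.2.val • β)
    (eδ : δ = β'.1.val • α + β'.2.val • β) : colMat γ δ = colMat α β * colMat α' β' := by
  subst eγ; subst eδ
  ext i j
  fin_cases i <;> fin_cases j <;>
    simp [colMat, Matrix.mul_apply, Fin.sum_univ_two, ZMod.natCast_zmod_val, mul_comm]

theorem vec_ne : ((1 : Z), (0 : Z)) ≠ 0 ∧ ((0 : Z), (1 : Z)) ≠ 0 ∧ ((1 : Z), (0 : Z)) + (0, 1) ≠ 0 ∧
    ((1 : Z), (0 : Z)) + ((0, 1) + (0, 1)) ≠ 0 := by decide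

theorem fin_three : (1 : Z) ≠ 2 ∧ (1 : Z) * (2 * 2) = 1 ∧ (2 : Z) + 2 = 1 ∧ (1 : Z) + 1 = 2 ∧ (2 : Z) * 2 = 1 := by
  decide

theorem zpow_cases {Γ : Type*} [Group Γ] {t : Γ} (h : t ^ 3 = 1) {x : Γ} (hx : x ∈ Subgroup.zpowers t) :
    x = 1 ∨ x = t ∨ x = t * t := by
  obtain ⟨i, rfl⟩ := Subgroup.mem_zpowers_iff.1 hx
  have e : t ^ i = t ^ (i % 3) := by
    conv_lhs => rw [← Int.emod_add_mul_ediv i 3, _root_.zpow_add, _root_.zpow_mul]
    rw [show t ^ (3 : ℤ) = t ^ 3 from zpow_natCast t 3, h, _root_.one_zpow, mul_one]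
  rw [e]
  have h0 := Int.emod_nonneg i (by norm_num : (3 : ℤ) ≠ 0)
  have h3 := Int.emod_lt_of_pos i (by norm_num : (0 : ℤ) < 3)
  rcases (by omega : i % 3 = 0 ∨ i % 3 = 1 ∨ i % 3 = 2) with e' | e' | e' <;> rw [e']
  · exact .inl (zpow_zero t)
  · exact .inr (.inl (zpow_one t))
  · exact .inr (.inr (zpow_two t))

theorem relIndex_dvd_of_normal_right {Γ : Type*} [Group Γ] [Finite Γ] (P K : Subgroup Γ) [K.Normal] :
    P.relIndex K ∣ P.index := by
  have c : ∀ {H L : Subgroup Γ}, H ≤ L → Nat.card H * H.relIndex L = Nat.card L := fun {H L} hle => by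
    rw [← Subgroup.relIndex_bot_left H, Subgroup.relIndex_mul_relIndex ⊥ H L bot_le hle, Subgroup.relIndex_bot_left]
  have e1 := c (le_sup_left : P ≤ P ⊔ K)
  have e2 := c (le_sup_right : K ≤ P ⊔ K)
  have e3 := c (inf_le_left : P ⊓ K ≤ P)
  have e4 := c (inf_le_right : P ⊓ K ≤ K)
  rw [Subgroup.inf_relIndex_left] at e3
  rw [Subgroup.inf_relIndex_right] at e4
  rw [Subgroup.relIndex_sup_right] at e2
  have hpos : 0 < Nat.card P := Nat.card_pos
  have : Nat.card P * P.relIndex (P ⊔ K) = Nat.card P * P.relIndex K := by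
    rw [e1, ← e2, ← e4, ← e3]; ring
  rw [← Nat.eq_of_mul_eq_mul_left hpos this]
  exact Subgroup.relIndex_dvd_index_of_le le_sup_left

/-- in a nilpotent group an invariant subgroup outside `T` has an element outside `T` with commutators in `T` -/
theorem exists_commutator_mem {Γ : Type*} [Group Γ] {P N T R : Subgroup Γ} [Group.IsNilpotent P] (hNP : N ≤ P)
    (hRP : R ≤ P) (hN : ∀ r ∈ R, ∀ x ∈ N, r * x * r⁻¹ ∈ N) (hlt : ¬ N ≤ T) :
    ∃ u ∈ N, u ∉ T ∧ ∀ r ∈ R, u * r * u⁻¹ * r⁻¹ ∈ T := by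
  by_contra hcon
  push Not at hcon
  obtain ⟨d, hd⟩ := Subgroup.nilpotent_iff_lowerCentralSeries.1 ‹Group.IsNilpotent P›
  obtain ⟨u, huN, huT⟩ := SetLike.not_le_iff_exists.1 hlt
  have key : ∀ i, ∃ v : P, (v : Γ) ∈ N ∧ (v : Γ) ∉ T ∧ v ∈ Subgroup.lowerCentralSeries (⊤ : Subgroup P) i := by
    intro i
    induction i with
    | zero => exact ⟨⟨u, hNP huN⟩, huN, huT, by simp⟩
    | succ i ih =>
      obtain ⟨v, hvN, hvT, hvi⟩ := ih
      obtain ⟨r, hr, hvr⟩ := hcon v hvN hvT
      refine ⟨⁅v, (⟨r, hRP hr⟩ : P)⁆, ?_, ?_, Subgroup.commutator_mem_commutator hvi (Subgroup.mem_top _)⟩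
      · rw [commutatorElement_def]
        push_cast
        rw [show (v : Γ) * r * (v : Γ)⁻¹ * r⁻¹ = (v : Γ) * (r * (v : Γ)⁻¹ * r⁻¹) by group]
        exact N.mul_mem hvN (hN r hr _ (N.inv_mem hvN))
      · rw [commutatorElement_def]
        push_cast
        exact hvr
  obtain ⟨v, -, hvT, hvd⟩ := key d
  rw [hd, Subgroup.mem_bot] at hvd
  exact hvT (hvd ▸ T.one_mem)

theorem cent_cR (M : Subgroup (GL I9 F)) (h : Root w) (hc : ∀ v, Mem M (bd fun _ : Z => v3 w v)) {g : centZ M} :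
    g ∈ Subgroup.centralizer (cR M h : Set (centZ M)) ↔ CommR w ((g : GL I9 F) : Matrix I9 I9 F) := by
  constructor
  · intro hg v
    obtain ⟨r, hr, hre⟩ := hc v
    have hrz : r ∈ centZ M := mem_centZ.2 ⟨hr, by rw [hre]; exact bd_const_comm_zed _⟩
    have := congrArg (fun x : centZ M => ((x : GL I9 F) : Matrix I9 I9 F))
      (Subgroup.mem_centralizer_iff.1 hg ⟨r, hrz⟩ ⟨0, v, by rw [ch_zero, one_smul]; exact hre⟩)
    simpa [hre] using this.symm
  · intro hg
    refine Subgroup.mem_centralizer_iff.2 fun r hr => ?_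
    obtain ⟨k, v, e⟩ := hr
    refine Subtype.ext (Units.ext ?_)
    rw [Subgroup.coe_mul, Subgroup.coe_mul, Units.val_mul, Units.val_mul, e, smul_mul_assoc, mul_smul_comm, hg v]

namespace Setup

variable {M : Subgroup (GL I9 F)} {G S : Subgroup (GL Z F)} (hS : Setup w M G S) [Fintype F] (hp : NoPure w M)
include hS hp

set_option maxHeartbeats 1600000 in
/-- the kernel elements of three-power order commuting with the second factor are powers of `t` -/
theorem three_in_kernel {t : centZ M} (ht : ((t : GL I9 F) : Matrix I9 I9 F) =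
      lft (ch w 2 • diagonal fun y : Z => ch w (1 * (y * y))))
    (htk : aHom M t = 1) {k : centZ M} (hk : aHom M k = 1) (hkR : k ∈ Subgroup.centralizer (cR M hS.root : Set (centZ M)))
    {n m m' : ℕ} (hn : k ^ 3 ^ n = 1) (hm : (k * t) ^ 3 ^ m = 1) (hm' : (k * t * t) ^ 3 ^ m' = 1) :
    k ∈ Subgroup.zpowers t := by
  classical
  have h := hS.root
  haveI : Finite (GL I9 F) := Finite.of_injective (fun g => (g : Matrix I9 I9 F)) fun _ _ => Units.ext
  obtain ⟨C, hC⟩ : ∃ C, C = (aHom M).ker ⊓ Subgroup.centralizer (cR M h : Set (centZ M)) := ⟨_, rfl⟩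
  have hmem : ∀ x : centZ M, x ∈ C ↔ aHom M x = 1 ∧ x ∈ Subgroup.centralizer (cR M h : Set (centZ M)) := fun x => by
    rw [hC, Subgroup.mem_inf, MonoidHom.mem_ker]
  have hCR : ∀ x : C, CommR w (((x : centZ M) : GL I9 F) : Matrix I9 I9 F) := fun x =>
    (cent_cR M h hS.mem_const).1 ((hmem _).1 x.2).2
  have hCk : ∀ x : C, aHom M (x : centZ M) = 1 := fun x => ((hmem _).1 x.2).1
  choose B α β hB hBd hα hβ using fun x : C => hS.exists_act hp (hCR x)
  have huniq : ∀ (x : C) (a b : Z × Z), Sends w (B x) (1, 0) a → Sends w (B x) (0, 1) b →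
      colMat (α x) (β x) = colMat a b := fun x a b ha hb => by
    rw [Sends.unique h (hBd x) (hα x) ha, Sends.unique h (hBd x) (hβ x) hb]
  let ψ : C →* Matrix (Fin 2) (Fin 2) Z :=
    { toFun := fun x => colMat (α x) (β x)
      map_one' := by
        have e : B 1 = 1 := lft_inj (by rw [← hB, lft_one]; rfl)
        rw [huniq 1 (1, 0) (0, 1) (e ▸ Sends.one _) (e ▸ Sends.one _)]
        ext i j; fin_cases i <;> fin_cases j <;> rfl
      map_mul' := fun x y => by
        have e : B (x * y) = B x * B y := lft_inj (by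
          rw [← hB, ← lft_mul, ← hB, ← hB]; rfl)
        rw [huniq (x * y) _ _ (e ▸ (Sends.of_basis h (hα x) (hβ x) (α y)).mul (hα y))
          (e ▸ (Sends.of_basis h (hα x) (hβ x) (β y)).mul (hβ y))]
        exact colMat_mul rfl rfl }
  have hdet : ∀ x, (ψ x).det = 1 := fun x => by
    show (colMat (α x) (β x)).det = 1
    rw [colMat, det_fin_two_of]
    exact det_pair h (hBd x) (hα x) (hβ x)
  have hinj : Function.Injective ψ := by
    refine (injective_iff_map_eq_one ψ).2 fun x hx => ?_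
    have ea : α x = (1, 0) := Prod.ext (congrFun (congrFun hx 0) 0) (congrFun (congrFun hx 1) 0)
    have eb : β x = (0, 1) := Prod.ext (congrFun (congrFun hx 0) 1) (congrFun (congrFun hx 1) 1)
    obtain ⟨c, ⟨a, b⟩, e⟩ := eq_w3_of_sends h (hBd x) (ea ▸ hα x) (eb ▸ hβ x)
    have hsym := comm_zed.1 (centZ_comm (x : centZ M))
    simp only [hB, lft_apply, negFst_apply] at hsym
    have hc : c ≠ 0 := fun e0 => hBd x (by rw [e, e0, zero_smul, det_zero])
    have hs : ∀ i j : Z, B x (-i) (-j) = B x i j := fun i j => by simpa using hsym (i, 0) (j, 0)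
    simp only [e, Matrix.smul_apply, v3, w3_apply, smul_eq_mul] at hs
    have hb : b = 0 := by
      have e1 := hs b 0
      rw [neg_zero, zero_add, if_pos rfl] at e1
      by_contra hne
      rw [if_neg (fun e2 : -b = b => hne (by have : ∀ p : Z, -p = p → p = 0 := by decide
                                             exact this b e2)), mul_zero] at e1
      exact mul_ne_zero hc (h.ch_ne_zero _) e1.symm
    subst hb
    have ha : a = 0 := by
      have e1 := hs 1 1
      rw [add_zero, add_zero, if_pos rfl, if_pos rfl] at e1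
      have e2 := h.ch_inj (mul_left_cancel₀ hc e1)
      have : ∀ a : Z, a * -1 = a * 1 → a = 0 := by decide
      exact this a e2
    subst ha
    have e1 := congrArg Units.val (hCk x)
    rw [aHom_val, hB, acomp_lft, e, show v3 w (((0 : Z), (0 : Z)) : Z × Z) = 1 from w3_zero w] at e1
    have hc1 : c = 1 := by simpa [show (1 : Z) ≠ 2 by decide] using congrFun (congrFun e1 0) 0
    refine Subtype.ext (Subtype.ext (Units.ext ?_))
    rw [hB, e, hc1, show v3 w (((0 : Z), (0 : Z)) : Z × Z) = 1 from w3_zero w, one_smul, lft_one]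
    rfl
  have htR : t ∈ Subgroup.centralizer (cR M h : Set (centZ M)) :=
    (cent_cR M h hS.mem_const).2 fun v => by rw [ht]; exact lft_comm_const _ _
  have htC : t ∈ C := (hmem _).2 ⟨htk, htR⟩
  have hkC : k ∈ C := (hmem _).2 ⟨hk, hkR⟩
  have hψt : ψ ⟨t, htC⟩ = !![1, 2; 0, 1] := by
    have e : B ⟨t, htC⟩ = ch w 2 • diagonal fun y : Z => ch w (1 * (y * y)) :=
      lft_inj ((hB _).symm.trans ht)
    show colMat (α _) (β _) = _
    rw [huniq _ _ _ (e ▸ (sends_phase h 1 (1, 0)).smul _) (e ▸ (sends_phase h 1 (0, 1)).smul _)]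
    ext i j; fin_cases i <;> fin_cases j <;> simp [colMat]
  have hcube : ∀ (x : C) (n : ℕ), x ^ 3 ^ n = 1 → ψ x ^ 3 = 1 := by
    intro x n
    induction n generalizing x with
    | zero => intro hx; rw [pow_zero, pow_one] at hx; rw [hx, map_one, one_pow]
    | succ n ih =>
      intro hx
      rw [pow_succ', pow_mul] at hx
      have h3 := ih (x ^ 3) hx
      rw [map_pow, ← pow_mul] at h3
      have : ∀ A : Matrix (Fin 2) (Fin 2) Z, A.det = 1 → A ^ (3 * 3) = 1 → A ^ 3 = 1 := by decide +kernel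
      exact this _ (hdet x) h3
  have h1 := hcube ⟨k, hkC⟩ n (Subtype.ext (by rw [Subgroup.coe_pow]; exact hn))
  have h2 := hcube (⟨k, hkC⟩ * ⟨t, htC⟩) m (Subtype.ext (by rw [Subgroup.coe_pow, Subgroup.coe_mul]; exact hm))
  have h3 := hcube (⟨k, hkC⟩ * ⟨t, htC⟩ * ⟨t, htC⟩) m' (Subtype.ext (by rw [Subgroup.coe_pow, Subgroup.coe_mul, Subgroup.coe_mul]; exact hm'))
  rw [map_mul, hψt] at h2
  rw [map_mul, map_mul, hψt] at h3
  have : ∀ A : Matrix (Fin 2) (Fin 2) Z, A.det = 1 → A ^ 3 = 1 → (A * !![1, 2; 0, 1]) ^ 3 = 1 →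
      (A * !![1, 2; 0, 1] * !![1, 2; 0, 1]) ^ 3 = 1 →
      A = 1 ∨ A = !![1, 2; 0, 1] ∨ A = !![1, 2; 0, 1] ^ 2 := by decide +kernel
  rcases this _ (hdet _) h1 h2 h3 with e | e | e
  · have := congrArg Subtype.val (hinj (e.trans (map_one ψ).symm))
    exact (show k = 1 from this) ▸ one_mem _
  · have := congrArg Subtype.val (hinj (e.trans hψt.symm))
    exact (show k = t from this) ▸ Subgroup.mem_zpowers t
  · have := congrArg Subtype.val (hinj (a₂ := ⟨t, htC⟩ ^ 2) (e.trans (by rw [map_pow, hψt])))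
    exact (show k = t ^ 2 from this) ▸ Subgroup.npow_mem_zpowers t 2

set_option maxHeartbeats 1600000 in
/-- the kernel of the action on the eigenspace centralises the second factor -/
theorem kernel_le {t : centZ M} (ht : ((t : GL I9 F) : Matrix I9 I9 F) =
      lft (ch w 2 • diagonal fun y : Z => ch w (1 * (y * y))))
    (htk : aHom M t = 1) :
    (aHom M).ker ≤ Subgroup.centralizer (cR M hS.root : Set (centZ M)) := by
  classical
  have h := hS.root
  haveI : Finite (GL I9 F) := Finite.of_injective (fun g => (g : Matrix I9 I9 F)) fun _ _ => Units.ext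
  haveI : Fact (Nat.Prime 3) := ⟨Nat.prime_three⟩
  obtain ⟨C, hC⟩ : ∃ C, C = Subgroup.centralizer (cR M h : Set (centZ M)) := ⟨_, rfl⟩
  obtain ⟨T, hT⟩ : ∃ T, T = Subgroup.zpowers t := ⟨_, rfl⟩
  have ht3 : t ^ 3 = 1 := by
    refine Subtype.ext (Units.ext ?_)
    rw [Subgroup.coe_pow, Units.val_pow_eq_pow_val, ht, pow_three, lft_mul, lft_mul, smul_mul_smul_comm,
      smul_mul_smul_comm, diagonal_mul_diagonal, diagonal_mul_diagonal]
    have e : (fun i : Z => ch w (1 * (i * i)) * (ch w (1 * (i * i)) * ch w (1 * (i * i)))) = fun _ => 1 :=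
      funext fun i => by rw [← pow_three, h.ch_cube]
    rw [e, diagonal_one, ← pow_three, h.ch_cube, one_smul, lft_one]
    rfl
  have hT3 : IsPGroup 3 T := by
    rintro ⟨x, hx⟩
    obtain ⟨i, rfl⟩ := Subgroup.mem_zpowers_iff.1 (hT ▸ hx)
    exact ⟨1, Subtype.ext (by
      show (t ^ i) ^ (3 ^ 1) = 1
      rw [pow_one, ← zpow_natCast, ← _root_.zpow_mul, mul_comm, _root_.zpow_mul, zpow_natCast, ht3, _root_.one_zpow])⟩
  have htR : t ∈ C := hC ▸ (cent_cR M h hS.mem_const).2 fun v => by rw [ht]; exact lft_comm_const _ _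
  have hR3 : IsPGroup 3 (cR M h) := by
    rintro ⟨g, k, v, e⟩
    refine ⟨1, Subtype.ext (Subtype.ext (Units.ext ?_))⟩
    show ((g : GL I9 F) ^ (3 ^ 1) : GL I9 F).val = 1
    rw [pow_one, Units.val_pow_eq_pow_val, e, smul_pow, h.ch_cube, one_smul, pow_three, bd_mul, bd_mul, v3,
      ← bd_one]
    congr 1; funext x
    rw [h.w3_mul, mul_smul_comm, h.w3_mul, smul_smul, ← h.ch_add]
    have : ∀ a b : Z, -(a * b) + -((a + a) * b) = 0 ∧ a + (a + a) = 0 := fun a b => by
      have h3 : (3 : Z) = 0 := rfl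
      exact ⟨by linear_combination (-(a * b)) * h3, by linear_combination a * h3⟩
    rw [(this _ _).1, (this v.1 0).2, (this v.2 0).2, ch_zero, one_smul, w3_zero]
  have hnorm : cR M h ≤ Subgroup.normalizer (T : Set (centZ M)) := fun r hr => by
    have hrt : r * t = t * r := Subgroup.mem_centralizer_iff.1 (hC ▸ htR) r hr
    refine Subgroup.mem_normalizer_fintype fun x hx => ?_
    obtain ⟨i, rfl⟩ := Subgroup.mem_zpowers_iff.1 (hT ▸ hx)
    rw [((show Commute r t from hrt).zpow_right i).eq, mul_inv_cancel_right]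
    exact hT ▸ Subgroup.zpow_mem_zpowers t i
  obtain ⟨P, hP⟩ := (hR3.to_sup_of_normal_right' hT3 hnorm).exists_le_sylow
  obtain ⟨U, hU⟩ : ∃ U, U = (P : Subgroup (centZ M)) ⊓ (aHom M).ker := ⟨_, rfl⟩
  have hTU : T ≤ U := hU ▸ le_inf (le_sup_right.trans hP) (hT ▸ Subgroup.zpowers_le.2 htk)
  -- the fixed points of the second factor in `U`
  have hfix : ∀ x ∈ U, x ∈ C → x ∈ T := by
    intro x hx hxC
    have hxP : x ∈ (P : Subgroup (centZ M)) ∧ x ∈ (aHom M).ker := Subgroup.mem_inf.1 (hU ▸ hx)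
    have htP : t ∈ (P : Subgroup (centZ M)) :=
      (Subgroup.mem_inf.1 (hU ▸ hTU (hT ▸ Subgroup.mem_zpowers t))).1
    obtain ⟨n, hn⟩ := P.isPGroup' ⟨x, hxP.1⟩
    obtain ⟨m, hm⟩ := P.isPGroup' ⟨x * t, mul_mem hxP.1 htP⟩
    obtain ⟨m', hm'⟩ := P.isPGroup' ⟨x * t * t, mul_mem (mul_mem hxP.1 htP) htP⟩
    rw [hT]
    exact hS.three_in_kernel hp ht htk hxP.2 (hC ▸ hxC) (congrArg Subtype.val hn) (congrArg Subtype.val hm)
      (congrArg Subtype.val hm')
  have hUT : U ≤ T := by
    by_contra hne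
    have hUP : IsPGroup 3 U := P.isPGroup'.to_le (hU ▸ inf_le_left)
    haveI : Group.IsNilpotent U := hUP.isNilpotent
    obtain ⟨N, hN⟩ : ∃ N, N = U ⊓ Subgroup.normalizer (T : Set (centZ M)) := ⟨_, rfl⟩
    have hlt : ¬ N ≤ T := by
      intro hle
      have h1 : Subgroup.normalizer ((T.subgroupOf U) : Set U) ≤ T.subgroupOf U := fun x hx => by
        rw [← Subgroup.subgroupOf_normalizer_eq hTU, Subgroup.mem_subgroupOf] at hx
        exact Subgroup.mem_subgroupOf.2 (hle (hN ▸ Subgroup.mem_inf.2 ⟨x.2, hx⟩))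
      have h2 := normalizerCondition_of_isNilpotent (G := U) (T.subgroupOf U) (lt_top_iff_ne_top.2 fun e =>
        hne fun x hx => Subgroup.mem_subgroupOf.1 (e ▸ Subgroup.mem_top (⟨x, hx⟩ : U)))
      exact absurd (le_antisymm h1 h2.le) h2.ne'
    have hTN : T ≤ N := hN ▸ le_inf hTU Subgroup.le_normalizer
    have hNr : ∀ r ∈ cR M h, ∀ x ∈ N, r * x * r⁻¹ ∈ N := by
      intro r hr x hx
      rw [hN, Subgroup.mem_inf] at hx ⊢
      refine ⟨?_, mul_mem (mul_mem (hnorm hr) hx.2) (inv_mem (hnorm hr))⟩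
      rw [hU, Subgroup.mem_inf] at hx ⊢
      have hrP := hP (Subgroup.mem_sup_left hr)
      exact ⟨mul_mem (mul_mem hrP hx.1.1) (inv_mem hrP), (aHom M).normal_ker.conj_mem _ hx.1.2 r⟩
    -- descend along the lower central series of `P`
    haveI : Group.IsNilpotent P := P.isPGroup'.isNilpotent
    have hNP : N ≤ (P : Subgroup (centZ M)) := fun x hx => by
      rw [hN, Subgroup.mem_inf] at hx
      exact (Subgroup.mem_inf.1 (hU ▸ hx.1)).1
    obtain ⟨u, huN, huT, hu⟩ := exists_commutator_mem (R := cR M h) hNP (le_sup_left.trans hP) hNr hlt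
    have huU : u ∈ U := (hN ▸ huN : u ∈ U ⊓ _).1
    have huk : aHom M u = 1 := (Subgroup.mem_inf.1 (hU ▸ huU)).2
    -- the commutator with `u` kills a line
    obtain ⟨q, hq, hqe⟩ : ∃ q ∈ cR M h, ((q : GL I9 F) : Matrix I9 I9 F) = bd fun _ => v3 w (1, 0) := by
      obtain ⟨r, hr, hre⟩ := hS.mem_const (1, 0)
      exact ⟨⟨r, mem_centZ.2 ⟨hr, by rw [hre]; exact bd_const_comm_zed _⟩⟩,
        ⟨0, (1, 0), by rw [ch_zero, one_smul]; exact hre⟩, hre⟩
    obtain ⟨s, hs, hse⟩ : ∃ s ∈ cR M h, ((s : GL I9 F) : Matrix I9 I9 F) = bd fun _ => v3 w (0, 1) := by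
      obtain ⟨r, hr, hre⟩ := hS.mem_const (0, 1)
      exact ⟨⟨r, mem_centZ.2 ⟨hr, by rw [hre]; exact bd_const_comm_zed _⟩⟩,
        ⟨0, (0, 1), by rw [ch_zero, one_smul]; exact hre⟩, hre⟩
    have hcr : ∀ r ∈ cR M h, ∀ x ∈ T, r * x = x * r := fun r hr x hx => by
      obtain ⟨i, rfl⟩ := Subgroup.mem_zpowers_iff.1 (hT ▸ hx)
      exact ((show Commute r t from Subgroup.mem_centralizer_iff.1 (hC ▸ htR) r hr).zpow_right i).eq
    have hf : ∀ r r' : centZ M, r ∈ cR M h → r' ∈ cR M h →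
        u * (r * r') * u⁻¹ * (r * r')⁻¹ = (u * r * u⁻¹ * r⁻¹) * (u * r' * u⁻¹ * r'⁻¹) := by
      intro r r' hr hr'
      have e := hcr r hr _ (hu r' hr')
      calc u * (r * r') * u⁻¹ * (r * r')⁻¹
          = (u * r * u⁻¹ * r⁻¹) * (r * (u * r' * u⁻¹ * r'⁻¹)) * r⁻¹ := by group
        _ = _ := by rw [e]; group
    have hprod : ∀ (r r' : centZ M) (c c' : F) (v v' : Z × Z),
        ((r : GL I9 F) : Matrix I9 I9 F) = c • (bd fun _ => v3 w v) →
        ((r' : GL I9 F) : Matrix I9 I9 F) = c' • (bd fun _ => v3 w v') →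
        ((r * r' : centZ M) : GL I9 F).val = (c * c' * ch w (-(v'.1 * v.2))) • (bd fun _ => v3 w (v + v')) := by
      intro r r' c c' v v' e e'
      rw [Subgroup.coe_mul, Units.val_mul, e, e', smul_mul_smul_comm, bd_mul,
        show (fun _ : Z => v3 w v * v3 w v') = fun _ => ch w (-(v'.1 * v.2)) • v3 w (v + v') from
          funext fun x => h.w3_mul v.1 v.2 v'.1 v'.2, bd_smul, smul_smul]
    have hgood : ∀ (r : centZ M) (c : F) (v : Z × Z), c ≠ 0 → v ≠ 0 →
        ((r : GL I9 F) : Matrix I9 I9 F) = c • (bd fun _ => v3 w v) → u * r * u⁻¹ * r⁻¹ = 1 → False := by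
      intro r c v hc hv e e1
      have hcomm : u * r = r * u := mul_inv_eq_iff_eq_mul.1 (mul_inv_eq_one.1 e1)
      have e2 := congrArg (fun x : centZ M => ((x : GL I9 F) : Matrix I9 I9 F)) hcomm
      simp only [Subgroup.coe_mul, Units.val_mul, e, mul_smul_comm, smul_mul_assoc] at e2
      have hn := hS.cent_v3 hp hv ⟨_, (mem_centZ.1 u.2).1, rfl⟩ (smul_right_injective _ hc e2)
      exact huT (hfix u huU (hC ▸ (cent_cR M h hS.mem_const).2 (hS.commR_of_nm huk hn)))
    have hq1 : ((q : GL I9 F) : Matrix I9 I9 F) = (1 : F) • (bd fun _ => v3 w (1, 0)) := by rw [one_smul, hqe]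
    have hs1 : ((s : GL I9 F) : Matrix I9 I9 F) = (1 : F) • (bd fun _ => v3 w (0, 1)) := by rw [one_smul, hse]
    have hpow : ∀ x ∈ T, x = 1 ∨ x = t ∨ x = t * t := fun x hx => zpow_cases ht3 (hT ▸ hx)
    have hne2 : t * (t * t) = 1 := by rw [← pow_three, ht3]
    have hss := hprod s s 1 1 _ _ hs1 hs1
    have hqs : u * (q * s) * u⁻¹ * (q * s)⁻¹ = 1 → False := fun e => hgood (q * s) _ _
      (mul_ne_zero (mul_ne_zero one_ne_zero one_ne_zero) (h.ch_ne_zero _)) vec_ne.2.2.1 (hprod q s 1 1 _ _ hq1 hs1) e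
    have hqss : u * (q * (s * s)) * u⁻¹ * (q * (s * s))⁻¹ = 1 → False := fun e => hgood (q * (s * s)) _ _
      (mul_ne_zero (mul_ne_zero one_ne_zero (mul_ne_zero (mul_ne_zero one_ne_zero one_ne_zero) (h.ch_ne_zero _)))
        (h.ch_ne_zero _)) vec_ne.2.2.2 (hprod q (s * s) _ _ _ _ hq1 hss) e
    rw [hf q s hq hs] at hqs
    rw [hf q (s * s) hq (mul_mem hs hs), hf s s hs hs] at hqss
    rcases hpow _ (hu s hs) with es | es | es
    · exact hgood s 1 (0, 1) one_ne_zero vec_ne.2.1 hs1 es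
    · rcases hpow _ (hu q hq) with eq1 | eq1 | eq1
      · exact hgood q 1 (1, 0) one_ne_zero vec_ne.1 hq1 eq1
      · exact hqss (by rw [eq1, es]; exact hne2)
      · exact hqs (by rw [eq1, es, mul_assoc]; exact hne2)
    · rcases hpow _ (hu q hq) with eq1 | eq1 | eq1
      · exact hgood q 1 (1, 0) one_ne_zero vec_ne.1 hq1 eq1
      · exact hqs (by rw [eq1, es]; exact hne2)
      · refine hqss ?_
        rw [eq1, es]
        calc t * t * (t * t * (t * t)) = (t * (t * t)) * (t * (t * t)) := by simp only [mul_assoc]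
          _ = 1 := by rw [hne2, one_mul]
  -- transfer in the kernel
  have hUTeq : U = T := le_antisymm hUT hTU
  have hTK : T ≤ (aHom M).ker := hT ▸ Subgroup.zpowers_le.2 htk
  have hindex : ¬ 3 ∣ (T.subgroupOf (aHom M).ker).index := by
    intro h3
    rw [← Subgroup.relIndex, ← hUTeq, hU, Subgroup.inf_relIndex_right] at h3
    have h4 := relIndex_dvd_of_normal_right (P : Subgroup (centZ M)) (aHom M).ker
    exact P.not_dvd_index (h3.trans h4)
  have hpg : IsPGroup 3 (T.subgroupOf (aHom M).ker) :=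
    hT3.of_equiv (Subgroup.subgroupOfEquivOfLe hTK).symm
  obtain ⟨Ps, hPs⟩ : ∃ Ps : Sylow 3 (aHom M).ker, (Ps : Subgroup (aHom M).ker) = T.subgroupOf (aHom M).ker :=
    ⟨hpg.toSylow hindex, rfl⟩
  have hNC : Subgroup.normalizer ((Ps : Subgroup (aHom M).ker) : Set (aHom M).ker) ≤
      Subgroup.centralizer ((Ps : Subgroup (aHom M).ker) : Set (aHom M).ker) := by
    intro x hx
    rw [hPs] at hx ⊢
    have e1 : (x : centZ M) * t * (x : centZ M)⁻¹ ∈ T := by
      have := (Subgroup.mem_normalizer_iff.1 hx ⟨t, htk⟩).1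
        (Subgroup.mem_subgroupOf.2 (hT ▸ Subgroup.mem_zpowers t))
      simpa [Subgroup.mem_subgroupOf] using this
    obtain ⟨i, hi⟩ := Subgroup.mem_zpowers_iff.1 (hT ▸ e1)
    have hcomm : (x : centZ M) * t = t * x := by
      have hcase := zpow_cases ht3 (Subgroup.zpow_mem_zpowers t i)
      rcases hcase with e | e | e <;> rw [e] at hi
      · rw [conj_eq_one_iff.1 hi.symm]; simp
      · exact mul_inv_eq_iff_eq_mul.1 hi.symm
      · exfalso
        have e2 := congrArg (fun y : centZ M => ((y : GL I9 F) : Matrix I9 I9 F).trace) hi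
        simp only [Subgroup.coe_mul, Subgroup.coe_inv, Units.val_mul, Matrix.trace_units_conj, ht, lft_mul,
          trace_lft, smul_mul_smul_comm, diagonal_mul_diagonal, Matrix.trace_smul, Matrix.trace_diagonal,
          ← h.ch_add, smul_eq_mul] at e2
        have hsum : ∀ f : Z → F, ∑ y, f y = f 0 + f 1 + f 2 := fun f => Fin.sum_univ_three f
        have c1 : ch w 1 = w := pow_one w
        have c2 : ch w 2 = w ^ 2 := rfl
        simp only [hsum, fin_three.2.1, fin_three.2.2.1,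
          fin_three.2.2.2.1, fin_three.2.2.2.2, one_mul, mul_one, mul_zero, add_zero, ch_zero, c1, c2] at e2
        have e3 : (3 : F) * (w * (1 - w)) = 0 := by linear_combination e2
        rcases mul_eq_zero.1 e3 with e4 | e4
        · exact h.three e4
        rcases mul_eq_zero.1 e4 with e4 | e4
        · exact h.ne_zero e4
        · exact h.ne_one (sub_eq_zero.1 e4).symm
    refine Subgroup.mem_centralizer_iff.2 fun y hy => ?_
    obtain ⟨j, hj⟩ := Subgroup.mem_zpowers_iff.1 (hT ▸ Subgroup.mem_subgroupOf.1 hy)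
    refine Subtype.ext ?_
    rw [Subgroup.coe_mul, Subgroup.coe_mul, ← hj]
    exact ((show Commute (x : centZ M) t from hcomm).zpow_right j).eq.symm
  obtain ⟨f, hf⟩ : ∃ f, f = MonoidHom.transferSylow Ps hNC := ⟨_, rfl⟩
  obtain ⟨L, hL⟩ : ∃ L, L = f.ker.map (aHom M).ker.subtype := ⟨_, rfl⟩
  have hL3 : ¬ 3 ∣ Nat.card L := by
    rw [hL, Subgroup.card_map_of_injective (Subgroup.subtype_injective _), hf]
    exact MonoidHom.not_dvd_card_ker_transferSylow Ps hNC
  have hLk : L ≤ (aHom M).ker := hL ▸ Subgroup.map_subtype_le _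
  -- the quotient by the scalars
  obtain ⟨o, ho⟩ : ∃ o : centZ M, ((o : GL I9 F) : Matrix I9 I9 F) = ch w 1 • (1 : Matrix I9 I9 F) := by
    obtain ⟨g, hg, hge⟩ := hS.mem_ch 1
    exact ⟨⟨g, mem_centZ.2 ⟨hg, by rw [hge, smul_mul_assoc, one_mul, mul_smul_comm, mul_one]⟩⟩, hge⟩
  have hzp : ∀ x : centZ M, x ∈ Subgroup.zpowers o ↔
      ∃ k, ((x : GL I9 F) : Matrix I9 I9 F) = ch w k • (1 : Matrix I9 I9 F) := by
    have hn : ∀ n : ℕ, (((o ^ n : centZ M)) : GL I9 F).val = ch w (n : Z) • (1 : Matrix I9 I9 F) := by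
      intro n
      induction n with
      | zero => simp [ch_zero]
      | succ n ih =>
        rw [pow_succ, Subgroup.coe_mul, Units.val_mul, ih, ho, smul_mul_smul_comm, one_mul, ← h.ch_add,
          Nat.cast_succ]
    intro x
    constructor
    · intro hx
      obtain ⟨n, rfl⟩ := mem_powers_iff_mem_zpowers.2 hx
      exact ⟨_, hn n⟩
    · rintro ⟨k, hk⟩
      have : x = o ^ k.val := Subtype.ext (Units.ext (by rw [hn, hk, ZMod.natCast_zmod_val]))
      exact this ▸ Subgroup.npow_mem_zpowers o _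
  haveI : (Subgroup.zpowers o).Normal := ⟨fun x hx g => by
    obtain ⟨k, hk⟩ := (hzp x).1 hx
    refine (hzp _).2 ⟨k, ?_⟩
    rw [Subgroup.coe_mul, Subgroup.coe_mul, Subgroup.coe_inv, Units.val_mul, Units.val_mul, hk, mul_smul_comm,
      mul_one, smul_mul_assoc, Units.mul_inv]⟩
  let π := QuotientGroup.mk' (Subgroup.zpowers o)
  obtain ⟨A, hA⟩ : ∃ A, A = (cR M h).map π := ⟨_, rfl⟩
  have hmemA : ∀ x, x ∈ A ↔ x ∈ (cR M h).map π := fun x => by rw [hA]
  have hAab : IsMulCommutative A := by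
    refine ⟨⟨fun x y => Subtype.ext ?_⟩⟩
    obtain ⟨r, hr, hre⟩ := Subgroup.mem_map.1 ((hmemA _).1 x.2)
    obtain ⟨r', hr', hre'⟩ := Subgroup.mem_map.1 ((hmemA _).1 y.2)
    rw [Subgroup.coe_mul, Subgroup.coe_mul, ← hre, ← hre', ← map_mul, ← map_mul]
    obtain ⟨k, v, e⟩ := hr
    obtain ⟨k', v', e'⟩ := hr'
    refine QuotientGroup.eq.2 ((hzp _).2 ⟨v'.1 * v.2 - v.1 * v'.2, ?_⟩)
    have e1 : (((r * r' : centZ M)) : GL I9 F).val * (ch w (v'.1 * v.2 - v.1 * v'.2) • 1) =
        (((r' * r : centZ M)) : GL I9 F).val := by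
      rw [Subgroup.coe_mul, Subgroup.coe_mul, Units.val_mul, Units.val_mul, e, e', mul_smul_comm, mul_one,
        smul_mul_smul_comm, smul_mul_smul_comm, bd_mul, bd_mul, smul_smul]
      rw [show (fun _ : Z => v3 w v * v3 w v') = fun _ => ch w (v.1 * v'.2 - v'.1 * v.2) • (v3 w v' * v3 w v) from
        funext fun x => h.w3_comm _ _ _ _, bd_smul, smul_smul]
      congr 1
      rw [← h.ch_add, ← h.ch_add, ← h.ch_add, ← h.ch_add]
      congr 1
      ring
    rw [Subgroup.coe_mul, Subgroup.coe_inv, Units.val_mul, ← e1, ← mul_assoc, ← Units.val_mul, inv_mul_cancel,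
      Units.val_one, one_mul]
  have hvinj : ∀ (r r' : centZ M) (v v' : Z × Z) (c c' : F), c ≠ 0 →
      ((r : GL I9 F) : Matrix I9 I9 F) = c • (bd fun _ => v3 w v) →
      ((r' : GL I9 F) : Matrix I9 I9 F) = c' • (bd fun _ => v3 w v') → π r = π r' → v = v' := by
    intro r r' v v' c c' hc e e' hπ
    obtain ⟨k, hk⟩ := (hzp _).1 (QuotientGroup.eq.1 hπ.symm)
    have e1 : ((r : GL I9 F) : Matrix I9 I9 F) = ch w k • ((r' : GL I9 F) : Matrix I9 I9 F) := by
      rw [← mul_one ((r' : GL I9 F) : Matrix I9 I9 F), ← mul_smul_comm, ← hk, Subgroup.coe_mul, Subgroup.coe_inv,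
        Units.val_mul, ← mul_assoc, Units.mul_inv, one_mul]
    rw [e, e', smul_smul, ← bd_smul, ← bd_smul] at e1
    have e2 : v3 w v = (c⁻¹ * (ch w k * c')) • v3 w v' := by
      rw [← smul_smul, ← bd_inj e1 0, smul_smul, inv_mul_cancel₀ hc, one_smul]
    exact Prod.ext (h.w3_inj e2).1 (h.w3_inj e2).2
  have hnc : ¬ IsCyclic A := by
    intro hcyc
    have hexp : Monoid.exponent A ∣ 3 := Monoid.exponent_dvd_of_forall_pow_eq_one fun x => by
      obtain ⟨r, ⟨k, v, e⟩, hre⟩ := Subgroup.mem_map.1 ((hmemA _).1 x.2)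
      refine Subtype.ext ?_
      rw [Subgroup.coe_pow, ← hre, ← map_pow, Subgroup.coe_one, show r ^ 3 = 1 from ?_, map_one]
      refine Subtype.ext (Units.ext ?_)
      rw [Subgroup.coe_pow, Units.val_pow_eq_pow_val, e, smul_pow, h.ch_cube, one_smul, pow_three, bd_mul, bd_mul, v3]
      rw [show ((1 : centZ M) : GL I9 F).val = bd fun _ : Z => (1 : Matrix Z Z F) from bd_one.symm]
      congr 1; funext x
      rw [h.w3_mul, mul_smul_comm, h.w3_mul, smul_smul, ← h.ch_add]
      have h3 : (3 : Z) = 0 := rfl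
      rw [show -(v.1 * v.2) + -((v.1 + v.1) * v.2) = 0 by linear_combination (-(v.1 * v.2)) * h3,
        show v.1 + (v.1 + v.1) = 0 by linear_combination v.1 * h3,
        show v.2 + (v.2 + v.2) = 0 by linear_combination v.2 * h3, ch_zero, one_smul, w3_zero]
    rw [IsCyclic.exponent_eq_card] at hexp
    have hcard : Nat.card A ≤ 3 := Nat.le_of_dvd (by norm_num) hexp
    have hex : ∀ v : Z × Z, ∃ a : A, ∃ r : centZ M,
        ((r : GL I9 F) : Matrix I9 I9 F) = (1 : F) • (bd fun _ => v3 w v) ∧ π r = (a : centZ M ⧸ Subgroup.zpowers o) := by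
      intro v
      obtain ⟨r, hr, hre⟩ := hS.mem_const v
      exact ⟨⟨π ⟨r, mem_centZ.2 ⟨hr, by rw [hre]; exact bd_const_comm_zed _⟩⟩, (hmemA _).2 <| Subgroup.mem_map_of_mem π
        ⟨0, v, by rw [ch_zero, one_smul]; exact hre⟩⟩, ⟨r, _⟩, by rw [one_smul]; exact hre, rfl⟩
    choose a r hr hπ using hex
    have hinj : Function.Injective a := fun v v' e =>
      hvinj _ _ v v' 1 1 one_ne_zero (hr v) (hr v') (by rw [hπ, hπ, e])
    have := Nat.card_le_card_of_injective a hinj
    rw [Nat.card_prod, Nat.card_zmod] at this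
    omega
  have hLnorm : A ≤ Subgroup.normalizer ((L.map π : Subgroup (centZ M ⧸ Subgroup.zpowers o)) : Set _) := by
    rw [hA]
    rintro _ ⟨r, hr, rfl⟩
    refine Subgroup.mem_normalizer_fintype fun x hx => ?_
    obtain ⟨l, hl, rfl⟩ := hx
    refine ⟨r * l * r⁻¹, ?_, by simp⟩
    have hx : r * l * r⁻¹ ∈ (aHom M).ker := (aHom M).normal_ker.conj_mem _ (hLk hl) r
    have hl' := hl
    rw [SetLike.mem_coe, hL] at hl' ⊢
    refine ⟨⟨r * l * r⁻¹, hx⟩, ?_, rfl⟩
    obtain ⟨l', hl'', rfl⟩ := hl'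
    rw [SetLike.mem_coe, MonoidHom.mem_ker] at hl'' ⊢
    have h1 : (⟨r * (aHom M).ker.subtype l' * r⁻¹, hx⟩ : (aHom M).ker) ^ Nat.card L = 1 := by
      refine Subtype.ext ?_
      rw [Subgroup.coe_pow, conj_pow]
      have : ((aHom M).ker.subtype l') ^ Nat.card L = 1 := by
        exact congrArg Subtype.val (pow_card_eq_one' (x := (⟨_, hl⟩ : L)))
      rw [this]; simp
    have h2 := congrArg f h1
    rw [map_pow, map_one] at h2
    obtain ⟨n, hn⟩ := Ps.isPGroup' (f ⟨r * (aHom M).ker.subtype l' * r⁻¹, hx⟩)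
    exact orderOf_eq_one_iff.1 (Nat.eq_one_of_dvd_coprimes
      ((Nat.prime_three.coprime_iff_not_dvd.2 hL3).pow_left n) (orderOf_dvd_of_pow_eq_one hn)
      (orderOf_dvd_of_pow_eq_one h2))
  have hcop' : (Nat.card A).Coprime (Nat.card (L.map π : Subgroup (centZ M ⧸ Subgroup.zpowers o))) := by
    obtain ⟨n, hn⟩ := IsPGroup.iff_card.1 (hA ▸ hR3.map π : IsPGroup 3 A)
    rw [hn]
    exact ((Nat.prime_three.coprime_iff_not_dvd.2 hL3).coprime_dvd_right (Subgroup.card_map_dvd _ _)).pow_left n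
  have hgen := CfsgLib.Coprime.iSup_centralizer_eq hAab hnc hLnorm hcop'
  have hmain : L.map π ≤ (C ⊓ L).map π := by
    rw [← hgen]
    refine iSup_le fun a => ?_
    rintro x ⟨hx, hxa⟩
    obtain ⟨l, hl, rfl⟩ := hx
    obtain ⟨r, ⟨k, v, e⟩, hre⟩ := Subgroup.mem_map.1 ((hmemA _).1 a.2.1)
    have hv : v ≠ 0 := by
      intro hv0
      refine a.2.2 ?_
      rw [← hre, QuotientGroup.mk'_apply, QuotientGroup.eq_one_iff, hzp]
      exact ⟨k, by rw [e, hv0, show v3 w (0 : Z × Z) = 1 from w3_zero w, bd_one]⟩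
    refine Subgroup.mem_map_of_mem π ⟨?_, hl⟩
    have e1 := Subgroup.mem_centralizer_singleton_iff.1 hxa
    rw [← hre, ← map_mul, ← map_mul] at e1
    obtain ⟨i, hi⟩ := (hzp _).1 (QuotientGroup.eq.1 e1.symm)
    have e2 : ((r * l : centZ M) : GL I9 F).val * (ch w i • 1) = ((l * r : centZ M) : GL I9 F).val := by
      rw [← hi, Subgroup.coe_mul _ ((r * l : centZ M)⁻¹), Subgroup.coe_inv, Units.val_mul _ ((l * r : centZ M) : GL I9 F),
        ← mul_assoc, Units.mul_inv, one_mul]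
    rw [mul_smul_comm, mul_one, Subgroup.coe_mul, Subgroup.coe_mul, Units.val_mul, Units.val_mul, e, mul_smul_comm,
      smul_mul_assoc, smul_smul, mul_comm (ch w i), ← smul_smul] at e2
    have e3 := smul_right_injective _ (h.ch_ne_zero k) e2
    have e4 := congrArg acomp e3
    have hl1 : acomp ((l : GL I9 F) : Matrix I9 I9 F) = 1 := by
      rw [← aHom_val, MonoidHom.mem_ker.1 (hLk hl), Units.val_one]
    rw [acomp_smul, acomp_mul (centZ_comm l), acomp_mul (bd_const_comm_zed _), hl1, acomp_bd, one_mul, mul_one]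
      at e4
    have hi1 : ch w i = 1 := smul_left_injective F
      (fun e5 => det_w3_ne h v.1 v.2 (by rw [show w3 w v.1 v.2 = (0 : Matrix Z Z F) from e5, det_zero]))
      (e4.trans (one_smul F _).symm)
    rw [hi1, one_smul] at e3
    have hn := hS.cent_v3 hp hv ⟨_, (mem_centZ.1 l.2).1, rfl⟩ e3.symm
    exact hC ▸ (cent_cR M h hS.mem_const).2 (hS.commR_of_nm (hLk hl) hn)
  have hLC : L ≤ C := by
    intro l hl
    obtain ⟨c, ⟨hc, hcl⟩, hcπ⟩ := hmain (Subgroup.mem_map_of_mem π hl)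
    obtain ⟨k, hk⟩ := (hzp _).1 (QuotientGroup.eq.1 hcπ)
    have hk' : ((c⁻¹ * l : centZ M) : GL I9 F).val = ch w k • 1 := hk
    have e1 := congrArg acomp hk'
    rw [← aHom_val, map_mul, map_inv, MonoidHom.mem_ker.1 (hLk hcl), MonoidHom.mem_ker.1 (hLk hl), inv_one,
      one_mul, Units.val_one, acomp_smul, acomp_one] at e1
    have hk1 : ch w k = 1 := by simpa using (congrFun (congrFun e1 0) 0).symm
    have : c⁻¹ * l = 1 := Subtype.ext (Units.ext (by rw [hk', hk1, one_smul]; rfl))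
    exact inv_mul_eq_one.1 this ▸ hc
  intro k hk
  rw [← hC]
  have hsup := (MonoidHom.ker_transferSylow_isComplement' Ps hNC).sup_eq_top
  rw [← hf] at hsup
  have hle : (⊤ : Subgroup (aHom M).ker) ≤ C.subgroupOf (aHom M).ker := by
    rw [← hsup]
    refine sup_le (fun x hx => ?_) fun x hx => ?_
    · exact Subgroup.mem_subgroupOf.2 (hLC (hL ▸ Subgroup.mem_map_of_mem _ hx))
    · rw [hPs] at hx
      exact Subgroup.mem_subgroupOf.2 ((hT ▸ Subgroup.zpowers_le.2 htR : T ≤ C) (Subgroup.mem_subgroupOf.1 hx))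
  exact Subgroup.mem_subgroupOf.1 (hle (Subgroup.mem_top (⟨k, hk⟩ : (aHom M).ker)))

/-- the centraliser of `zed` normalises, if two is not zero or if all of the block group normalises -/
theorem cent_zed_of (hh : (2 : F) ≠ 0 ∨ ∀ g ∈ G, Nm3 w (g : Matrix Z Z F)) {X : Matrix I9 I9 F} (hX : Mem M X)
    (hXz : X * zed F = zed F * X) : Nm w X := by
  classical
  have h := hS.root
  haveI : Finite (GL I9 F) := Finite.of_injective (fun g => (g : Matrix I9 I9 F)) fun _ _ => Units.ext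
  have hlift : ∀ {Y : Matrix I9 I9 F}, Mem M Y → Y * zed F = zed F * Y →
      ∃ g : centZ M, ((g : GL I9 F) : Matrix I9 I9 F) = Y := by
    rintro Y ⟨g, hg, rfl⟩ hY
    exact ⟨⟨g, mem_centZ.2 ⟨hg, hY⟩⟩, rfl⟩
  have hsy : ∀ B : Matrix Z Z F, (∀ i j, B (-i) (-j) = B i j) → lft B * zed F = zed F * lft B := fun B hB =>
    comm_zed.2 fun i j => by simp [lft_apply, negFst_apply, hB]
  -- the elements `t` and `J` of the kernel
  obtain ⟨t, ht⟩ := hlift (Y := lft (ch w 2 • diagonal fun y : Z => ch w (1 * (y * y)))) (by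
    have h1 := (hS.mem_swap.mul (hS.mem_phase 1)).mul hS.mem_swap
    rw [swap_conj] at h1
    have := (hS.mem_ch 2).mul h1
    rwa [smul_mul_assoc, one_mul, ← lft_smul] at this) (hsy _ fun i j => by
      simp [diagonal_apply])
  obtain ⟨J, hJ⟩ := hlift (Y := lft (phi w)) (by
    have h1 := (hS.mem_swap.mul hS.mem_phi).mul hS.mem_swap
    rwa [swap_conj] at h1) (hsy _ fun i j => by simp [phi])
  have hc1 : ch w 1 = w := pow_one w
  have hc2 : ch w 2 = w ^ 2 := rfl
  have htk : aHom M t = 1 := Units.ext (by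
    rw [aHom_val, ht, acomp_lft, Units.val_one]
    simp [show (1 : Z) ≠ 2 by decide, hc1, hc2]
    rw [← pow_succ, h.cube, one_smul])
  have hJk : aHom M J = 1 := Units.ext (by
    rw [aHom_val, hJ, acomp_lft, Units.val_one]
    have hd : w - w ^ 2 ≠ 0 := fun e => by
      have h0 : w * (1 - w) = 0 := by linear_combination e
      rcases mul_eq_zero.1 h0 with h0 | h0
      · exact h.ne_zero h0
      · exact h.ne_one (sub_eq_zero.1 h0).symm
    simp only [phi, Matrix.smul_apply, Matrix.of_apply, smul_eq_mul, one_mul, hc1, hc2]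
    rw [← mul_sub, inv_mul_cancel₀ hd, one_smul])
  have hKC := hS.kernel_le hp ht htk
  -- lifts of the second factor are exact
  have conjR : ∀ (g : centZ M) (v v' : Z × Z) (c : F), acomp ((g : GL I9 F) : Matrix I9 I9 F) * v3 w v =
      c • (v3 w v' * acomp ((g : GL I9 F) : Matrix I9 I9 F)) →
      ((g : GL I9 F) : Matrix I9 I9 F) * bd (fun _ => v3 w v) =
        c • (bd (fun _ => v3 w v') * (g : GL I9 F)) ∧ ∃ k, c = ch w k := by
    intro g v v' c hc
    have hdv : ∀ u : Z × Z, (v3 w u).det ≠ 0 := fun u => det_w3_ne h _ _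
    obtain ⟨r, hr⟩ := hlift (hS.mem_const v) (bd_const_comm_zed _)
    obtain ⟨r', hr'⟩ := hlift (hS.mem_const v') (bd_const_comm_zed _)
    have hr3 : ∀ u : Z × Z, ∀ x : centZ M, ((x : GL I9 F) : Matrix I9 I9 F) = bd (fun _ => v3 w u) →
        x ^ 3 = 1 ∧ x ∈ cR M h := by
      intro u x hx
      refine ⟨Subtype.ext (Units.ext ?_), 0, u, by rw [ch_zero, one_smul, hx]⟩
      rw [Subgroup.coe_pow, Units.val_pow_eq_pow_val, hx, pow_three, bd_mul, bd_mul, v3,
        show ((1 : centZ M) : GL I9 F).val = bd fun _ : Z => (1 : Matrix Z Z F) from bd_one.symm]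
      congr 1; funext y
      rw [h.w3_mul, mul_smul_comm, h.w3_mul, smul_smul, ← h.ch_add]
      have h3 : (3 : Z) = 0 := rfl
      rw [show -(u.1 * u.2) + -((u.1 + u.1) * u.2) = 0 by linear_combination (-(u.1 * u.2)) * h3,
        show u.1 + (u.1 + u.1) = 0 by linear_combination u.1 * h3,
        show u.2 + (u.2 + u.2) = 0 by linear_combination u.2 * h3, ch_zero, one_smul, w3_zero]
    have ha : (aHom M (g * r * g⁻¹) : Matrix Z Z F) = c • (aHom M r' : Matrix Z Z F) := by
      rw [map_mul, map_mul, map_inv, Units.val_mul, Units.val_mul, aHom_val M r, aHom_val M r', hr, hr', acomp_bd,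
        acomp_bd, aHom_val M g, hc, smul_mul_assoc, mul_assoc, ← aHom_val M g, Units.mul_inv, mul_one]
    have hc3 : c ^ 3 = 1 := by
      have e1 : (g * r * g⁻¹) ^ 3 = 1 := by rw [conj_pow, (hr3 v r hr).1, mul_one, mul_inv_cancel]
      have e2 := congrArg Units.val (congrArg (aHom M) e1)
      rw [map_pow, Units.val_pow_eq_pow_val, ha, smul_pow, ← Units.val_pow_eq_pow_val, ← map_pow,
        (hr3 v' r' hr').1, map_one, Units.val_one] at e2
      simpa using congrFun (congrFun e2 0) 0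
    obtain ⟨k, rfl⟩ := h.eq_ch hc3
    obtain ⟨o, ho⟩ := hlift (hS.mem_ch k) (by simp)
    have hoR : o * r' ∈ cR M h := ⟨k, v', by rw [Subgroup.coe_mul, Units.val_mul, ho, hr', smul_mul_assoc, one_mul]⟩
    obtain ⟨m, hm⟩ : ∃ m, m = g * r * g⁻¹ * (o * r')⁻¹ := ⟨_, rfl⟩
    have hmk : aHom M m = 1 := by
      rw [hm, map_mul, map_inv, mul_inv_eq_one]
      refine Units.ext ?_
      rw [ha, map_mul, Units.val_mul, aHom_val M o, ho, acomp_smul, acomp_one, smul_mul_assoc, one_mul]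
    have hgc : ∀ x : centZ M, x ∈ (aHom M).ker → (g * r * g⁻¹) * x = x * (g * r * g⁻¹) := by
      intro x hx
      have h1 := Subgroup.mem_centralizer_iff.1 (hKC ((aHom M).normal_ker.conj_mem x hx g⁻¹)) r (hr3 v r hr).2
      rw [inv_inv] at h1
      calc g * r * g⁻¹ * x = g * (r * (g⁻¹ * x * g)) * g⁻¹ := by group
        _ = g * ((g⁻¹ * x * g) * r) * g⁻¹ := by rw [h1]
        _ = x * (g * r * g⁻¹) := by group
    have hmc : ∀ x : centZ M, x ∈ (aHom M).ker → Commute m x := by
      intro x hx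
      rw [hm]
      exact ((show Commute (g * r * g⁻¹) x from hgc x hx).mul_left
        (show Commute (o * r') x from Subgroup.mem_centralizer_iff.1 (hKC hx) _ hoR).inv_left)
    have hm3 : m ^ 3 = 1 := by
      have e1 : g * r * g⁻¹ = m * (o * r') := by rw [hm]; group
      have e2 : (g * r * g⁻¹) ^ 3 = 1 := by rw [conj_pow, (hr3 v r hr).1, mul_one, mul_inv_cancel]
      have e3 : (o * r') ^ 3 = 1 := by
        have hc' : Commute o r' := Subtype.ext (Units.ext (by
          rw [Subgroup.coe_mul, Subgroup.coe_mul, Units.val_mul, Units.val_mul, ho, smul_mul_assoc, one_mul,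
            mul_smul_comm, mul_one]))
        rw [hc'.mul_pow, (hr3 v' r' hr').1, mul_one]
        refine Subtype.ext (Units.ext ?_)
        rw [Subgroup.coe_pow, Units.val_pow_eq_pow_val, ho, smul_pow, h.ch_cube, one_smul, one_pow]; rfl
      rw [e1, ((show Commute (o * r') m from Subgroup.mem_centralizer_iff.1 (hKC hmk) _ hoR).symm).mul_pow, e3,
        mul_one] at e2
      exact e2
    have ht3 : t ^ 3 = 1 := by
      refine Subtype.ext (Units.ext ?_)
      rw [Subgroup.coe_pow, Units.val_pow_eq_pow_val, ht, pow_three, lft_mul, lft_mul, smul_mul_smul_comm,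
        smul_mul_smul_comm, diagonal_mul_diagonal, diagonal_mul_diagonal]
      have e : (fun i : Z => ch w (1 * (i * i)) * (ch w (1 * (i * i)) * ch w (1 * (i * i)))) = fun _ => 1 :=
        funext fun i => by rw [← pow_three, h.ch_cube]
      rw [e, diagonal_one, ← pow_three, h.ch_cube, one_smul, lft_one]
      rfl
    have hmt : Commute m t := hmc t htk
    have hmT : m ∈ Subgroup.zpowers t :=
      hS.three_in_kernel hp ht htk hmk (hKC hmk) (n := 1) (m := 1) (m' := 1) (by rw [pow_one]; exact hm3)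
        (by rw [pow_one, hmt.mul_pow, hm3, ht3, mul_one])
        (by rw [pow_one, (hmt.mul_left (Commute.refl t)).mul_pow, hmt.mul_pow, hm3, ht3, mul_one, one_mul])
    have hm1 : m = 1 := by
      obtain ⟨n, hn⟩ := mem_powers_iff_mem_zpowers.2 hmT
      have hn' : m = t ^ (n % 3) := by
        rw [← show t ^ n = m from hn, ← Nat.mod_add_div n 3, pow_add, pow_mul, ht3, one_pow, mul_one, Nat.add_mul_mod_self_left,
          Nat.mod_mod]
      have hmJ := hmc J hJk
      have htJ : ¬ Commute t J := by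
        intro hcm
        have e := congrArg (fun x : centZ M => ((x : GL I9 F) : Matrix I9 I9 F)) hcm.eq
        simp only [Subgroup.coe_mul, Units.val_mul, ht, hJ, lft_mul, smul_mul_assoc, mul_smul_comm] at e
        have e1 := congrFun (congrFun (lft_inj e) 1) 0
        simp only [Matrix.smul_apply, diagonal_mul, mul_diagonal, smul_eq_mul, phi, Matrix.of_apply, mul_zero,
          zero_mul, one_mul, mul_one, ch_zero, hc1] at e1
        have hd : w - w ^ 2 ≠ 0 := fun e => by
          have h0 : w * (1 - w) = 0 := by linear_combination e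
          rcases mul_eq_zero.1 h0 with h0 | h0
          · exact h.ne_zero h0
          · exact h.ne_one (sub_eq_zero.1 h0).symm
        exact h.ne_one (mul_right_cancel₀ (inv_ne_zero hd) (mul_left_cancel₀ (h.ch_ne_zero 2) (e1.trans (by ring))))
      rcases (by omega : n % 3 = 0 ∨ n % 3 = 1 ∨ n % 3 = 2) with e | e | e <;> rw [e] at hn'
      · rw [hn', pow_zero]
      · rw [hn', pow_one] at hmJ
        exact absurd hmJ htJ
      · rw [hn'] at hmJ
        have e2 : (t ^ 2) ^ 2 = t := by rw [← pow_mul, show 2 * 2 = 3 + 1 by norm_num, pow_succ, ht3, one_mul]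
        exact absurd (e2 ▸ hmJ.pow_left 2) htJ
    rw [hm, mul_inv_eq_one] at hm1
    have e1 : g * r = o * r' * g := by rw [← hm1]; group
    have e2 := congrArg (fun x : centZ M => ((x : GL I9 F) : Matrix I9 I9 F)) e1
    simp only [Subgroup.coe_mul, Units.val_mul, hr, hr', ho, smul_mul_assoc, one_mul] at e2
    exact ⟨e2, k, rfl⟩
  -- the dichotomy for the eigenspace
  obtain ⟨g, hg⟩ := hlift hX hXz
  rw [← hg]
  have hle : (aHom M).range ≤ G := by
    rintro _ ⟨x, rfl⟩
    obtain ⟨y, hy, e⟩ := hS.ablock _ ⟨_, (mem_centZ.1 x.2).1, rfl⟩ (centZ_comm x)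
    exact (Units.ext e : y = aHom M x) ▸ hy
  have hdich : (∀ a ∈ (aHom M).range, Nm3 w (a : Matrix Z Z F)) ∨ ((2 : F) ≠ 0 ∧ S ≤ (aHom M).range) := by
    refine hh.elim (fun h2 => ?_) fun hG => Or.inl fun a ha => hG a (hle ha)
    rcases hS.dich (aHom M).range hle
      (fun a ha hn => by
        obtain ⟨x, hx⟩ := hlift (hS.mem_hess a ha hn) (bd_const_comm_zed _)
        exact ⟨x, Units.ext (by rw [aHom_val, hx, acomp_bd])⟩)
      (by
        obtain ⟨x, hx⟩ := hlift (hS.mem_phase 1) (bd_const_comm_zed _)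
        exact ⟨aHom M x, ⟨x, rfl⟩, by rw [aHom_val, hx, acomp_bd]; simp⟩) with hl | hr
    · exact Or.inl hl
    · exact Or.inr ⟨h2, hr⟩
  rcases hdich with hl | ⟨h2, hr⟩
  · -- the eigenspace is normalised
    obtain ⟨α, c, hc⟩ := (hl _ ⟨g, rfl⟩).sends (1, 0)
    rw [aHom_val] at hc
    obtain ⟨hconj, k, hck⟩ := conjR g _ _ c hc
    have hα : α ≠ 0 := by
      intro e0
      have hd : (aHom M g : Matrix Z Z F).det ≠ 0 := ((Matrix.isUnit_iff_isUnit_det _).1 (aHom M g).isUnit).ne_zero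
      rw [e0, show v3 w (0 : Z × Z) = 1 from w3_zero w, one_mul] at hc
      have hI : IsUnit (acomp ((g : GL I9 F) : Matrix I9 I9 F)) := aHom_val M g ▸ (aHom M g).isUnit
      have e1 : v3 w (1, 0) = c • v3 w (0 : Z × Z) := hI.mul_right_injective (by
        simp only [hc, show v3 w (0 : Z × Z) = 1 from w3_zero w, mul_smul_comm, mul_one])
      exact absurd (h.w3_inj e1).1 (by decide)
    obtain ⟨β, hβ⟩ : ∃ β : Z × Z, α.1 * β.2 - β.1 * α.2 = 1 := by
      have : ∀ v : Z × Z, v ≠ 0 → ∃ β : Z × Z, v.1 * β.2 - β.1 * v.2 = 1 := by decide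
      exact this α hα
    obtain ⟨k₁, k₂, n, ⟨d, hd⟩, -⟩ := exists_word h hβ
    obtain ⟨W, hW⟩ : ∃ W : Matrix Z Z F, W = (diagonal fun y : Z => ch w (k₂ * (y * y))) *
        phi w ^ n * (diagonal fun y : Z => ch w (k₁ * (y * y))) := ⟨_, rfl⟩
    rw [← hW] at hd
    have hWm : Mem M (bd fun _ => W) := by
      have := ((hS.mem_phase k₂).mul (hS.mem_phi_pow n)).mul (hS.mem_phase k₁)
      rwa [bd_mul, bd_mul, ← hW] at this
    have hWn : Nm w (bd fun _ : Z => W) := by
      have e : ∀ m : ℕ, (bd fun _ : Z => phi w) ^ m = bd fun _ => phi w ^ m := by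
        intro m
        induction m with
        | zero => simp [bd_one]
        | succ m ih => rw [pow_succ, ih, bd_mul]; simp [pow_succ]
      have := ((nm_bd_const h (nm3_phase h k₂)).mul ((e n) ▸ (nm_bd_const h (nm3_phi h)).pow n)).mul
        (nm_bd_const h (nm3_phase h k₁))
      rwa [bd_mul, bd_mul, ← hW] at this
    obtain ⟨u, hu⟩ := hlift hWm (bd_const_comm_zed _)
    obtain ⟨q, hq⟩ := hlift (hS.mem_const (1, 0)) (bd_const_comm_zed _)
    have hd0 : d ≠ 0 := fun e0 => by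
      rw [e0, zero_smul] at hd
      have := congrArg (fun A : Matrix Z Z F => bd fun _ => A) hd
      rw [← bd_mul, ← hu, ← hq, ← Units.val_mul] at this
      exact ((u : GL I9 F) * q).ne_zero (this.trans (by ext i j; simp [bd_apply]))
    obtain ⟨x, hx⟩ : ∃ x, x = u⁻¹ * g := ⟨_, rfl⟩
    have hxq : ((x : GL I9 F) : Matrix I9 I9 F) * bd (fun _ => v3 w (1, 0)) =
        (c * d⁻¹) • (bd (fun _ => v3 w (1, 0)) * (x : GL I9 F)) := by
      have e1 : ((u : GL I9 F) : Matrix I9 I9 F) * bd (fun _ => v3 w (1, 0)) =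
          d • (bd (fun _ => v3 w α) * (u : GL I9 F)) := by rw [hu, bd_mul, bd_mul, ← bd_smul, hd]
      have e2 : ((u : GL I9 F)⁻¹ : GL I9 F).val * bd (fun _ => v3 w α) =
          d⁻¹ • (bd (fun _ => v3 w (1, 0)) * ((u : GL I9 F)⁻¹ : GL I9 F).val) := by
        have := congrArg (fun A => ((u : GL I9 F)⁻¹ : GL I9 F).val * A * ((u : GL I9 F)⁻¹ : GL I9 F).val) e1
        simp only [mul_smul_comm, smul_mul_assoc, mul_assoc, Units.mul_inv, mul_one] at this
        rw [← mul_assoc, Units.inv_mul, one_mul] at this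
        rw [this, smul_smul, inv_mul_cancel₀ hd0, one_smul]
      rw [hx, Subgroup.coe_mul, Subgroup.coe_inv, Units.val_mul, mul_assoc, hconj, mul_smul_comm, ← mul_assoc, e2,
        smul_mul_assoc, smul_smul, mul_assoc]
    obtain ⟨-, b, hb⟩ := conjR x (1, 0) (1, 0) (c * d⁻¹) (by
      have := congrArg acomp hxq
      rwa [acomp_smul, acomp_mul (bd_const_comm_zed _), acomp_mul (centZ_comm x), acomp_bd] at this)
    obtain ⟨r, hr⟩ := hlift (hS.mem_const (0, b)) (bd_const_comm_zed _)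
    have hrq : ((r : GL I9 F) : Matrix I9 I9 F) * bd (fun _ => v3 w (1, 0)) =
        ch w (-b) • (bd (fun _ => v3 w (1, 0)) * (r : GL I9 F)) := by
      rw [hr, bd_mul, bd_mul, ← bd_smul]
      congr 1; funext y
      rw [v3, v3, h.w3_comm]
      congr 2; simp
    have hn := hS.cent_v3 hp (v := (1, 0)) (by decide)
      (X := ((x * r : centZ M) : GL I9 F).val) ⟨_, (mem_centZ.1 (x * r).2).1, rfl⟩ (by
        rw [Subgroup.coe_mul, Units.val_mul, mul_assoc, hrq, mul_smul_comm, ← mul_assoc, hxq, smul_mul_assoc,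
          smul_smul, hb, ← h.ch_add, neg_add_cancel, ch_zero, one_smul, mul_assoc])
    have e : (g : GL I9 F) = u * ((x * r : centZ M) : GL I9 F) * (r : GL I9 F)⁻¹ := by
      rw [hx, Subgroup.coe_mul, Subgroup.coe_mul, Subgroup.coe_inv]; group
    rw [e, Units.val_mul, Units.val_mul]
    exact ((hu ▸ hWn).mul hn).mul (nm_inv (hr ▸ nm_bd_const h (nm3_w3 h (0, b))))
  · -- the eigenspace is full: impossible
    exfalso
    obtain ⟨a, ha, hae⟩ := hS.flip_mem
    obtain ⟨x, hxa⟩ := hr ha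
    have hx : acomp ((x : GL I9 F) : Matrix I9 I9 F) = diagonal fun y : Z => if y = 0 then (1 : F) else -1 := by
      rw [← aHom_val, hxa, hae]
    obtain ⟨hcomm, -⟩ := conjR x (1, 0) (1, 0) 1 (by
      rw [hx, one_smul, v3, w3, show Equiv.addRight (0 : Z) = 1 from Equiv.ext fun y => add_zero y, pm_one, mul_one,
        diagonal_mul_diagonal, diagonal_mul_diagonal]
      congr 1; funext y; exact mul_comm _ _)
    rw [one_smul] at hcomm
    have hn := hS.cent_v3 hp (v := (1, 0)) (by decide) ⟨_, (mem_centZ.1 x.2).1, rfl⟩ hcomm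
    obtain ⟨c, v', e⟩ := hS.const_of_nm hn (0, 1)
    have e1 := congrArg acomp e
    rw [acomp_smul, acomp_mul (bd_const_comm_zed _), acomp_mul (centZ_comm x), acomp_bd, acomp_bd, hx] at e1
    have e10 := congrFun (congrFun e1 1) 0
    have e21 := congrFun (congrFun e1 2) 1
    have hv2 : v'.2 = 1 := by
      simp only [diagonal_mul, mul_diagonal, Matrix.smul_apply, v3, w3_apply, smul_eq_mul, zero_add, if_true,
        zero_mul, ch_zero, mul_one, show (1 : Z) ≠ 0 by decide, if_false] at e10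
      by_contra hne
      rw [if_neg (Ne.symm hne), mul_zero] at e10
      exact one_ne_zero (neg_eq_zero.1 e10)
    simp only [diagonal_mul, mul_diagonal, Matrix.smul_apply, v3, w3_apply, smul_eq_mul, hv2, zero_add, if_true,
      zero_mul, ch_zero, mul_one, show (1 : Z) ≠ 0 by decide, show (2 : Z) ≠ 0 by decide,
      show (1 : Z) + 1 = 2 by decide, if_false] at e10 e21
    have hsq : ch w (v'.1 * 2) = ch w v'.1 * ch w v'.1 := by
      rw [← h.ch_add, mul_two]
    rw [hsq] at e21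
    have h3 : ch w v'.1 ^ 3 = 1 := h.ch_cube _
    have e5 : ch w v'.1 = -1 := by
      have e6 : c * ch w v'.1 = -1 := by linear_combination -e10
      have e7 : c * ch w v'.1 * ch w v'.1 = 1 := by linear_combination e21
      rw [e6] at e7
      linear_combination -e7
    rw [e5] at h3
    exact h2 (by linear_combination -h3)

/-- the centraliser of `zed` normalises -/
theorem cent_zed (h2 : (2 : F) ≠ 0) {X : Matrix I9 I9 F} (hX : Mem M X) (hXz : X * zed F = zed F * X) : Nm w X :=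
  hS.cent_zed_of hp (Or.inl h2) hX hXz

end Setup

end CfsgLib.MaxSub.SlNine
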