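import Cfsg.Agent.Lib.MaxSub.SlNine.Involution

/-!
An overgroup of the normaliser in dimension nine in which the centraliser of the first sign change normalises
consists of normalising elements: the conjugates of the total sign change are its translates.
-/

set_option autoImplicit false
set_option linter.unusedSectionVars false

namespace CfsgLib.MaxSub.SlNine

open Matrix
open scoped MatrixGroups

variable {F : Type*} [Field F] {w : F}

/-- two involutions are conjugate or centralise a third one -/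
theorem exists_conj_or_comm {Γ : Type*} [Group Γ] [Finite Γ] {y z : Γ} (hy : y * y = 1) (hz : z * z = 1) :
    (∃ k : ℕ, (y * z) ^ k * y * ((y * z) ^ k)⁻¹ = z) ∨
      ∃ k : ℕ, (y * z) ^ k * (y * z) ^ k = 1 ∧ (y * z) ^ k ≠ 1 ∧ y * (y * z) ^ k = (y * z) ^ k * y ∧
        z * (y * z) ^ k = (y * z) ^ k * z := by
  obtain ⟨u, hu⟩ : ∃ u, u = y * z := ⟨_, rfl⟩
  rw [← hu]
  have hyi : y⁻¹ = y := inv_eq_of_mul_eq_one_left hy
  have hzi : z⁻¹ = z := inv_eq_of_mul_eq_one_left hz
  have hui : u⁻¹ = z * y := by rw [hu, _root_.mul_inv_rev, hyi, hzi]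
  have hc : ∀ k : ℕ, y * u ^ k * y⁻¹ = (u ^ k)⁻¹ := fun k => by
    rw [← conj_pow, ← inv_pow, hui, hu, ← mul_assoc y y z, hy, one_mul, hyi]
  rcases Nat.even_or_odd' (orderOf u) with ⟨k, hk | hk⟩
  · refine Or.inr ⟨k, ?_, ?_, ?_, ?_⟩
    · rw [← pow_add, ← two_mul, ← hk, pow_orderOf_eq_one]
    · have := orderOf_pos u
      exact pow_ne_one_of_lt_orderOf (by omega) (by omega)
    · have e : (u ^ k)⁻¹ = u ^ k := inv_eq_of_mul_eq_one_left (by rw [← pow_add, ← two_mul, ← hk, pow_orderOf_eq_one])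
      exact mul_inv_eq_iff_eq_mul.1 ((hc k).trans e)
    · have e : (u ^ k)⁻¹ = u ^ k := inv_eq_of_mul_eq_one_left (by rw [← pow_add, ← two_mul, ← hk, pow_orderOf_eq_one])
      have e1 : y * u ^ k = u ^ k * y := mul_inv_eq_iff_eq_mul.1 ((hc k).trans e)
      have e2 : z = y * u := by rw [hu, ← mul_assoc, hy, one_mul]
      rw [e2, mul_assoc, ← pow_succ' u k, pow_succ u k, ← mul_assoc, e1, mul_assoc]
  · refine Or.inl ⟨k, ?_⟩
    have e1 : y * (u ^ k)⁻¹ = u ^ k * y := by
      have := congrArg (·⁻¹) (hc k)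
      simp only [_root_.mul_inv_rev, inv_inv] at this
      rw [← mul_inv_eq_iff_eq_mul, mul_assoc]
      exact this
    have e2 : u ^ (2 * k) = u⁻¹ := eq_inv_of_mul_eq_one_left (by rw [← pow_succ, ← hk, pow_orderOf_eq_one])
    rw [mul_assoc, e1, ← mul_assoc, ← pow_add, ← two_mul, e2, hui, mul_assoc, hy, mul_one]

variable (h : Root w)
include h

/-- an involution fixing an element up to a scalar commutes with it -/
theorem kappa_one {g : GL I9 F} (hgg : g * g = 1) {q : I9 × I9} {κ : F}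
    (e : (g : Matrix I9 I9 F) * v9 w q = κ • (v9 w q * g)) : κ = 1 := by
  have h2 : κ * κ = 1 := by
    have e2 := congrArg ((g : Matrix I9 I9 F) * ·) e
    simp only [mul_smul_comm] at e2
    rw [← mul_assoc, ← Units.val_mul, hgg, Units.val_one, one_mul, ← mul_assoc, e, smul_mul_assoc, mul_assoc,
      ← Units.val_mul, hgg, Units.val_one, mul_one, smul_smul] at e2
    exact smul_left_injective F (v9_ne h q) (e2.symm.trans (one_smul F _).symm)
  have e3 : v9 w q * v9 w q = ch w (-dot q.1 q.2) • v9 w (-q) := by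
    have : ∀ t : Z, t + t = -t := by decide
    rw [v9_mul h, show q + q = -q from Prod.ext (Prod.ext (this _) (this _)) (Prod.ext (this _) (this _))]
  have e4 : (g : Matrix I9 I9 F) * v9 w (-q) = v9 w (-q) * g := by
    refine smul_right_injective (Matrix I9 I9 F) (h.ch_ne_zero (-dot q.1 q.2)) ?_
    beta_reduce
    rw [← mul_smul_comm, ← smul_mul_assoc, ← e3, ← mul_assoc, e, smul_mul_assoc, mul_assoc (v9 w q), e,
      mul_smul_comm, smul_smul, h2, one_smul, ← mul_assoc]
  have e5 : v9 w (-q) * v9 w q = ch w (-dot q.1 (-q).2) • (1 : Matrix I9 I9 F) := by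
    rw [v9_mul h, neg_add_cancel, v9_zero h]
  have e6 := congrArg ((g : Matrix I9 I9 F) * ·) e5
  simp only [mul_smul_comm, mul_one, ← mul_assoc] at e6
  rw [e4, mul_assoc, e, mul_smul_comm, ← mul_assoc, e5, smul_mul_assoc, one_mul, smul_smul] at e6
  exact mul_right_cancel₀ (h.ch_ne_zero _) ((smul_left_injective F g.ne_zero e6).trans (one_mul _).symm)

/-- an involution of the normaliser that commutes with no element inverts them all -/
theorem inverts_of_not_comm {g : GL I9 F} (hgg : g * g = 1) (hn : Nm w (g : Matrix I9 I9 F))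
    (hno : ∀ q : I9 × I9, (g : Matrix I9 I9 F) * v9 w q = v9 w q * g → q = 0) :
    ∃ σ : I9 × I9 → F, ∀ p, (g : Matrix I9 I9 F) * v9 w p = σ p • (v9 w (-p) * g) := by
  have hN : ∀ p, ∃ σ : F, (g : Matrix I9 I9 F) * v9 w p = σ • (v9 w (-p) * g) := by
    intro p
    obtain ⟨c, a, b, hc⟩ := hn p.1 p.2
    have hc0 : c ≠ 0 := fun e0 => by
      rw [e0, zero_smul] at hc
      have := congrArg Matrix.det hc
      rw [det_mul, det_zero] at this
      exact mul_ne_zero ((Matrix.isUnit_iff_isUnit_det _).1 g.isUnit).ne_zero (det_v9_ne h p) this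
    obtain ⟨q, hq⟩ : ∃ q : I9 × I9, q = (a, b) := ⟨_, rfl⟩
    have hc' : (g : Matrix I9 I9 F) * v9 w p = c • (v9 w q * g) := by rw [hq]; exact hc
    have hq' : (g : Matrix I9 I9 F) * v9 w q = c⁻¹ • (v9 w p * g) := by
      have e2 := congrArg (fun X : Matrix I9 I9 F => (g : Matrix I9 I9 F) * X * g) hc'
      simp only [mul_smul_comm, smul_mul_assoc] at e2
      rw [← mul_assoc, ← Units.val_mul, hgg, Units.val_one, one_mul, mul_assoc (g : Matrix I9 I9 F), mul_assoc (v9 w q),
        ← Units.val_mul, hgg, Units.val_one, mul_one] at e2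
      rw [e2, smul_smul, inv_mul_cancel₀ hc0, one_smul]
    have e : (g : Matrix I9 I9 F) * v9 w (p + q) =
        (ch w (-dot p.1 q.2) * (ch w (-dot q.1 p.2))⁻¹) • (v9 w (p + q) * g) := by
      refine smul_right_injective (Matrix I9 I9 F) (h.ch_ne_zero (-dot q.1 p.2)) ?_
      beta_reduce
      rw [← mul_smul_comm, ← v9_mul h, ← mul_assoc, hc', smul_mul_assoc, mul_assoc (v9 w q), hq', mul_smul_comm,
        smul_smul, mul_inv_cancel₀ hc0, one_smul, ← mul_assoc, v9_mul h, add_comm q p, smul_mul_assoc, smul_smul,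
        mul_comm (ch w (-dot q.1 p.2)), mul_assoc, inv_mul_cancel₀ (h.ch_ne_zero _), mul_one]
    have h0 : p + q = 0 := hno _ (by have := kappa_one h hgg e; rwa [this, one_smul] at e)
    exact ⟨c, by rw [hc', show q = -p from eq_neg_of_add_eq_zero_right h0]⟩
  choose σ hσ using hN
  exact ⟨σ, hσ⟩

/-- two elements that invert everything differ by an element of the group -/
theorem mul_eq_v9 {a b : GL I9 F} {σ σ' : I9 × I9 → F}
    (ha : ∀ p, (a : Matrix I9 I9 F) * v9 w p = σ p • (v9 w (-p) * a))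
    (hb : ∀ p, (b : Matrix I9 I9 F) * v9 w p = σ' p • (v9 w (-p) * b)) :
    ∃ (c : F) (q : I9 × I9), c ≠ 0 ∧ ((a * b : GL I9 F) : Matrix I9 I9 F) = c • v9 w q :=
  eq_v9 h (σ := fun p => σ' p * σ (-p)) fun p => by
    rw [Units.val_mul, mul_assoc, hb, mul_smul_comm, ← mul_assoc, ha, neg_neg, smul_mul_assoc, smul_smul, mul_assoc]

omit h

theorem tau_mul_tau : tau F * tau F = 1 := by
  rw [tau, pm_mul_pm, show Equiv.neg I9 * Equiv.neg I9 = 1 from Equiv.ext fun x => by simp, pm_one]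

/-- the total sign change in the general linear group -/
def tauGL (F : Type*) [Field F] : GL I9 F := ⟨tau F, tau F, tau_mul_tau, tau_mul_tau⟩

theorem tauGL_val : (tauGL F : Matrix I9 I9 F) = tau F := rfl

theorem zedGL_val : (zedGL F : Matrix I9 I9 F) = zed F := rfl

theorem tau_eq : tau F = zed F * ((-pm swp) * zed F * -pm swp) := by
  simp only [zed, neg_mul, mul_neg, neg_neg, pm_mul_pm, tau]
  congr 1

namespace Setup

variable {M : Subgroup (GL I9 F)} {G S : Subgroup (GL Z F)} (hS : Setup w M G S) [Fintype F] (hp : NoPure w M)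
include hS hp

/-- the conjugates of the total sign change are its translates -/
theorem conj_tau (hz : ∀ X : Matrix I9 I9 F, Mem M X → X * zed F = zed F * X → Nm w X)
    (hm1 : Mem M (-1 : Matrix I9 I9 F) → (2 : F) = 0)
    (hnc : ∀ g : GL I9 F, (g : Matrix I9 I9 F) * tau F ≠ zed F * g) {g : GL I9 F} (hg : g ∈ M) :
    ∃ (c : F) (q : I9 × I9), ((g * tauGL F * g⁻¹ : GL I9 F) : Matrix I9 I9 F) = c • (v9 w q * tau F) := by
  have h := hS.root
  haveI : Finite (GL I9 F) := Finite.of_injective (fun g => (g : Matrix I9 I9 F)) fun _ _ => Units.ext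
  have hnc' : ∀ x : GL I9 F, x * tauGL F * x⁻¹ ≠ zedGL F := fun x e => by
    have := congrArg Units.val (mul_inv_eq_iff_eq_mul.1 e)
    rw [Units.val_mul, Units.val_mul, tauGL_val, zedGL_val] at this
    exact hnc x this
  have hzedM : zedGL F ∈ M := by
    obtain ⟨z, hzm, hze⟩ := hS.mem_zed
    rwa [show zedGL F = z from Units.ext (zedGL_val.trans hze.symm)]
  have htauM : tauGL F ∈ M := by
    obtain ⟨z, hzm, hze⟩ := hS.mem_zed.mul ((hS.mem_swap.mul hS.mem_zed).mul hS.mem_swap)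
    rwa [show tauGL F = z from Units.ext (by rw [tauGL_val, tau_eq, hze])]
  have htt : tauGL F * tauGL F = 1 := Units.ext (by rw [Units.val_mul, tauGL_val, tau_mul_tau, Units.val_one])
  have hzz : zedGL F * zedGL F = 1 := Units.ext (by rw [Units.val_mul, zedGL_val, zed_mul_zed, Units.val_one])
  have hzX : ∀ X ∈ M, X * zedGL F = zedGL F * X → Nm w (X : Matrix I9 I9 F) := fun X hX e =>
    hz _ ⟨X, hX, rfl⟩ (by
      have := congrArg Units.val e
      rwa [Units.val_mul, Units.val_mul, zedGL_val] at this)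
  obtain ⟨f, hf, hfe⟩ := hS.mem_swap
  have hfn : Nm w (f : Matrix I9 I9 F) := hfe ▸ nm_neg_swp h
  -- an involution commuting with an element has normalising centraliser, and is not conjugate to the total sign change
  have hcom : ∀ x ∈ M, x * x = 1 → x ≠ 1 → Nm w (x : Matrix I9 I9 F) →
      (∃ q : I9 × I9, q ≠ 0 ∧ (x : Matrix I9 I9 F) * v9 w q = v9 w q * x) →
      (∀ X ∈ M, X * x = x * X → Nm w (X : Matrix I9 I9 F)) ∧ ∀ g : GL I9 F, g * tauGL F * g⁻¹ ≠ x := by
    rintro x hx hxx hx1 hxn ⟨q, hq, hxq⟩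
    obtain ⟨m, hm, hmn, hme⟩ := hS.invol_comm hp hm1 hx hxx hx1 hxn hq hxq
    have hk : f * m * x * (f * m)⁻¹ = zedGL F := by
      refine Units.ext ?_
      have ff : (f : Matrix I9 I9 F) * f = 1 := by
        rw [hfe, neg_mul_neg, pm_mul_pm, show swp * swp = 1 from Equiv.ext fun x => by cases x; rfl, pm_one]
      have fi : f⁻¹ = f := inv_eq_of_mul_eq_one_left (Units.ext (by rw [Units.val_mul, ff, Units.val_one]))
      rw [show f * m * x * (f * m)⁻¹ = f * (m * x * m⁻¹) * f⁻¹ by group, fi, Units.val_mul, Units.val_mul, hme,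
        ← z2_eq, zedGL_val, ← hfe, ← mul_assoc, ← mul_assoc, ff, one_mul, mul_assoc, ff, mul_one]
    refine ⟨fun X hX e => ?_, fun g e => hnc' (f * m * g) ?_⟩
    · have hY := hzX (f * m * X * (f * m)⁻¹) (M.mul_mem (M.mul_mem (M.mul_mem hf hm) hX) (M.inv_mem (M.mul_mem hf hm)))
        (by rw [← hk, show f * m * X * (f * m)⁻¹ * (f * m * x * (f * m)⁻¹) = f * m * (X * x) * (f * m)⁻¹ by group, e]
            group)
      have hfm : Nm w ((f * m : GL I9 F) : Matrix I9 I9 F) := by rw [Units.val_mul]; exact hfn.mul hmn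
      rw [show X = (f * m)⁻¹ * (f * m * X * (f * m)⁻¹) * (f * m) by group, Units.val_mul, Units.val_mul]
      exact ((nm_inv hfm).mul hY).mul hfm
    · rw [← hk, ← e]; group
  obtain ⟨y, hy⟩ : ∃ y, y = g * tauGL F * g⁻¹ := ⟨_, rfl⟩
  rw [← hy]
  have hyM : y ∈ M := hy ▸ M.mul_mem (M.mul_mem hg htauM) (M.inv_mem hg)
  have hyy : y * y = 1 := by
    rw [hy, show g * tauGL F * g⁻¹ * (g * tauGL F * g⁻¹) = g * (tauGL F * tauGL F) * g⁻¹ by group, htt, mul_one,
      mul_inv_cancel]
  have hy1 : y ≠ 1 := fun e => by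
    have e1 : tauGL F = 1 := by
      rw [show tauGL F = g⁻¹ * y * g by rw [hy]; group, e, mul_one, inv_mul_cancel]
    have e2 := congrArg Units.val e1
    rw [tauGL_val, Units.val_one] at e2
    have := congrFun (congrFun e2 ((1 : Z), (0 : Z))) ((2 : Z), (0 : Z))
    rw [tau, pm_apply, if_pos (by decide), one_apply_ne (by decide)] at this
    exact one_ne_zero this
  have hyn : Nm w (y : Matrix I9 I9 F) := by
    by_contra hyn
    have step : ∀ z ∈ M, z * z = 1 → (∀ X ∈ M, X * z = z * X → Nm w (X : Matrix I9 I9 F)) →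
        (∀ x : GL I9 F, x * tauGL F * x⁻¹ ≠ z) → ∃ v : GL I9 F, v * v = 1 ∧ y * v = v * y ∧ z * v = v * z ∧
          (∀ q : I9 × I9, (v : Matrix I9 I9 F) * v9 w q = v9 w q * v → q = 0) ∧
          ∃ σ : I9 × I9 → F, ∀ p, (v : Matrix I9 I9 F) * v9 w p = σ p • (v9 w (-p) * v) := by
      intro z hzM hzz hcz hne
      rcases exists_conj_or_comm hyy hzz with ⟨k, hk⟩ | ⟨k, hkk, hk1, hky, hkz⟩
      · refine absurd ?_ (hne ((y * z) ^ k * g))
        rw [show (y * z) ^ k * g * tauGL F * ((y * z) ^ k * g)⁻¹ = (y * z) ^ k * (g * tauGL F * g⁻¹) * ((y * z) ^ k)⁻¹ by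
          group, ← hy, hk]
      · have hvM : (y * z) ^ k ∈ M := M.pow_mem (M.mul_mem hyM hzM) k
        have hvn := hcz _ hvM hkz.symm
        have hno : ∀ q : I9 × I9, ((y * z) ^ k : GL I9 F).val * v9 w q = v9 w q * ((y * z) ^ k : GL I9 F).val →
            q = 0 := fun q hq => by
          by_contra hq0
          exact hyn ((hcom _ hvM hkk hk1 hvn ⟨q, hq0, hq⟩).1 y hyM hky)
        exact ⟨_, hkk, hky, hkz, hno, inverts_of_not_comm h hkk hvn hno⟩
    obtain ⟨s, hs, hse⟩ := hS.mem_w 0 (1, 0)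
    have hsn : Nm w (s : Matrix I9 I9 F) := hse ▸ nm_w9 h _ _
    obtain ⟨a, haa, hay, haz, hano, σ, hσ⟩ := step _ hzedM hzz hzX hnc'
    obtain ⟨b, -, hby, hbz, -, σ', hσ'⟩ := step (s * zedGL F * s⁻¹)
      (M.mul_mem (M.mul_mem hs hzedM) (M.inv_mem hs))
      (by rw [show s * zedGL F * s⁻¹ * (s * zedGL F * s⁻¹) = s * (zedGL F * zedGL F) * s⁻¹ by group, hzz,
            mul_one, mul_inv_cancel])
      (fun X hX e => by
        have hY := hzX (s⁻¹ * X * s) (M.mul_mem (M.mul_mem (M.inv_mem hs) hX) hs) (by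
          calc s⁻¹ * X * s * zedGL F = s⁻¹ * (X * (s * zedGL F * s⁻¹)) * s := by group
            _ = s⁻¹ * (s * zedGL F * s⁻¹ * X) * s := by rw [e]
            _ = _ := by group)
        rw [show X = s * (s⁻¹ * X * s) * s⁻¹ by group, Units.val_mul, Units.val_mul]
        exact (hsn.mul hY).mul (nm_inv hsn))
      (fun x e => hnc' (s⁻¹ * x) (by
        rw [show s⁻¹ * x * tauGL F * (s⁻¹ * x)⁻¹ = s⁻¹ * (x * tauGL F * x⁻¹) * s by group, e]; group))
    obtain ⟨c, q, hc0, hq⟩ := mul_eq_v9 h hσ hσ'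
    by_cases hq0 : q = 0
    · rw [hq0, v9_zero h] at hq
      have hab : (b : Matrix I9 I9 F) = c • (a : Matrix I9 I9 F) := by
        rw [show b = a * (a * b) by rw [← mul_assoc, haa, one_mul], Units.val_mul, hq, mul_smul_comm, mul_one]
      -- so `a` commutes with the product of the two sign changes
      have hsi : s⁻¹ = s * s := by
        refine inv_eq_of_mul_eq_one_left (Units.ext ?_)
        have e3 : ∀ t : Z, t + t + t = 0 := by decide
        rw [Units.val_mul, Units.val_mul, hse, h.w9_mul, smul_mul_assoc, h.w9_mul, smul_smul]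
        rw [show ((1 : Z), (0 : Z)) + (1, 0) + (1, 0) = 0 from Prod.ext (e3 1) (e3 0)]
        simp [dot, w9_zero, ch_zero]
      have hzs : zedGL F * (s * zedGL F * s⁻¹) = s := by
        have e0 : zedGL F * s = s * s * zedGL F := by
          refine Units.ext ?_
          rw [Units.val_mul, Units.val_mul, Units.val_mul, zedGL_val, hse, zed_w9 h, h.w9_mul]
          rw [show ((1 : Z), (0 : Z)) + (1, 0) = (-(1 : Z), 0) from Prod.ext (by decide) (by simp)]
          simp [dot, ch_zero, ← Prod.zero_eq_mk]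
        calc zedGL F * (s * zedGL F * s⁻¹) = zedGL F * s * zedGL F * s⁻¹ := by group
          _ = s * s * (zedGL F * zedGL F) * s⁻¹ := by rw [e0, mul_assoc (s * s)]
          _ = s := by rw [hzz]; group
      have hz' : (s * zedGL F * s⁻¹) * a = a * (s * zedGL F * s⁻¹) := Units.ext (by
        have e := congrArg Units.val hbz
        simp only [Units.val_mul, hab, mul_smul_comm, smul_mul_assoc] at e ⊢
        exact smul_right_injective (Matrix I9 I9 F) hc0 e)
      have has : a * s = s * a := by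
        rw [← hzs, ← mul_assoc, ← haz, mul_assoc, ← hz', ← mul_assoc]
      have := congrArg Units.val has
      rw [Units.val_mul, Units.val_mul, hse] at this
      exact absurd (hano (0, ((1 : Z), (0 : Z))) this) (by decide)
    · refine hyn (hS.cent_v9 hp hq0 ⟨y, hyM, rfl⟩ ?_)
      have e : y * (a * b) = a * b * y := by rw [← mul_assoc, hay, mul_assoc, hby, ← mul_assoc]
      have e' := congrArg Units.val e
      rw [Units.val_mul y, hq, Units.val_mul _ y, hq, mul_smul_comm, smul_mul_assoc] at e'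
      exact smul_right_injective (Matrix I9 I9 F) hc0 e'
  have hno : ∀ q : I9 × I9, (y : Matrix I9 I9 F) * v9 w q = v9 w q * y → q = 0 := fun q hq => by
    by_contra hq0
    exact (hcom y hyM hyy hy1 hyn ⟨q, hq0, hq⟩).2 g hy.symm
  obtain ⟨σ, hσ⟩ := inverts_of_not_comm h hyy hyn hno
  obtain ⟨c, q, -, hq⟩ := mul_eq_v9 h (b := tauGL F) (σ' := fun _ => 1) hσ
    (fun p => by rw [one_smul]; exact tau_v9 h p)
  refine ⟨c, q, ?_⟩
  rw [show y = y * tauGL F * tauGL F by rw [mul_assoc, htt, mul_one], Units.val_mul, hq, tauGL_val, smul_mul_assoc]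

/-- all elements normalise -/
theorem le_normalizer (hz : ∀ X : Matrix I9 I9 F, Mem M X → X * zed F = zed F * X → Nm w X)
    (hm1 : Mem M (-1 : Matrix I9 I9 F) → (2 : F) = 0)
    (hnc : ∀ g : GL I9 F, (g : Matrix I9 I9 F) * tau F ≠ zed F * g) {g : GL I9 F} (hg : g ∈ M) :
    Nm w (g : Matrix I9 I9 F) := by
  have h := hS.root
  intro a b
  obtain ⟨p, hp'⟩ : ∃ p : I9 × I9, p = (a, b) := ⟨_, rfl⟩
  obtain ⟨m, hm, hme⟩ := hS.mem_w (-p).1 (-p).2
  obtain ⟨c₂, q₂, h2⟩ := hS.conj_tau hp hz hm1 hnc (M.mul_mem hg hm)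
  obtain ⟨c₃, q₃, h3⟩ := hS.conj_tau hp hz hm1 hnc hg
  obtain ⟨t, ht⟩ : ∃ t, t = m * tauGL F * m⁻¹ * tauGL F := ⟨_, rfl⟩
  obtain ⟨k, hk0, hk⟩ : ∃ k : F, k ≠ 0 ∧ (t : Matrix I9 I9 F) = k • v9 w p := by
    have e1 : v9 w (-p) * v9 w p = ch w (-dot p.1 (-p).2) • (1 : Matrix I9 I9 F) := by
      rw [v9_mul h, neg_add_cancel, v9_zero h]
    have e2 : ((m⁻¹ : GL I9 F) : Matrix I9 I9 F) = (ch w (-dot p.1 (-p).2))⁻¹ • v9 w p := by
      have e := congrArg (fun X : Matrix I9 I9 F => (ch w (-dot p.1 (-p).2))⁻¹ • ((m⁻¹ : GL I9 F).val * X)) e1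
      simp only [← mul_assoc, v9, ← hme, Units.inv_mul, one_mul, mul_smul_comm, mul_one, smul_smul,
        inv_mul_cancel₀ (h.ch_ne_zero _), one_smul] at e
      exact e.symm
    have e3 : v9 w (-p) * v9 w (-p) = ch w (-dot (-p).1 (-p).2) • v9 w p := by
      have : ∀ t : Z, -t + -t = t := by decide
      rw [v9_mul h, show -p + -p = p from Prod.ext (Prod.ext (this _) (this _)) (Prod.ext (this _) (this _))]
    refine ⟨(ch w (-dot p.1 (-p).2))⁻¹ * ch w (-dot (-p).1 (-p).2),
      mul_ne_zero (inv_ne_zero (h.ch_ne_zero _)) (h.ch_ne_zero _), ?_⟩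
    rw [ht, Units.val_mul, Units.val_mul, Units.val_mul, e2, tauGL_val,
      show (m : Matrix I9 I9 F) = v9 w (-p) from hme, mul_smul_comm, smul_mul_assoc, mul_assoc (v9 w (-p)),
      tau_v9 h, mul_assoc, mul_assoc (v9 w (-p)) (tau F), tau_mul_tau, mul_one, e3, smul_smul]
  have he : g * t * g⁻¹ = g * m * tauGL F * (g * m)⁻¹ * (g * tauGL F * g⁻¹) := by rw [ht]; group
  have hv := congrArg Units.val he
  rw [Units.val_mul _ (g * tauGL F * g⁻¹), h2, h3, Units.val_mul, Units.val_mul, hk, smul_mul_smul_comm,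
    mul_assoc (v9 w q₂), ← mul_assoc (tau F), tau_v9 h, mul_assoc (v9 w (-q₃)), tau_mul_tau, mul_one, v9_mul h,
    smul_smul, mul_smul_comm, smul_mul_assoc] at hv
  refine ⟨k⁻¹ * (c₂ * c₃ * ch w (-dot (-q₃).1 q₂.2)), (q₂ + -q₃).1, (q₂ + -q₃).2, ?_⟩
  have hv' := congrArg (fun X : Matrix I9 I9 F => k⁻¹ • (X * (g : Matrix I9 I9 F))) hv
  simp only [smul_mul_assoc, smul_smul, inv_mul_cancel₀ hk0, one_smul] at hv'
  rw [mul_assoc, Units.inv_mul, mul_one, hp'] at hv'
  exact hv'

end Setup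

end CfsgLib.MaxSub.SlNine
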