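import Cfsg.Agent.Lib.MaxSub.SlNine.Axis

/-!
The elements that commute with `zed` and with the second factor: they act on the first factor through a
subgroup of `SL₂(3)`.
-/

set_option autoImplicit false
set_option linter.unusedSectionVars false

namespace CfsgLib.MaxSub.SlNine

open Matrix
open scoped MatrixGroups

variable {F : Type*} [Field F] {w : F}

/-- `zed` as a unit -/
def zedGL (F : Type*) [Field F] : GL I9 F := ⟨zed F, zed F, zed_mul_zed, zed_mul_zed⟩

/-- the centraliser of `zed` in a group -/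
def centZ (M : Subgroup (GL I9 F)) : Subgroup (GL I9 F) := M ⊓ Subgroup.centralizer {zedGL F}

theorem mem_centZ {M : Subgroup (GL I9 F)} {g : GL I9 F} :
    g ∈ centZ M ↔ g ∈ M ∧ (g : Matrix I9 I9 F) * zed F = zed F * g := by
  rw [centZ, Subgroup.mem_inf, Subgroup.mem_centralizer_singleton_iff, Units.ext_iff, Units.val_mul, Units.val_mul]
  exact Iff.rfl

theorem centZ_comm {M : Subgroup (GL I9 F)} (g : centZ M) :
    ((g : GL I9 F) : Matrix I9 I9 F) * zed F = zed F * (g : GL I9 F) := (mem_centZ.1 g.2).2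

/-- the action on the eigenspace -/
def aHom (M : Subgroup (GL I9 F)) : centZ M →* GL Z F :=
  MonoidHom.toHomUnits
    { toFun := fun g => acomp ((g : GL I9 F) : Matrix I9 I9 F)
      map_one' := by simp [acomp_one]
      map_mul' := fun g g' => by rw [Subgroup.coe_mul, Units.val_mul, acomp_mul (centZ_comm g')] }

theorem aHom_val (M : Subgroup (GL I9 F)) (g : centZ M) :
    (aHom M g : Matrix Z Z F) = acomp ((g : GL I9 F) : Matrix I9 I9 F) := rfl

/-- commuting with the second factor -/
def CommR (w : F) (X : Matrix I9 I9 F) : Prop :=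
  ∀ v : Z × Z, X * bd (fun _ => v3 w v) = bd (fun _ => v3 w v) * X

theorem trace_lft (B : Matrix Z Z F) : (lft B).trace = 3 * B.trace := by
  simp only [Matrix.trace, Matrix.diag, lft_apply, if_true, Fintype.sum_prod_type, Finset.sum_const,
    Finset.card_univ, ZMod.card, nsmul_eq_mul, ← Finset.mul_sum]
  norm_num

theorem acomp_lft (B : Matrix Z Z F) : acomp (lft B) = (B 1 1 - B 1 2) • 1 := by
  ext y y'
  simp only [acomp_apply, lft_apply, Matrix.smul_apply, Matrix.one_apply, smul_eq_mul]
  split_ifs <;> simp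

/-- the pair of images of the basis as a matrix over the integers mod three -/
def colMat (α β : Z × Z) : Matrix (Fin 2) (Fin 2) Z := !![α.1, β.1; α.2, β.2]

variable (h : Root w)
include h

theorem zed_w9 (a b : I9) : zed F * w9 w a b = w9 w (-a.1, a.2) (-b.1, b.2) * zed F := by
  ext i j
  rw [zed, Matrix.neg_mul, Matrix.mul_neg, Matrix.neg_apply, Matrix.neg_apply, pm_mul_apply, mul_pm_apply,
    w9_apply, w9_apply, neg_inj]
  obtain ⟨i1, i2⟩ := i
  obtain ⟨j1, j2⟩ := j
  refine if_congr ?_ ?_ rfl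
  · show ((-i1, i2) : I9) = (j1, j2) + b ↔ ((i1, i2) : I9) = (-j1, j2) + (-b.1, b.2)
    simp only [Prod.ext_iff, Prod.fst_add, Prod.snd_add]
    constructor <;> rintro ⟨e1, e2⟩ <;> refine ⟨?_, e2⟩ <;> linear_combination -e1
  · show ch w (dot a (-i1, i2)) = ch w (dot (-a.1, a.2) (i1, i2))
    congr 1
    simp only [dot]
    ring

/-- commuting with the second factor means acting on the first -/
theorem eq_lft {X : Matrix I9 I9 F} (hX : CommR w X) : ∃ B, X = lft B := by
  have hq := hX (1, 0)
  have hs := hX (0, 1)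
  have hdiag : ∀ i j : I9, i.2 ≠ j.2 → X i j = 0 := fun i j hij => by
    have e : bd (fun _ : Z => v3 w (1, 0)) = diagonal fun i : I9 => ch w i.2 := by
      ext a b
      rw [bd_apply, diagonal_apply, v3, w3_apply, ← ite_and]
      exact if_congr (by simp [Prod.ext_iff]) (by simp) rfl
    rw [e] at hq
    have := congrFun (congrFun hq i) j
    rw [mul_diagonal, diagonal_mul] at this
    have h2 : (ch w j.2 - ch w i.2) * X i j = 0 := by linear_combination this
    exact (mul_eq_zero.1 h2).resolve_left fun e0 => hij (h.ch_inj (sub_eq_zero.1 e0)).symm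
  have e : bd (fun _ : Z => v3 w (0, 1)) = pm (Equiv.addRight ((0, 1) : I9)) := by
    ext a b
    rw [bd_apply, pm_apply, v3, w3_apply, ← ite_and]
    exact if_congr (by simp [Prod.ext_iff]) (by simp [ch_zero]) rfl
  rw [e] at hs
  have hstep : ∀ x x' y : Z, X (x, y + 1) (x', y + 1) = X (x, y) (x', y) := fun x x' y => by
    have := congrFun (congrFun hs (x, y + 1)) (x', y)
    rw [mul_pm_apply, pm_mul_apply] at this
    simpa using this
  refine ⟨Matrix.of fun x x' => X (x, 0) (x', 0), Matrix.ext fun i j => ?_⟩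
  obtain ⟨x, y⟩ := i
  obtain ⟨x', y'⟩ := j
  rw [lft_apply]
  split_ifs with e
  · dsimp only at e
    subst e
    have : ∀ y : Z, y = 0 ∨ y = 0 + 1 ∨ y = 0 + 1 + 1 := by decide
    rcases this y with hy | hy | hy <;> subst hy <;> simp only [Matrix.of_apply]
    · exact hstep x x' 0
    · exact (hstep x x' (0 + 1)).trans (hstep x x' 0)
  · exact hdiag _ _ e

/-- the determinant of an action is one -/
theorem det_pair {A : Matrix Z Z F} {α β : Z × Z} (hA : A.det ≠ 0) (hα : Sends w A (1, 0) α)
    (hβ : Sends w A (0, 1) β) : α.1 * β.2 - β.1 * α.2 = 1 := by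
  obtain ⟨c, hc⟩ := hα
  obtain ⟨d, hd⟩ := hβ
  have e1 : A * (v3 w (1, 0) * v3 w (0, 1)) = (c * d) • (v3 w α * v3 w β * A) := by
    rw [← mul_assoc, hc, smul_mul_assoc, mul_assoc, hd, mul_smul_comm, smul_smul, mul_assoc]
  have e2 : A * (v3 w (0, 1) * v3 w (1, 0)) = (c * d) • (v3 w β * v3 w α * A) := by
    rw [← mul_assoc, hd, smul_mul_assoc, mul_assoc, hc, mul_smul_comm, smul_smul, mul_assoc, mul_comm d]
  rw [v3, v3, h.w3_comm, mul_smul_comm, e2, v3, v3, h.w3_comm α.1, smul_mul_assoc, smul_smul, smul_smul] at e1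
  have hne : (v3 w β * v3 w α * A : Matrix Z Z F) ≠ 0 := fun e0 => by
    have := congrArg Matrix.det e0
    rw [det_mul, det_mul, det_zero] at this
    simp [det_w3_ne h, hA] at this
  have hcd : c * d ≠ 0 := fun e0 => by
    rw [e0, zero_smul] at e2
    have := congrArg Matrix.det e2
    simp [det_mul, det_w3_ne h, hA] at this
  have e3 := smul_left_injective F hne e1
  rw [mul_comm (c * d)] at e3
  have := h.ch_inj (mul_right_cancel₀ hcd e3)
  linear_combination -this

omit h

namespace Setup

variable {M : Subgroup (GL I9 F)} {G S : Subgroup (GL Z F)} (hS : Setup w M G S)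
include hS

/-- scalar cube roots lie in the group -/
theorem mem_ch (k : Z) : Mem M (ch w k • (1 : Matrix I9 I9 F)) := by
  have h := hS.root
  have := ((hS.mem_w 0 (k, 0)).mul (hS.mem_w (-1, 0) 0)).mul (((hS.mem_w 0 (-k, 0))).mul (hS.mem_w (1, 0) 0))
  rw [h.w9_mul, h.w9_mul, smul_mul_assoc, mul_smul_comm, h.w9_mul, smul_smul, smul_smul] at this
  simpa [dot, ← h.ch_add, ← Prod.zero_eq_mk, w9_zero] using this

/-- the elements of the normaliser commuting with `zed` permute the second factor -/
theorem const_of_nm {g : centZ M} (hg : Nm w ((g : GL I9 F) : Matrix I9 I9 F)) (v : Z × Z) :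
    ∃ (c : F) (v' : Z × Z), ((g : GL I9 F) : Matrix I9 I9 F) * bd (fun _ => v3 w v) =
      c • (bd (fun _ => v3 w v') * (g : GL I9 F)) := by
  have h := hS.root
  obtain ⟨c, a, b, e⟩ := hg (0, v.1) (0, v.2)
  rw [w9_const h] at e
  have e1 := congrArg (zed F * ·) e
  simp only [mul_smul_comm, ← mul_assoc, ← centZ_comm g, zed_w9 h a b] at e1
  rw [mul_assoc ((g : GL I9 F) : Matrix I9 I9 F), ← bd_const_comm_zed, ← mul_assoc,
    show bd (fun _ : Z => w3 w v.1 v.2) = bd fun _ => v3 w v from rfl] at e1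
  have e2 := congrArg (· * zed F) e1
  simp only [mul_assoc, zed_mul_zed, mul_one, smul_mul_assoc] at e2
  rw [centZ_comm g, ← mul_assoc (zed F), zed_mul_zed, one_mul] at e2
  rw [show bd (fun _ : Z => w3 w v.1 v.2) = bd fun _ => v3 w v from rfl] at e
  have hu := (g : GL I9 F).isUnit
  have e3 := hu.mul_left_injective (a₁ := c • w9 w a b) (a₂ := c • w9 w (-a.1, a.2) (-b.1, b.2)) (by
    simp only [smul_mul_assoc]; exact e.symm.trans e2)
  have hc : c ≠ 0 := fun e0 => by
    rw [e0, zero_smul] at e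
    have := congrArg Matrix.det e
    rw [det_mul, bd_det, det_zero] at this
    simp [det_w3_ne h, ((Matrix.isUnit_iff_isUnit_det _).1 hu).ne_zero] at this
  obtain ⟨ea, eb⟩ := h.w9_inj (c := 1) ((smul_right_injective _ hc e3).trans (one_smul F _).symm)
  have key : ∀ p : Z, p = -p → p = 0 := by decide
  refine ⟨c, (a.2, b.2), ?_⟩
  have ea0 : ((0 : Z), a.2) = a := Prod.ext (key a.1 (congrArg Prod.fst ea)).symm rfl
  have eb0 : ((0 : Z), b.2) = b := Prod.ext (key b.1 (congrArg Prod.fst eb)).symm rfl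
  rw [e, v3, ← w9_const h, ea0, eb0]

/-- an element of the kernel that normalises commutes with the second factor -/
theorem commR_of_nm {k : centZ M} (hk : aHom M k = 1) (hn : Nm w ((k : GL I9 F) : Matrix I9 I9 F)) :
    CommR w ((k : GL I9 F) : Matrix I9 I9 F) := by
  intro v
  have h := hS.root
  obtain ⟨c, v', e⟩ := hS.const_of_nm hn v
  have e1 := congrArg acomp e
  have hk' : acomp ((k : GL I9 F) : Matrix I9 I9 F) = 1 := by rw [← aHom_val, hk, Units.val_one]
  rw [acomp_smul, acomp_mul (bd_const_comm_zed _), acomp_mul (centZ_comm k), hk', acomp_bd, acomp_bd, one_mul,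
    mul_one] at e1
  obtain ⟨ea, eb⟩ := h.w3_inj e1
  obtain rfl : v = v' := Prod.ext ea eb
  have hc : c = 1 := by
    have h2 : (1 - c) • v3 w v = 0 := by rw [sub_smul, one_smul, ← e1, sub_self]
    rcases smul_eq_zero.1 h2 with h3 | h3
    · exact (sub_eq_zero.1 h3).symm
    · exact absurd (congrArg Matrix.det h3) (by rw [det_zero]; exact det_w3_ne h _ _)
  rw [e, hc, one_smul]

variable [Fintype F] (hp : NoPure w M)
include hp

/-- elements of the kernel commuting with the second factor: the action on the first -/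
theorem exists_act {k : centZ M} (hk : CommR w ((k : GL I9 F) : Matrix I9 I9 F)) :
    ∃ (B : Matrix Z Z F) (α β : Z × Z), ((k : GL I9 F) : Matrix I9 I9 F) = lft B ∧ B.det ≠ 0 ∧
      Sends w B (1, 0) α ∧ Sends w B (0, 1) β := by
  have h := hS.root
  obtain ⟨B, hB⟩ := eq_lft h hk
  have hn : Nm w ((k : GL I9 F) : Matrix I9 I9 F) :=
    hS.cent_v3 hp (v := (1, 0)) (by decide) ⟨_, (mem_centZ.1 k.2).1, rfl⟩ (hk _)
  have hBd : B.det ≠ 0 := fun e0 => by
    obtain ⟨v, hv, e⟩ := Matrix.exists_mulVec_eq_zero_iff.2 e0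
    refine hv (funext fun x => ?_)
    have e1 : lft B *ᵥ (fun i : I9 => if i.2 = 0 then v i.1 else 0) = 0 := by
      funext i
      rw [Matrix.mulVec, dotProduct, Fintype.sum_prod_type, Pi.zero_apply]
      simp only [lft_apply, mul_ite, mul_zero, ite_mul, zero_mul, Finset.sum_ite_eq', Finset.mem_univ, if_true]
      split_ifs with e2
      · exact congrFun e i.1
      · simp
    rw [← hB] at e1
    have e3 := congrArg (((k : GL I9 F)⁻¹ : GL I9 F).val *ᵥ ·) e1
    simp only [mulVec_mulVec, Units.inv_mul, one_mulVec, mulVec_zero] at e3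
    simpa using congrFun e3 (x, 0)
  have key : ∀ u : Z × Z, ∃ u', Sends w B u u' := by
    intro u
    obtain ⟨c, a, b, e⟩ := hn (u.1, 0) (u.2, 0)
    rw [← lft_w3 h, hB] at e
    have hc : c ≠ 0 := fun e0 => by
      rw [e0, zero_smul, lft_mul] at e
      have e' : B * w3 w u.1 u.2 = 0 := lft_inj (e.trans (by ext i j; simp [lft_apply]))
      have := congrArg Matrix.det e'
      simp [det_mul, det_w3_ne h, hBd] at this
    have hcomm : ∀ v : Z × Z, w9 w a b * bd (fun _ => v3 w v) = bd (fun _ => v3 w v) * w9 w a b := by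
      intro v
      have e1 := congrArg (bd (fun _ : Z => v3 w v) * ·) e
      have e2 := congrArg (· * bd (fun _ : Z => v3 w v)) e
      simp only [← mul_assoc, mul_smul_comm, smul_mul_assoc] at e1 e2
      rw [← lft_comm_const, mul_assoc (lft B), ← lft_comm_const, ← mul_assoc] at e1
      rw [mul_assoc _ (lft B), lft_comm_const B, ← mul_assoc] at e2
      have hu := (k : GL I9 F).isUnit
      rw [hB] at hu
      exact smul_right_injective _ hc (hu.mul_left_injective (by
        simp only [smul_mul_assoc]; exact (e1.symm.trans e2).symm))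
    have hd : ∀ v : Z × Z, dot a (0, v.2) - dot (0, v.1) b = 0 := fun v => by
      have e1 := hcomm v
      rw [v3, ← w9_const h] at e1
      rw [h.w9_comm] at e1
      have hne : (w9 w (0, v.1) (0, v.2) * w9 w a b : Matrix I9 I9 F) ≠ 0 := fun e0 => by
        rw [h.w9_mul, smul_eq_zero] at e0
        rcases e0 with e0 | e0
        · exact h.ch_ne_zero _ e0
        · have := congrFun (congrFun e0 ((0, v.2) + b)) 0
          simp [w9_apply, h.ch_ne_zero] at this
      exact h.ch_eq_one (smul_left_injective F hne (e1.trans (one_smul F _).symm))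
    have ha : a.2 = 0 := by simpa [dot] using hd (0, 1)
    have hb : b.2 = 0 := by simpa [dot] using hd (1, 0)
    refine ⟨(a.1, b.1), c, ?_⟩
    have ea : a = (a.1, 0) := Prod.ext rfl ha
    have eb : b = (b.1, 0) := Prod.ext rfl hb
    rw [ea, eb, ← lft_w3 h, lft_mul, lft_mul, ← lft_smul] at e
    exact lft_inj e
  obtain ⟨α, hα⟩ := key (1, 0)
  obtain ⟨β, hβ⟩ := key (0, 1)
  exact ⟨B, α, β, hB, hBd, hα, hβ⟩

end Setup

end CfsgLib.MaxSub.SlNine
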