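import Cfsg.Agent.Lib.MaxSub.SlNine.CentR
import Cfsg.Agent.Lib.MaxSub.SlNine.Axis
import Cfsg.Agent.Lib.MaxSub.SlNine.Kern

/-!
Centralisers of the elements of the group of dimension nine, and the involutions of its normaliser that commute
with one of them.
-/

set_option autoImplicit false
set_option linter.unusedSectionVars false

namespace CfsgLib.MaxSub.SlNine

open Matrix
open scoped MatrixGroups

variable {F : Type*} [Field F] {w : F}

/-- an element indexed by a pair of vectors -/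
abbrev v9 (w : F) (p : I9 × I9) : Matrix I9 I9 F := w9 w p.1 p.2

/-- sign change of a coordinate of a line -/
def negP (F : Type*) [Field F] : Matrix Z Z F := -pm (Equiv.neg Z)

theorem z2_eq : (-pm swp : Matrix I9 I9 F) * zed F * -pm swp = bd fun _ => negP F := by
  rw [zed, neg_mul_neg, Matrix.mul_neg, pm_mul_pm, pm_mul_pm]
  ext i j
  rw [Matrix.neg_apply, pm_apply, bd_apply, negP, Matrix.neg_apply, pm_apply]
  obtain ⟨a, b⟩ := i
  obtain ⟨a', b'⟩ := j
  rw [Equiv.Perm.mul_apply, Equiv.Perm.mul_apply]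
  show -(if ((a, b) : I9) = (a', -b') then (1 : F) else 0) = _
  simp only [Prod.mk.injEq, Equiv.neg_apply]
  split_ifs <;> simp_all

variable (h : Root w)
include h

theorem v9_mul (p q : I9 × I9) : v9 w p * v9 w q = ch w (-dot q.1 p.2) • v9 w (p + q) := h.w9_mul _ _ _ _

theorem v9_zero : v9 w (0 : I9 × I9) = 1 := w9_zero w

theorem det_v9_ne (p : I9 × I9) : (v9 w p).det ≠ 0 := fun e0 => by
  have := congrArg Matrix.det (v9_mul h p (-p))
  rw [det_mul, e0, zero_mul, det_smul, add_neg_cancel, v9_zero h, det_one, mul_one] at this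
  exact pow_ne_zero _ (h.ch_ne_zero _) this.symm

theorem v9_ne (p : I9 × I9) : v9 w p ≠ 0 := fun e => det_v9_ne h p (by rw [e, det_zero])

theorem tau_v9 (p : I9 × I9) : tau F * v9 w p = v9 w (-p) * tau F := by
  rw [v9, v9, w9, w9, tau, ← mul_assoc, pm_mul_diagonal, mul_assoc, mul_assoc, pm_mul_pm, pm_mul_pm]
  congr 2
  · funext i
    simp only [Equiv.neg_symm, Equiv.neg_apply, Prod.fst_neg, dot, Prod.snd_neg]
    congr 1; ring
  · refine Equiv.ext fun x => ?_
    simp only [Equiv.Perm.mul_apply, Equiv.coe_addRight, Equiv.neg_apply, Prod.snd_neg]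
    abel

theorem negP_v3 (u : Z × Z) : negP F * v3 w u = v3 w (-u) * negP F := by
  rw [negP, Matrix.neg_mul, Matrix.mul_neg, v3, v3, w3, w3, ← mul_assoc, pm_mul_diagonal, mul_assoc, mul_assoc,
    pm_mul_pm, pm_mul_pm, neg_inj]
  congr 2
  · funext i
    simp only [Equiv.neg_symm, Equiv.neg_apply, Prod.fst_neg]
    congr 1; ring
  · refine Equiv.ext fun x => ?_
    simp only [Equiv.Perm.mul_apply, Equiv.coe_addRight, Equiv.neg_apply, Prod.snd_neg]
    ring

/-- what commutes with the group of dimension nine up to scalars is a multiple of an element of it -/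
theorem eq_v9 {X : GL I9 F} {σ : I9 × I9 → F}
    (hX : ∀ p, (X : Matrix I9 I9 F) * v9 w p = σ p • (v9 w p * (X : Matrix I9 I9 F))) :
    ∃ (c : F) (q : I9 × I9), c ≠ 0 ∧ (X : Matrix I9 I9 F) = c • v9 w q := by
  have hd : (X : Matrix I9 I9 F).det ≠ 0 := ((Matrix.isUnit_iff_isUnit_det _).1 X.isUnit).ne_zero
  have hcube : ∀ p, σ p ^ 3 = 1 := by
    intro p
    have h3 : (3 : Z) = 0 := rfl
    have e3 : v9 w p * v9 w p * v9 w p = 1 := by
      rw [v9_mul h, smul_mul_assoc, v9_mul h, smul_smul, ← h.ch_add]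
      rw [show p + p + p = 0 from Prod.ext (Prod.ext (by simp only [Prod.fst_add, Prod.fst_zero, Prod.snd_zero]; linear_combination p.1.1 * h3)
          (by simp only [Prod.fst_add, Prod.snd_add, Prod.fst_zero, Prod.snd_zero]; linear_combination p.1.2 * h3))
          (Prod.ext (by simp only [Prod.fst_add, Prod.snd_add, Prod.fst_zero, Prod.snd_zero]; linear_combination p.2.1 * h3)
          (by simp only [Prod.snd_add, Prod.fst_zero, Prod.snd_zero]; linear_combination p.2.2 * h3)), v9_zero h,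
        show -dot p.1 p.2 + -dot p.1 (p + p).2 = 0 by
          simp only [dot, Prod.snd_add, Prod.fst_add]; linear_combination (-(p.1.1 * p.2.1 + p.1.2 * p.2.2)) * h3,
        ch_zero, one_smul]
    have e : (X : Matrix I9 I9 F) * (v9 w p * v9 w p * v9 w p) =
        σ p ^ 3 • (v9 w p * v9 w p * v9 w p * (X : Matrix I9 I9 F)) := by
      rw [← mul_assoc, ← mul_assoc, hX, smul_mul_assoc, mul_assoc (v9 w p), hX, mul_smul_comm, smul_smul,
        smul_mul_assoc, mul_assoc (v9 w p), mul_assoc (v9 w p) (X : Matrix I9 I9 F), hX, mul_smul_comm,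
        mul_smul_comm, smul_smul, show σ p * σ p * σ p = σ p ^ 3 by ring]
      simp only [mul_assoc]
    rw [e3, mul_one, one_mul] at e
    exact (smul_left_injective F X.ne_zero (e.symm.trans (one_smul F _).symm))
  obtain ⟨k1, hk1⟩ := h.eq_ch (hcube (((1 : Z), (0 : Z)), 0))
  obtain ⟨k2, hk2⟩ := h.eq_ch (hcube (((0 : Z), (1 : Z)), 0))
  obtain ⟨k3, hk3⟩ := h.eq_ch (hcube (0, ((1 : Z), (0 : Z))))
  obtain ⟨k4, hk4⟩ := h.eq_ch (hcube (0, ((0 : Z), (1 : Z))))
  obtain ⟨Y, hY⟩ : ∃ Y, Y = v9 w ((-k3, -k4), (k1, k2)) * (X : Matrix I9 I9 F) := ⟨_, rfl⟩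
  have hc : ∀ (p : I9 × I9) (k : Z), σ p = ch w k →
      dot (-k3, -k4) p.2 - dot p.1 (k1, k2) + k = 0 → Y * v9 w p = v9 w p * Y := by
    intro p k e hk
    rw [hY, mul_assoc, hX, e, mul_smul_comm, ← mul_assoc, v9, v9, h.w9_comm, smul_mul_assoc, smul_smul, mul_assoc,
      ← h.ch_add, show k + (dot (-k3, -k4) p.2 - dot p.1 (k1, k2)) = 0 by rw [add_comm]; exact hk, ch_zero, one_smul]
  have c1 := hc _ k1 hk1 (by simp [dot])
  have c2 := hc _ k2 hk2 (by simp [dot])
  have c3 := hc _ k3 hk3 (by simp [dot])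
  have c4 := hc _ k4 hk4 (by simp [dot])
  have hdiag : ∀ i j, i ≠ j → Y i j = 0 := by
    intro i j hij
    have e : ∀ a : I9, v9 w (a, 0) = diagonal fun i : I9 => ch w (dot a i) := fun a => by
      rw [v9, w9, show Equiv.addRight (0 : I9) = 1 from Equiv.ext fun x => add_zero x, pm_one, mul_one]
    rw [e] at c1 c2
    have a1 := congrFun (congrFun c1 i) j
    have a2 := congrFun (congrFun c2 i) j
    simp only [mul_diagonal, diagonal_mul, dot, one_mul, zero_mul, add_zero, zero_add] at a1 a2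
    by_contra hne
    exact hij (Prod.ext (h.ch_inj (mul_left_cancel₀ hne (by rw [a1, mul_comm])).symm)
      (h.ch_inj (mul_left_cancel₀ hne (by rw [a2, mul_comm])).symm))
  have hconst : ∀ i, Y i i = Y 0 0 := by
    have e : ∀ b : I9, v9 w (0, b) = pm (Equiv.addRight b) := fun b => by
      rw [v9, w9, show (fun x : I9 => ch w (dot 0 x)) = fun _ => 1 from funext fun x => by simp [dot, ch_zero],
        diagonal_one, one_mul]
    rw [e] at c3 c4
    have s1 : ∀ x y : Z, Y (x + 1, y) (x + 1, y) = Y (x, y) (x, y) := fun x y => by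
      have := congrFun (congrFun c3 (x + 1, y)) (x, y)
      rw [mul_pm_apply, pm_mul_apply] at this
      simpa using this
    have s2 : ∀ x y : Z, Y (x, y + 1) (x, y + 1) = Y (x, y) (x, y) := fun x y => by
      have := congrFun (congrFun c4 (x, y + 1)) (x, y)
      rw [mul_pm_apply, pm_mul_apply] at this
      simpa using this
    rintro ⟨x, y⟩
    have hx : ∀ z : Z, z = 0 ∨ z = 0 + 1 ∨ z = 0 + 1 + 1 := by decide
    rcases hx x with ex | ex | ex <;> rcases hx y with ey | ey | ey <;> subst ex <;> subst ey <;>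
      first | rfl | (simp only [s1, s2]; rfl)
  have hYs : Y = Y 0 0 • 1 := Matrix.ext fun i j => by
    rcases eq_or_ne i j with e | e
    · subst e; simp [hconst i]
    · simp [Matrix.one_apply_ne e, hdiag i j e]
  obtain ⟨d, hd0, hd'⟩ : ∃ d : F, d ≠ 0 ∧ v9 w ((k3, k4), (-k1, -k2)) * v9 w ((-k3, -k4), (k1, k2)) = d • 1 := by
    have : ((((k3, k4), (-k1, -k2)) : I9 × I9) + ((-k3, -k4), (k1, k2))) = 0 :=
      Prod.ext (Prod.ext (by simp) (by simp)) (Prod.ext (by simp) (by simp))
    refine ⟨ch w (-dot (-k3, -k4) (-k1, -k2)), h.ch_ne_zero _, ?_⟩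
    rw [v9_mul h, this, v9_zero h]
  have e : (X : Matrix I9 I9 F) = (d⁻¹ * Y 0 0) • v9 w ((k3, k4), (-k1, -k2)) := by
    have e : v9 w ((k3, k4), (-k1, -k2)) * Y = d • (X : Matrix I9 I9 F) := by
      rw [hY, ← mul_assoc, hd', smul_mul_assoc, one_mul]
    rw [hYs, mul_smul_comm, mul_one] at e
    rw [← smul_smul, e, smul_smul, inv_mul_cancel₀ hd0, one_smul]
  exact ⟨_, _, fun e0 => X.ne_zero (by rw [e, e0, zero_smul]), e⟩

omit h

namespace Setup

variable {M : Subgroup (GL I9 F)} {G S : Subgroup (GL Z F)} (hS : Setup w M G S) [Fintype F] (hp : NoPure w M)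
include hS hp

omit hp in
/-- a normalising element of `M` carrying any non-trivial element into the second factor -/
theorem exists_move (p : I9 × I9) (hp0 : p ≠ 0) : ∃ u ∈ M, Nm w (u : Matrix I9 I9 F) ∧
    ∃ (c : F) (v : Z × Z), v ≠ 0 ∧ (u : Matrix I9 I9 F) * v9 w p = c • (v9 w ((0, v.1), (0, v.2)) * u) := by
  have h := hS.root
  let R : I9 × I9 → I9 × I9 → Prop := fun p q => ∃ u ∈ M, Nm w (u : Matrix I9 I9 F) ∧
    ∃ c : F, (u : Matrix I9 I9 F) * v9 w p = c • (v9 w q * u)
  have trans : ∀ p q r, R p q → R q r → R p r := by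
    rintro p q r ⟨u, hu, hun, c, hc⟩ ⟨v, hv, hvn, d, hd⟩
    refine ⟨v * u, M.mul_mem hv hu, by rw [Units.val_mul]; exact hvn.mul hun, c * d, ?_⟩
    rw [Units.val_mul, mul_assoc, hc, mul_smul_comm, ← mul_assoc, hd, smul_mul_assoc, smul_smul, mul_assoc]
  have refl : ∀ p, R p p := fun p => ⟨1, M.one_mem, by rw [Units.val_one]; exact Nm.one, 1, by simp⟩
  have gen : ∀ (X : Matrix I9 I9 F) (p q : I9 × I9) (c : F), Mem M X → Nm w X →
      X * v9 w p = c • (v9 w q * X) → R p q := by
    rintro X p q c ⟨u, hu, rfl⟩ hn e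
    exact ⟨u, hu, hn, c, e⟩
  have hfy : ∀ a b : I9, R (a, b) ((a.1, b.2), (b.1, -a.2)) := by
    intro a b
    obtain ⟨c, hc⟩ := sends_phi h (a.2, b.2)
    refine gen _ _ _ c hS.mem_phi (nm_bd_const h (nm3_phi h)) ?_
    rw [v9, v9, w9_split h a b, w9_split h (a.1, b.2) (b.1, -a.2), ← mul_assoc, h.w9_bd, bd_mul]
    have e1 : (fun x => phi w * (ch w (a.1 * x) • w3 w a.2 b.2)) =
        fun x => c • ((ch w (a.1 * x) • w3 w b.2 (-a.2)) * phi w) := funext fun x => by
      rw [mul_smul_comm, show phi w * w3 w a.2 b.2 = c • (w3 w b.2 (-a.2) * phi w) from hc, smul_mul_assoc,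
        smul_comm]
    rw [e1, bd_smul, ← bd_mul, ← h.w9_bd (a.1, b.2), smul_mul_assoc, mul_assoc, mul_assoc,
      w9_shift h b.1 (fun _ => phi w)]
  have hswap : ∀ a b : I9, R (a, b) (a.swap, b.swap) := by
    intro a b
    refine gen _ _ _ 1 hS.mem_swap (nm_neg_swp h) ?_
    rw [one_smul, Matrix.neg_mul, Matrix.mul_neg, v9, v9, w9, w9, ← mul_assoc, pm_mul_diagonal, mul_assoc,
      mul_assoc, pm_mul_pm, pm_mul_pm]
    congr 2
    refine congrArg _ (funext fun i => congrArg _ ?_)
    show a.1 * i.2 + a.2 * i.1 = a.2 * i.1 + a.1 * i.2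
    ring
  have hfx : ∀ a b : I9, R (a, b) ((b.1, a.2), (-a.1, b.2)) := fun a b =>
    trans _ _ _ (hswap a b) (trans _ _ _ (hfy a.swap b.swap) (hswap _ _))
  have hshear : ∀ (k : Z) (a b : I9), R (a, b) ((a.1 - k * a.2, a.2), (b.1, b.2 + k * b.1)) := by
    intro k a b
    refine gen _ _ _ 1 (hS.mem_shear k) (nm_shear h k) ?_
    rw [one_smul, v9, v9, w9, w9, ← mul_assoc, pm_mul_diagonal, mul_assoc, mul_assoc, pm_mul_pm, pm_mul_pm]
    congr 2
    · funext i
      simp only [shear, Equiv.coe_fn_symm_mk, dot]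
      congr 1; ring
    · refine Equiv.ext fun x => ?_
      simp only [shear, Equiv.Perm.mul_apply, Equiv.coe_addRight, Equiv.coe_fn_mk, Prod.fst_add, Prod.snd_add]
      refine Prod.ext ?_ ?_ <;> simp only [Prod.fst_add, Prod.snd_add] <;> ring
  have hinv : ∀ a : Z, a ≠ 0 → a * a = 1 := by decide
  -- the second components of a non-trivial pair can be made the only ones
  have hmain : ∀ a b : I9, (a, b) ≠ 0 → ∃ v : Z × Z, v ≠ 0 ∧ R (a, b) ((0, v.1), (0, v.2)) := by
    intro a b hab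
    by_cases h2 : a.2 = 0 ∧ b.2 = 0
    · refine ⟨(a.1, b.1), fun e => hab ?_, ?_⟩
      · have e1 : a.1 = 0 := by simpa using congrArg Prod.fst e
        have e2 : b.1 = 0 := by simpa using congrArg Prod.snd e
        exact Prod.ext (Prod.ext e1 h2.1) (Prod.ext e2 h2.2)
      · have := hswap a b
        rwa [show a.swap = (0, a.1) from Prod.ext h2.1 rfl, show b.swap = (0, b.1) from Prod.ext h2.2 rfl] at this
    · have key : ∀ a b : I9, a.2 ≠ 0 → ∃ v : Z × Z, v ≠ 0 ∧ R (a, b) ((0, v.1), (0, v.2)) := by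
        intro a b ha
        have s1 := hshear (a.1 * a.2) a b
        rw [show a.1 - a.1 * a.2 * a.2 = 0 by rw [mul_assoc, hinv _ ha]; ring] at s1
        obtain ⟨b', hb'⟩ : ∃ b', b' = b.2 + a.1 * a.2 * b.1 := ⟨_, rfl⟩
        rw [← hb'] at s1
        have s2 := hfx ((0 : Z), a.2) (b.1, b')
        simp only [neg_zero] at s2
        have s3 := hshear (b.1 * a.2) (b.1, a.2) ((0 : Z), b')
        simp only [mul_zero, add_zero] at s3
        rw [show b.1 - b.1 * a.2 * a.2 = 0 by rw [mul_assoc, hinv _ ha]; ring] at s3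
        exact ⟨(a.2, b'), fun e => ha (congrArg Prod.fst e), trans _ _ _ s1 (trans _ _ _ s2 s3)⟩
      by_cases ha : a.2 = 0
      · have hb : b.2 ≠ 0 := fun e => h2 ⟨ha, e⟩
        obtain ⟨v, hv, hR⟩ := key (a.1, b.2) (b.1, -a.2) hb
        exact ⟨v, hv, trans _ _ _ (hfy a b) hR⟩
      · exact key a b ha
  obtain ⟨v, hv, u, hu, hun, c, hc⟩ := hmain p.1 p.2 (by rwa [Prod.mk.eta])
  exact ⟨u, hu, hun, c, v, hv, hc⟩

/-- the centralisers of the non-trivial elements normalise -/
theorem cent_v9 {p : I9 × I9} (hp0 : p ≠ 0) {X : Matrix I9 I9 F} (hX : Mem M X)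
    (hc : X * v9 w p = v9 w p * X) : Nm w X := by
  have h := hS.root
  obtain ⟨u, hu, hun, c, v, hv, e⟩ := hS.exists_move p hp0
  obtain ⟨g, hg, rfl⟩ := hX
  have hY : ((u * g * u⁻¹ : GL I9 F) : Matrix I9 I9 F) * bd (fun _ => v3 w v) =
      bd (fun _ => v3 w v) * ((u * g * u⁻¹ : GL I9 F) : Matrix I9 I9 F) := by
    have hc0 : c ≠ 0 := fun e0 => by
      rw [e0, zero_smul] at e
      have := congrArg Matrix.det e
      rw [det_mul, det_zero] at this
      exact mul_ne_zero (((Matrix.isUnit_iff_isUnit_det _).1 u.isUnit).ne_zero) (det_v9_ne h p) this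
    have e' : v9 w ((0, v.1), (0, v.2)) = c⁻¹ • ((u : Matrix I9 I9 F) * v9 w p * (u⁻¹ : GL I9 F).val) := by
      rw [e, smul_mul_assoc, mul_assoc, Units.mul_inv, mul_one, smul_smul, inv_mul_cancel₀ hc0, one_smul]
    rw [show bd (fun _ : Z => v3 w v) = v9 w ((0, v.1), (0, v.2)) from (w9_const h v.1 v.2).symm, e',
      mul_smul_comm, smul_mul_assoc, Units.val_mul, Units.val_mul]
    congr 1
    simp only [mul_assoc, Units.inv_mul_cancel_left]
    rw [← mul_assoc (g : Matrix I9 I9 F), hc, mul_assoc (v9 w p)]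
  have hn := hS.cent_v3 hp hv ⟨_, M.mul_mem (M.mul_mem hu hg) (M.inv_mem hu), rfl⟩ hY
  have : (g : GL I9 F) = u⁻¹ * (u * g * u⁻¹) * u := by group
  rw [this, Units.val_mul, Units.val_mul]
  exact ((nm_inv hun).mul hn).mul hun

/-- an involution of the normaliser commuting with an element is a conjugate of the second sign change -/
theorem invol_comm (hm1 : Mem M (-1 : Matrix I9 I9 F) → (2 : F) = 0) {g : GL I9 F} (hg : g ∈ M)
    (hgg : g * g = 1) (hg1 : g ≠ 1) (hn : Nm w (g : Matrix I9 I9 F)) {p : I9 × I9} (hp0 : p ≠ 0)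
    (hc : (g : Matrix I9 I9 F) * v9 w p = v9 w p * g) :
    ∃ u ∈ M, Nm w (u : Matrix I9 I9 F) ∧ ((u * g * u⁻¹ : GL I9 F) : Matrix I9 I9 F) = bd fun _ => negP F := by
  have h := hS.root
  obtain ⟨u, hu, hun, c, v, hv, e⟩ := hS.exists_move p hp0
  -- into the phase of the second factor, then to the phase of the blocks
  obtain ⟨β, hβ⟩ : ∃ β : Z × Z, v.1 * β.2 - β.1 * v.2 = 1 := by
    have : ∀ v : Z × Z, v ≠ 0 → ∃ β : Z × Z, v.1 * β.2 - β.1 * v.2 = 1 := by decide
    exact this v hv
  obtain ⟨k₁, k₂, n, ⟨d, hd⟩, -⟩ := exists_word h hβ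
  obtain ⟨W, hW⟩ : ∃ W : Matrix Z Z F, W = (diagonal fun y : Z => ch w (k₂ * (y * y))) *
      phi w ^ n * (diagonal fun y : Z => ch w (k₁ * (y * y))) := ⟨_, rfl⟩
  rw [← hW] at hd
  have hWn : Mem M (bd fun _ => W) ∧ Nm w (bd fun _ : Z => W) := by
    refine ⟨?_, ?_⟩
    · have := ((hS.mem_phase k₂).mul (hS.mem_phi_pow n)).mul (hS.mem_phase k₁)
      rwa [bd_mul, bd_mul, ← hW] at this
    · have e : ∀ m : ℕ, (bd fun _ : Z => phi w) ^ m = bd fun _ => phi w ^ m := by
        intro m
        induction m with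
        | zero => simp [bd_one]
        | succ m ih => rw [pow_succ, ih, bd_mul]; simp [pow_succ]
      have := ((nm_bd_const h (nm3_phase h k₂)).mul ((e n) ▸ (nm_bd_const h (nm3_phi h)).pow n)).mul
        (nm_bd_const h (nm3_phase h k₁))
      rwa [bd_mul, bd_mul, ← hW] at this
  obtain ⟨⟨W', hW', hWe⟩, hWnm⟩ := hWn
  obtain ⟨s, hs, hse⟩ := hS.mem_swap
  obtain ⟨r, hr, hre⟩ := hS.mem_w (0, 1) 0
  obtain ⟨t, ht⟩ : ∃ t, t = s * W'⁻¹ * u := ⟨_, rfl⟩
  have htM : t ∈ M := ht ▸ M.mul_mem (M.mul_mem hs (M.inv_mem hW')) hu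
  have htn : Nm w (t : Matrix I9 I9 F) := by
    rw [ht, Units.val_mul, Units.val_mul]
    exact ((hse ▸ nm_neg_swp h).mul (nm_inv (hWe ▸ hWnm))).mul hun
  obtain ⟨f, hf⟩ : ∃ f, f = t * g * t⁻¹ := ⟨_, rfl⟩
  have hfM : f ∈ M := hf ▸ M.mul_mem (M.mul_mem htM hg) (M.inv_mem htM)
  have hff : f * f = 1 := by
    rw [hf, show t * g * t⁻¹ * (t * g * t⁻¹) = t * (g * g) * t⁻¹ by group, hgg, mul_one, mul_inv_cancel]
  have hfn : Nm w (f : Matrix I9 I9 F) := by
    rw [hf, Units.val_mul, Units.val_mul]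
    exact (htn.mul hn).mul (nm_inv htn)
  have hss : (s : Matrix I9 I9 F) * s = 1 := by
    rw [hse, neg_mul_neg, pm_mul_pm, show swp * swp = 1 from Equiv.ext fun x => by cases x; rfl, pm_one]
  have hrs : (r : Matrix I9 I9 F) = bd fun _ => v3 w (1, 0) := hre.trans (w9_const h 1 0)
  -- `f` commutes with the phase of the blocks
  have hphase : (s : Matrix I9 I9 F) * r * s = diagonal fun i : I9 => ch w i.1 := by
    rw [hse, hrs, swap_conj, v3, lft_w3 h]
    ext i j
    simp [w9_apply, diagonal_apply, dot, ← Prod.zero_eq_mk]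
  have hfc : (f : Matrix I9 I9 F) * (diagonal fun i : I9 => ch w i.1) =
      (diagonal fun i : I9 => ch w i.1) * f := by
    have hv9 : ∃ k : F, k ≠ 0 ∧ ((t⁻¹ * (s * r * s) * t : GL I9 F) : Matrix I9 I9 F) = k • v9 w p := by
      have hc0 : c ≠ 0 := fun e0 => by
        rw [e0, zero_smul] at e
        have := congrArg Matrix.det e
        rw [det_mul, det_zero] at this
        exact mul_ne_zero (((Matrix.isUnit_iff_isUnit_det _).1 u.isUnit).ne_zero) (det_v9_ne h p) this
      have eW : (W' : Matrix I9 I9 F) * r = d • (bd (fun _ : Z => v3 w v) * (W' : Matrix I9 I9 F)) := by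
        rw [hWe, hrs, bd_mul, bd_mul, ← bd_smul, hd]
      refine ⟨d * c⁻¹, mul_ne_zero (fun e0 => ?_) (inv_ne_zero hc0), ?_⟩
      · rw [e0, zero_smul] at eW
        exact (W' * r).ne_zero (by rw [Units.val_mul]; exact eW)
      · have es : s⁻¹ = s := inv_eq_of_mul_eq_one_left (Units.ext (by rw [Units.val_mul, hss, Units.val_one]))
        have e1 : t⁻¹ * (s * r * s) * t = u⁻¹ * (W' * r * W'⁻¹) * u := by
          rw [ht]
          calc (s * W'⁻¹ * u)⁻¹ * (s * r * s) * (s * W'⁻¹ * u)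
              = u⁻¹ * W' * (s⁻¹ * s) * r * (s * s) * W'⁻¹ * u := by group
            _ = _ := by
                rw [inv_mul_cancel, mul_one, show s * s = 1 by rw [← inv_mul_cancel s, es], mul_one]
                group
        rw [e1, Units.val_mul, Units.val_mul, Units.val_mul, Units.val_mul, eW, smul_mul_assoc,
          mul_assoc (bd fun _ : Z => v3 w v), Units.mul_inv, mul_one, mul_smul_comm, smul_mul_assoc,
          show bd (fun _ : Z => v3 w v) = v9 w ((0, v.1), (0, v.2)) from (w9_const h v.1 v.2).symm, ← smul_smul]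
        congr 1
        have e' : v9 w ((0, v.1), (0, v.2)) * (u : Matrix I9 I9 F) = c⁻¹ • ((u : Matrix I9 I9 F) * v9 w p) := by
          rw [e, smul_smul, inv_mul_cancel₀ hc0, one_smul]
        rw [mul_assoc, e', mul_smul_comm, ← mul_assoc, Units.inv_mul, one_mul]
    obtain ⟨k, -, hk⟩ := hv9
    have e1 : g * (t⁻¹ * (s * r * s) * t) = t⁻¹ * (s * r * s) * t * g := Units.ext (by
      rw [Units.val_mul g, hk, Units.val_mul _ g, hk, mul_smul_comm, smul_mul_assoc, hc])
    have e2 : f * (s * r * s) = (s * r * s) * f := by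
      rw [hf]
      calc t * g * t⁻¹ * (s * r * s) = t * (g * (t⁻¹ * (s * r * s) * t)) * t⁻¹ := by group
        _ = t * (t⁻¹ * (s * r * s) * t * g) * t⁻¹ := by rw [e1]
        _ = _ := by group
    have e3 := congrArg Units.val e2
    simp only [Units.val_mul] at e3
    rwa [hphase] at e3
  have hfb : (f : Matrix I9 I9 F) = bd fun x => Matrix.of fun y y' => (f : Matrix I9 I9 F) (x, y) (x, y') := by
    ext i j
    rw [bd_apply]
    split_ifs with e'
    · obtain ⟨a, b⟩ := i
      obtain ⟨a', b'⟩ := j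
      subst e'
      rfl
    · have := congrFun (congrFun hfc i) j
      rw [mul_diagonal, diagonal_mul] at this
      have h2 : (ch w j.1 - ch w i.1) * (f : Matrix I9 I9 F) i j = 0 := by linear_combination this
      exact (mul_eq_zero.1 h2).resolve_left fun e0 => e' (h.ch_inj (sub_eq_zero.1 e0)).symm
  obtain ⟨A, hA⟩ : ∃ A : Z → Matrix Z Z F, A = fun x => Matrix.of fun y y' => (f : Matrix I9 I9 F) (x, y) (x, y') :=
    ⟨_, rfl⟩
  rw [← hA] at hfb
  have hAA : ∀ x, A x * A x = 1 := by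
    intro x
    have := congrArg Units.val hff
    rw [Units.val_mul, hfb, bd_mul, Units.val_one, ← bd_one] at this
    exact bd_inj this x
  have hdet : ∀ x, (A x).det ≠ 0 := fun x e0 => by
    have := congrArg Matrix.det (hAA x)
    rw [det_mul, e0, zero_mul, det_one] at this
    exact zero_ne_one this
  -- the common action of the blocks
  have haction : ∀ v : Z × Z, ∃ v', ∀ x, Sends w (A x) v v' := by
    intro v
    obtain ⟨k, a, b, hk⟩ := hfn (0, v.1) (0, v.2)
    rw [w9_const h, hfb, bd_mul] at hk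
    have hk0 : k ≠ 0 := fun e0 => by
      rw [e0, zero_smul] at hk
      have := congrArg Matrix.det hk
      rw [bd_det, det_zero] at this
      exact Finset.prod_ne_zero_iff.2 (fun x _ => by rw [det_mul]; exact mul_ne_zero (hdet x) (det_w3_ne h _ _)) this
    have hb : b.1 = 0 := by
      by_contra hne
      have hz : bd (fun x => A x * w3 w v.1 v.2) = 0 := by
        ext i j
        rw [bd_apply, Matrix.zero_apply]
        split_ifs with e'
        · have := congrFun (congrFun hk i) j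
          rw [bd_apply, if_pos e', Matrix.smul_apply, w9, mul_assoc, diagonal_mul, pm_mul_apply, bd_apply,
            if_neg, mul_zero, smul_zero] at this
          · exact this
          · simp only [Equiv.addRight_symm_apply, Prod.fst_add, Prod.fst_neg]
            intro e2
            exact hne (by linear_combination e' - e2)
        · rfl
      rw [hz] at hk
      have := congrArg Matrix.det hk
      rw [det_zero, det_smul, det_mul, bd_det] at this
      exact mul_ne_zero (pow_ne_zero _ hk0) (mul_ne_zero (det_v9_ne h (a, b))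
        (Finset.prod_ne_zero_iff.2 fun x _ => hdet x)) this.symm
    rw [show b = (0, b.2) from Prod.ext hb rfl, h.w9_bd, bd_mul, ← bd_smul] at hk
    refine ⟨(a.2, b.2), fun x => ⟨k * ch w (a.1 * x), ?_⟩⟩
    have := bd_inj hk x
    rw [v3, this, smul_mul_assoc, smul_smul]
  obtain ⟨α, hα⟩ := haction (1, 0)
  obtain ⟨β', hβ'⟩ := haction (0, 1)
  have hφ : ∀ u, ∀ x, Sends w (A x) u (u.1.val • α + u.2.val • β') := fun u x =>
    Sends.of_basis h (hα x) (hβ' x) u
  have hsq : ∀ u : Z × Z, (u.1.val • α + u.2.val • β').1.val • α + (u.1.val • α + u.2.val • β').2.val • β' = u := by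
    intro u
    have e1 := (hφ (u.1.val • α + u.2.val • β') 0).mul (hφ u 0)
    rw [hAA] at e1
    exact Sends.unique h (by simp) e1 (Sends.one u)
  have hval : ∀ (z : Z) (α : Z × Z), z.val • α = (z * α.1, z * α.2) := fun z α =>
    Prod.ext (by simp) (by simp)
  have hcases : ∀ α β : Z × Z, α.1 * β.2 - β.1 * α.2 = 1 →
      α.1.val • α + α.2.val • β = (1, 0) → β.1.val • α + β.2.val • β = (0, 1) →
      (α = (1, 0) ∧ β = (0, 1)) ∨ (α = (-1, 0) ∧ β = (0, -1)) := by
    have key : ∀ a b c d : Z, a * d - c * b = 1 → a * a + b * c = 1 → a * b + b * d = 0 →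
        c * a + d * c = 0 → c * b + d * d = 1 → (a = 1 ∧ b = 0 ∧ c = 0 ∧ d = 1) ∨
          (a = -1 ∧ b = 0 ∧ c = 0 ∧ d = -1) := by decide
    rintro ⟨a, b⟩ ⟨c, d⟩ h1 h2 h3
    simp only [hval, Prod.mk_add_mk, Prod.mk.injEq] at h2 h3
    rcases key a b c d h1 h2.1 h2.2 h3.1 h3.2 with ⟨rfl, rfl, rfl, rfl⟩ | ⟨rfl, rfl, rfl, rfl⟩
    · exact Or.inl ⟨rfl, rfl⟩
    · exact Or.inr ⟨rfl, rfl⟩
  rcases hcases α β' (det_pair h (hdet 0) (hα 0) (hβ' 0)) (by simpa using hsq (1, 0)) (by simpa using hsq (0, 1))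
    with ⟨rfl, rfl⟩ | ⟨rfl, rfl⟩
  · -- scalar blocks: only the identity
    exfalso
    choose k x₀ hk using fun x => eq_w3_of_sends h (hdet x) (hα x) (hβ' x)
    have hx0 : ∀ x, x₀ x = 0 ∧ k x * k x = 1 := by
      intro x
      have e1 := hAA x
      rw [hk, smul_mul_smul_comm, v3, h.w3_mul, smul_smul, ← w3_zero w] at e1
      have h0 : k x * k x * ch w (-((x₀ x).1 * (x₀ x).2)) ≠ 0 :=
        mul_ne_zero (mul_self_ne_zero.2 fun e0 => hdet x (by rw [hk, e0, zero_smul, det_zero])) (h.ch_ne_zero _)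
      have e2 : w3 w ((x₀ x).1 + (x₀ x).1) ((x₀ x).2 + (x₀ x).2) =
          (k x * k x * ch w (-((x₀ x).1 * (x₀ x).2)))⁻¹ • w3 w 0 0 := by
        rw [← e1, smul_smul, inv_mul_cancel₀ h0, one_smul]
      have key : ∀ t : Z, t + t = 0 → t = 0 := by decide
      have ha := key _ (h.w3_inj e2).1
      have hb := key _ (h.w3_inj e2).2
      rw [ha, hb, mul_zero, neg_zero, ch_zero, mul_one, add_zero, w3_zero] at e1
      exact ⟨Prod.ext ha hb, smul_left_injective F (one_ne_zero (α := Matrix Z Z F)) (e1.trans (one_smul F _).symm)⟩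
    have hAs : A = fun x => k x • (1 : Matrix Z Z F) := funext fun x => by
      rw [hk, (hx0 x).1]; exact congrArg _ (w3_zero w)
    obtain ⟨t', l, htl⟩ := hS.scalar_blocks (c := k) (by rw [← hAs, ← hfb]; exact ⟨f, hfM, rfl⟩)
    have hkc : ∀ x, k x = k 0 := fun x => by
      have e2 : ch w (t' * (x * x) + l * x + (t' * (x * x) + l * x)) = 1 := by
        have e1 := (hx0 x).2
        rw [htl x, mul_mul_mul_comm, (hx0 0).2, one_mul, ← h.ch_add] at e1
        exact e1
      have key : ∀ t : Z, t + t = 0 → t = 0 := by decide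
      rw [htl x, key _ (h.ch_eq_one e2), ch_zero, mul_one]
    have hfs : (f : Matrix I9 I9 F) = k 0 • 1 := by
      rw [hfb, hAs, show (fun x => k x • (1 : Matrix Z Z F)) = fun _ => k 0 • 1 from funext fun x => by rw [hkc x],
        bd_smul, bd_one]
    have hgf : g = f := by
      have : f * t = t * f := Units.ext (by rw [Units.val_mul, Units.val_mul, hfs]; simp)
      rw [show g = t⁻¹ * f * t by rw [hf]; group, mul_assoc, this, inv_mul_cancel_left]
    rcases mul_self_eq_one_iff.1 (hx0 0).2 with e0 | e0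
    · exact hg1 (Units.ext (by rw [hgf, hfs, e0, one_smul]; rfl))
    · refine hg1 (Units.ext ?_)
      have h2 : (2 : F) = 0 := hm1 ⟨f, hfM, by rw [hfs, e0, neg_one_smul]⟩
      rw [hgf, hfs, e0, show (-1 : F) = 1 by linear_combination -h2, one_smul]; rfl
  · -- blocks are translates of the sign change
    have hnn : negP F * negP F = 1 := by
      rw [negP, neg_mul_neg, pm_mul_pm, show Equiv.neg Z * Equiv.neg Z = 1 from Equiv.ext fun x => by simp, pm_one]
    have hfix : ∀ u : Z × Z, ∀ x, Sends w (A x * negP F) u u := by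
      intro u x
      have e1 := (hφ (-u) x).mul (⟨1, by rw [one_smul]; exact negP_v3 h u⟩ : Sends w (negP F) u (-u))
      have : ∀ u : Z × Z, (-u).1.val • ((-1, 0) : Z × Z) + (-u).2.val • ((0, -1) : Z × Z) = u := by decide
      rwa [this] at e1
    choose k y hk using fun x => eq_w3_of_sends h (by
      rw [det_mul]; exact mul_ne_zero (hdet x) (fun e0 => by
        have := congrArg Matrix.det hnn
        rw [det_mul, e0, zero_mul, det_one] at this
        exact zero_ne_one this)) (hfix (1, 0) x) (hfix (0, 1) x)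
    obtain ⟨z, hz, hze⟩ : Mem M (bd fun _ : Z => negP F) := by
      rw [← z2_eq]; exact (hS.mem_swap.mul hS.mem_zed).mul hS.mem_swap
    have hfz : Mem M (bd fun x => A x * negP F) := by
      have := Mem.mul (show Mem M (bd A) from ⟨f, hfM, hfb⟩) ⟨z, hz, hze⟩
      rwa [bd_mul] at this
    have haff := hS.affine hp hfz hk
    obtain ⟨d', hd'⟩ : ∃ d', d' = y 1 - y 0 := ⟨_, rfl⟩
    have hyx : ∀ x, y x = y 0 + (x * d'.1, x * d'.2) := by
      intro x
      have : ∀ x : Z, x = 0 ∨ x = 1 ∨ x = 1 + 1 := by decide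
      rcases this x with hx | hx | hx <;> subst hx
      · simp [← Prod.zero_eq_mk]
      · rw [hd']; exact Prod.ext (by simp) (by simp)
      · rw [show (1 : Z) + 1 = 2 by decide]
        refine add_right_cancel (b := y 0) (haff.trans ?_)
        rw [hd']
        refine Prod.ext ?_ ?_ <;> simp only [Prod.fst_add, Prod.snd_add, Prod.fst_sub, Prod.snd_sub] <;> ring
    obtain ⟨a, ha, hae⟩ := hS.mem_const (-(y 0))
    obtain ⟨b, hb, hbe⟩ := (bd_affine_eq h (-d') ▸ (hS.mem_quad 0 (-d').1 0).mul (hS.mem_shear (-d').2) :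
      Mem M (bd fun x => v3 w (x * (-d').1, x * (-d').2)))
    obtain ⟨m, hm⟩ : ∃ m, m = a * b := ⟨_, rfl⟩
    have hmn : Nm w (m : Matrix I9 I9 F) := by
      rw [hm, Units.val_mul, hae, hbe, bd_affine_eq h]
      exact (nm_bd_const h (nm3_w3 h _)).mul ((nm_qd h _ _ _).mul (nm_shear h _))
    have hmM : m ∈ M := hm ▸ M.mul_mem ha hb
    have hmx : (m : Matrix I9 I9 F) = bd fun x => v3 w (-(y 0)) * v3 w (x * (-d').1, x * (-d').2) := by
      rw [hm, Units.val_mul, hae, hbe, bd_mul]
    have hPy : ∀ x, ∃ e : F, e ≠ 0 ∧ v3 w (-(y 0)) * v3 w (x * (-d').1, x * (-d').2) = e • v3 w (-(y x)) := by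
      intro x
      refine ⟨ch w (-(x * (-d').1 * (-(y 0)).2)), h.ch_ne_zero _, ?_⟩
      rw [v3, v3, v3, h.w3_mul, hyx x]
      congr 1
      simp only [Prod.fst_neg, Prod.snd_neg, Prod.fst_add, Prod.snd_add]
      congr 1 <;> ring
    choose e he0 he using hPy
    have hmval : (m : Matrix I9 I9 F) = bd fun x => e x • v3 w (-(y x)) := by rw [hmx]; exact congrArg bd (funext he)
    -- the conjugate of `f` differs from the sign change by scalar blocks
    obtain ⟨f', hf'⟩ : ∃ f', f' = m⁻¹ * f * m := ⟨_, rfl⟩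
    have hrel : ∀ x, ∃ ρ : F, A x * v3 w (-(y x)) = ρ • (v3 w (-(y x)) * negP F) := by
      intro x
      refine ⟨k x * ch w (-((y x).1 * (y x).2)) * (ch w 0)⁻¹, ?_⟩
      have e1 : A x = k x • (v3 w (y x) * negP F) := by
        rw [← smul_mul_assoc, ← hk, mul_assoc, hnn, mul_one]
      rw [e1, smul_mul_assoc, mul_assoc, negP_v3 h, neg_neg, ← mul_assoc, v3, h.w3_mul, smul_mul_assoc, smul_smul,
        ch_zero, inv_one, mul_one]
      congr 2
      have : ∀ t : Z, t + t = -t := by decide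
      rw [this, this]
      rfl
    choose ρ hρ using hrel
    have hf'v : (f' : Matrix I9 I9 F) = bd fun x => ρ x • negP F := by
      have e1 : (f : Matrix I9 I9 F) * m = m * bd (fun x => ρ x • negP F) := by
        rw [hfb, hmval, bd_mul, bd_mul]
        congr 1; funext x
        rw [mul_smul_comm, hρ, mul_smul_comm, smul_mul_assoc, smul_comm]
      rw [hf', Units.val_mul, Units.val_mul, mul_assoc, e1, ← mul_assoc, Units.inv_mul, one_mul]
    have hf'M : f' ∈ M := hf' ▸ M.mul_mem (M.mul_mem (M.inv_mem hmM) hfM) hmM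
    have hρ1 : ∀ x, ρ x * ρ x = 1 := by
      intro x
      have : f' * f' = 1 := by
        rw [hf', show m⁻¹ * f * m * (m⁻¹ * f * m) = m⁻¹ * (f * f) * m by group, hff, mul_one, inv_mul_cancel]
      have e2 := congrArg Units.val this
      rw [Units.val_mul, hf'v, bd_mul, Units.val_one, ← bd_one] at e2
      have e3 := bd_inj e2 x
      rw [smul_mul_smul_comm, hnn] at e3
      exact smul_left_injective F (one_ne_zero (α := Matrix Z Z F)) (e3.trans (one_smul F _).symm)
    have hsc : Mem M (bd fun x => ρ x • (1 : Matrix Z Z F)) := by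
      have := Mem.mul (show Mem M (bd fun x => ρ x • negP F) from ⟨f', hf'M, hf'v⟩) ⟨z, hz, hze⟩
      rw [bd_mul] at this
      simpa [smul_mul_assoc, hnn] using this
    obtain ⟨t', l, htl⟩ := hS.scalar_blocks hsc
    have hρc : ∀ x, ρ x = ρ 0 := fun x => by
      have e2 : ch w (t' * (x * x) + l * x + (t' * (x * x) + l * x)) = 1 := by
        have e1 := hρ1 x
        rw [htl x, mul_mul_mul_comm, hρ1 0, one_mul, ← h.ch_add] at e1
        exact e1
      have key : ∀ t : Z, t + t = 0 → t = 0 := by decide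
      rw [htl x, key _ (h.ch_eq_one e2), ch_zero, mul_one]
    have hρ01 : ρ 0 = 1 := by
      rcases mul_self_eq_one_iff.1 (hρ1 0) with e0 | e0
      · exact e0
      · have h2 : (2 : F) = 0 := hm1 (by
          refine (congrArg (Mem M) ?_).mp hsc
          rw [show (fun x => ρ x • (1 : Matrix Z Z F)) = fun _ => ρ 0 • 1 from funext fun x => by rw [hρc x],
            bd_smul, bd_one, e0, neg_one_smul])
        rw [e0]; linear_combination -h2
    refine ⟨m⁻¹ * t, M.mul_mem (M.inv_mem hmM) htM, by rw [Units.val_mul]; exact (nm_inv hmn).mul htn, ?_⟩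
    rw [show m⁻¹ * t * g * (m⁻¹ * t)⁻¹ = f' by rw [hf', hf]; group, hf'v]
    congr 1; funext x
    rw [hρc x, hρ01, one_smul]

end Setup

end CfsgLib.MaxSub.SlNine
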