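import Cfsg.Agent.Lib.MaxSub.SlNine.Setting

/-!
No element of the group of order `3 ^ 5` lives in a single block of an overgroup of its normaliser: a bireflection
built from permutations and phases of lines would give a block that does not normalise the group in dimension three.
-/

set_option autoImplicit false
set_option linter.unusedSectionVars false

namespace CfsgLib.MaxSub.SlNine

open Matrix
open scoped MatrixGroups

variable {F : Type*} [Field F]

namespace Pure

theorem sumZ (f : Z → F) : ∑ x, f x = f 0 + f 1 + f 2 := Fin.sum_univ_three f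

theorem casesZ (a : Z) : a = 0 ∨ a = 1 ∨ a = 2 := by revert a; decide +kernel

theorem ch_one (w : F) : ch w 1 = w := pow_one w

theorem ch_two (w : F) : ch w 2 = w ^ 2 := rfl

theorem single_mul (A B : Matrix Z Z F) : bd (single A) * bd (single B) = bd (single (A * B)) := by
  rw [bd_mul]; congr 1; funext x; simp only [single]; split_ifs <;> simp

theorem single_one : bd (single (1 : Matrix Z Z F)) = 1 := by
  rw [← bd_one]; congr 1; funext x; simp [single]

theorem const_conj (h h' A : Matrix Z Z F) (e : h * h' = 1) :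
    bd (fun _ => h) * bd (single A) * bd (fun _ => h') = bd (single (h * A * h')) := by
  rw [bd_mul, bd_mul]; congr 1; funext x; simp only [single]; split_ifs <;> simp [e]

theorem diagonal_bd (f : I9 → F) : diagonal f = bd (fun x => diagonal fun y => f (x, y)) := by
  ext ⟨x, y⟩ ⟨x', y'⟩
  simp only [bd_apply, diagonal_apply, Prod.ext_iff, ite_and]

variable {w : F}

theorem w3_ab (h : Root w) (a b : Z) : w3 w a b = w3 w a 0 * w3 w 0 b := by
  rw [h.w3_mul, zero_mul, neg_zero, ch_zero, one_smul, add_zero, zero_add]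

theorem phi_mul_inv (h : Root w) : phi w * phiInv w = 1 := by
  have := h.eq
  have h3 := h.three
  have hd : w - w ^ 2 ≠ 0 := fun e => h.ne_one (mul_left_cancel₀ h.ne_zero (by linear_combination -e))
  ext i j
  rw [Matrix.mul_apply, sumZ]
  rcases casesZ i with rfl | rfl | rfl <;> rcases casesZ j with rfl | rfl | rfl <;>
    simp [phi, phiInv, show (-1 : Z) = 2 from rfl, show (-2 : Z) = 1 from rfl, show (2 * 2 : Z) = 1 from rfl,
      ch_zero, ch_one, ch_two, Matrix.one_apply] <;>
    field_simp <;> grind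

theorem phi_w3 (h : Root w) (a b : Z) : phi w * w3 w a b = ch w (a * b) • (w3 w b (-a) * phi w) := by
  ext i j
  rw [Matrix.smul_apply, w3, ← Matrix.mul_assoc, mul_pm_apply, mul_diagonal, w3, Matrix.mul_assoc, diagonal_mul,
    pm_mul_apply]
  simp only [phi, Matrix.smul_apply, of_apply, smul_eq_mul, Equiv.addRight_symm_apply, Equiv.coe_addRight]
  have e : ch w (i * (j + b)) * ch w (a * (j + b)) =
      ch w (a * b) * (ch w (b * i) * ch w ((i + - -a) * j)) := by
    rw [← h.ch_add, ← h.ch_add, ← h.ch_add]; congr 1; ring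
  linear_combination (w - w ^ 2)⁻¹ * e

theorem twist_w3 (h : Root w) (a b : Z) :
    (diagonal fun y : Z => ch w (y * y)) * w3 w a b =
      ch w (-(b * b)) • (w3 w (a + 2 * b) b * diagonal fun y : Z => ch w (y * y)) := by
  ext i j
  simp only [Matrix.smul_apply, diagonal_mul, mul_diagonal, w3_apply, smul_eq_mul, ite_mul, mul_ite, zero_mul,
    mul_zero]
  split_ifs with e
  · subst e
    rw [← h.ch_add, ← h.ch_add, ← h.ch_add]; ring_nf
  · rfl

theorem twist_mul_inv (h : Root w) :
    (diagonal fun y : Z => ch w (y * y)) * (diagonal fun y : Z => ch w (-(y * y))) = 1 := by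
  rw [diagonal_mul_diagonal, ← diagonal_one]
  congr 1; funext y; rw [← h.ch_add, add_neg_cancel, ch_zero]

/-- cycle of one column -/
def colC (x₀ : Z) : Equiv.Perm I9 where
  toFun p := if p.1 = x₀ then (p.1, p.2 + 1) else p
  invFun p := if p.1 = x₀ then (p.1, p.2 - 1) else p
  left_inv p := by by_cases e : p.1 = x₀ <;> simp [e, Prod.ext_iff]
  right_inv p := by by_cases e : p.1 = x₀ <;> simp [e, Prod.ext_iff]

/-- cycle of one row -/
def rowC (y₀ : Z) : Equiv.Perm I9 := swp * colC y₀ * swp⁻¹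

/-- a five-cycle -/
def five : Equiv.Perm I9 := (rowC 2)⁻¹ * colC 1 * rowC 2 * (colC 0)⁻¹

variable {M : Subgroup (GL I9 F)} {G S : Subgroup (GL Z F)}

theorem mem_phi (hS : Setup w M G S) : Mem M (bd fun _ => phi w) := by
  obtain ⟨g, hg, e⟩ := hS.phi_mem
  rw [← e]
  exact hS.mem_hess g hg fun a b => ⟨_, _, _, by rw [e]; exact phi_w3 hS.root a b⟩

theorem mem_twist (hS : Setup w M G S) : Mem M (bd fun _ => diagonal fun y : Z => ch w (y * y)) := by
  have h := hS.mem_quad 0 0 1
  rw [qd, diagonal_bd] at h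
  simpa using h

/-- one single block element gives all of the small group in that block -/
theorem all_single (hS : Setup w M G S) {a b : Z} (hne : a ≠ 0 ∨ b ≠ 0) {c : F}
    (hX : Mem M (bd (single (c • w3 w a b)))) : ∀ k a' b', Mem M (bd (single (ch w k • w3 w a' b'))) := by
  have h := hS.root
  have hmul : ∀ {A B}, Mem M (bd (single A)) → Mem M (bd (single B)) → Mem M (bd (single (A * B))) :=
    fun hA hB => single_mul (F := F) _ _ ▸ hA.mul hB
  have hinv : ∀ {A B}, Mem M (bd (single A)) → A * B = 1 → Mem M (bd (single B)) :=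
    fun hA e => hA.inv (by rw [single_mul, e, single_one])
  have hphi : ∀ {A}, Mem M (bd (single A)) → Mem M (bd (single (phi w * A * phiInv w))) := fun hA => by
    rw [← const_conj _ _ _ (phi_mul_inv h)]
    exact (mem_phi hS).conj hA (by rw [bd_mul, ← bd_one]; simp [phi_mul_inv h])
  have htw : ∀ {A}, Mem M (bd (single A)) → Mem M (bd (single ((diagonal fun y : Z => ch w (y * y)) * A *
      (diagonal fun y : Z => ch w (-(y * y)))))) := fun hA => by
    rw [← const_conj _ _ _ (twist_mul_inv h)]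
    exact (mem_twist hS).conj hA (by rw [bd_mul, ← bd_one]; simp [twist_mul_inv h])
  have hrot : ∀ {u v : Z} {s : F}, Mem M (bd (single (s • w3 w u v))) →
      Mem M (bd (single ((s * ch w (u * v)) • w3 w v (-u)))) := fun {u v s} hA => by
    have := hphi hA
    rwa [mul_smul_comm, phi_w3 h, smul_smul, smul_mul_assoc, mul_assoc, phi_mul_inv h, mul_one] at this
  -- normalise the scalar
  have hc : c ≠ 0 := fun e => by
    obtain ⟨g, -, hg⟩ := hX
    have hd := g.isUnit.map Matrix.detMonoidHom
    rw [coe_detMonoidHom, hg, bd_det, e, zero_smul] at hd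
    rw [Finset.prod_eq_zero (Finset.mem_univ (0 : Z)) (by simp [single])] at hd
    exact not_isUnit_zero hd
  obtain ⟨u, v, s, hv, hs, hY⟩ : ∃ (u v : Z) (s : F), v ≠ 0 ∧ s ≠ 0 ∧ Mem M (bd (single (s • w3 w u v))) := by
    by_cases hb : b = 0
    · exact ⟨b, -a, _, neg_ne_zero.2 (hne.resolve_right (not_not.2 hb)), mul_ne_zero hc (h.ch_ne_zero _), hrot hX⟩
    · exact ⟨a, b, c, hb, hc, hX⟩
  -- a commutator with the twist kills the scalar
  have hD : ∃ k, Mem M (bd (single (ch w k • w3 w (2 * v) 0))) := by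
    have h1 := htw hY
    rw [mul_smul_comm, twist_w3 h, smul_smul, smul_mul_assoc, mul_assoc, twist_mul_inv h, mul_one] at h1
    have e : (s • w3 w u v) * ((s⁻¹ * ch w (-(u * v))) • w3 w (-u) (-v)) = 1 := by
      rw [smul_mul_smul_comm, h.w3_mul, smul_smul, add_neg_cancel, add_neg_cancel, w3_zero, ← mul_assoc s,
        mul_inv_cancel₀ hs, one_mul, ← h.ch_add]
      simp [ch_zero]
    have h2 := hmul h1 (hinv hY e)
    rw [smul_mul_smul_comm, h.w3_mul, smul_smul, show u + 2 * v + -u = 2 * v by ring, add_neg_cancel] at h2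
    refine ⟨-(v * v) + -(u * v) + -(-u * v), ?_⟩
    rw [h.ch_add, h.ch_add]
    convert h2 using 5
    field_simp
  obtain ⟨k₀, hD⟩ := hD
  have hD2 : ∀ n : ℕ, ∃ k, Mem M (bd (single (ch w k • w3 w ((n : Z) * (2 * v)) 0))) := fun n => by
    induction n with
    | zero => exact ⟨0, by rw [Nat.cast_zero, zero_mul, w3_zero, ch_zero, one_smul, single_one]; exact Mem.one⟩
    | succ n ih =>
      obtain ⟨k, hk⟩ := ih
      refine ⟨k + k₀, ?_⟩
      have := hmul hk hD
      rwa [smul_mul_smul_comm, h.w3_mul, mul_zero, neg_zero, ch_zero, one_smul, add_zero, ← h.ch_add,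
        show (n : Z) * (2 * v) + 2 * v = ((n + 1 : ℕ) : Z) * (2 * v) by push_cast; ring] at this
  have hdiag : ∀ a' : Z, ∃ k, Mem M (bd (single (ch w k • w3 w a' 0))) := fun a' => by
    have h2v : 2 * v ≠ 0 := by rcases casesZ v with rfl | rfl | rfl <;> first | exact absurd rfl hv | decide
    obtain ⟨k, hk⟩ := hD2 (a' * (2 * v)).val
    refine ⟨k, ?_⟩
    rwa [ZMod.natCast_zmod_val, mul_assoc, show (2 * v) * (2 * v) = 1 by
      rcases casesZ v with rfl | rfl | rfl <;> first | exact absurd rfl hv | decide, mul_one] at hk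
  have hperm : ∀ b' : Z, ∃ k, Mem M (bd (single (ch w k • w3 w 0 b'))) := fun b' => by
    obtain ⟨k, hk⟩ := hdiag (-b')
    refine ⟨k, ?_⟩
    have := hrot hk
    rwa [mul_zero, ch_zero, mul_one, neg_neg] at this
  have hw : Mem M (bd (single (w • (1 : Matrix Z Z F)))) := by
    obtain ⟨i, hi⟩ := hdiag 1
    obtain ⟨i', hi'⟩ := hdiag (-1)
    obtain ⟨j, hj⟩ := hperm 1
    obtain ⟨j', hj'⟩ := hperm (-1)
    have e : ∀ {t : Z} {A B : Matrix Z Z F}, A * B = 1 → Mem M (bd (single (ch w t • A))) →
        Mem M (bd (single (ch w (-t) • B))) := fun {t A B} e hA => hinv hA (by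
      rw [smul_mul_smul_comm, e, ← h.ch_add, add_neg_cancel, ch_zero, one_smul])
    have hi2 := e (B := w3 w (-1) 0) (by rw [h.w3_mul]; simp [ch_zero, w3_zero]) hi
    have hj2 := e (B := w3 w 0 (-1)) (by rw [h.w3_mul]; simp [ch_zero, w3_zero]) hj
    have := hmul (hmul hi hj) (hmul hi2 hj2)
    rw [smul_mul_smul_comm, smul_mul_smul_comm, smul_mul_smul_comm, h.w3_mul, h.w3_mul, smul_mul_smul_comm,
      h.w3_mul, smul_smul, smul_smul] at this
    simp only [add_neg_cancel, add_zero, zero_add, w3_zero, ← h.ch_add] at this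
    convert this using 4
    ring_nf
    exact (ch_one w).symm
  intro k a' b'
  obtain ⟨i, hi⟩ := hdiag a'
  obtain ⟨j, hj⟩ := hperm b'
  have hsc : ∀ t : Z, Mem M (bd (single (ch w t • (1 : Matrix Z Z F)))) := fun t => by
    rcases casesZ t with rfl | rfl | rfl
    · rw [ch_zero, one_smul, single_one]; exact Mem.one
    · rwa [ch_one]
    · have := hmul hw hw
      rwa [smul_mul_smul_comm, one_mul, ← pow_two, ← ch_two] at this
  have := hmul (hsc (k - (i + j))) (hmul hi hj)
  rwa [smul_mul_smul_comm, ← w3_ab h, smul_mul_smul_comm, one_mul, ← h.ch_add, ← h.ch_add,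
    sub_add_cancel] at this

/-- indicator of the column `x₀` -/
def colV (F : Type*) [Field F] (x₀ : Z) : I9 → F := fun p => if p.1 = x₀ then 1 else 0

/-- the image of the first column under the five-cycle -/
def upV (F : Type*) [Field F] : I9 → F :=
  fun p => if p = (1, 0) ∨ p = (0, 0) ∨ p = (0, 1) then 1 else 0

/-- the phases -/
def phase : I9 → Z := fun p =>
  if p = (0, 0) ∨ p = (0, 1) then 2 else if p = (1, 1) ∨ p = (1, 2) then 1 else 0

/-- the signed first column -/
def yV (F : Type*) [Field F] : I9 → F := fun p => if p.1 = 0 then (if p.2 = 2 then 1 else -1) else 0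

/-- two rank-one terms -/
def two (w : F) (u v : I9 → F) : Matrix I9 I9 F :=
  1 + ((w - 1) / 3) • vecMulVec u v + ((w ^ 2 - 1) / 3) • vecMulVec (colV F 2) (colV F 2)

theorem two_mulVec (u v x : I9 → F) : two w u v *ᵥ x =
    x + ((w - 1) / 3 * (v ⬝ᵥ x)) • u + ((w ^ 2 - 1) / 3 * (colV F 2 ⬝ᵥ x)) • colV F 2 := by
  simp [two, add_mulVec, smul_mulVec, vecMulVec_mulVec, smul_smul]

theorem vecMul_two (u v x : I9 → F) : x ᵥ* two w u v =
    x + ((w - 1) / 3 * (x ⬝ᵥ u)) • v + ((w ^ 2 - 1) / 3 * (x ⬝ᵥ colV F 2)) • colV F 2 := by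
  simp [two, vecMul_add, vecMul_smul, vecMul_vecMulVec, smul_smul]

theorem sum9 (f : I9 → F) : ∑ p, f p =
    f (0, 0) + f (0, 1) + f (0, 2) + (f (1, 0) + f (1, 1) + f (1, 2)) + (f (2, 0) + f (2, 1) + f (2, 2)) := by
  rw [Fintype.sum_prod_type, sumZ, sumZ, sumZ, sumZ]

theorem swap_apply (p : I9) : swp p = (p.2, p.1) := rfl

/-- conjugating the bireflection -/
theorem birefl (h : Root w) {P P' Pw T g : Matrix I9 I9 F} (hP : P = two w (colV F 0) (colV F 0))
    (hP' : P' = two w (upV F) (upV F))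
    (hPw : Pw = two w (fun p => ch w (phase p) * upV F p) (fun p => ch w (-phase p) * upV F p))
    (hT : T = two w (yV F) (yV F)) (hg : g = Pw * P') : g * P = T * g := by
  have := h.eq
  have h3 := h.three
  have e0 : g *ᵥ colV F 0 = yV F := by
    rw [hg, ← mulVec_mulVec, hP', hPw, two_mulVec, two_mulVec]
    funext ⟨x, y⟩
    rcases casesZ x with rfl | rfl | rfl <;> rcases casesZ y with rfl | rfl | rfl <;>
      simp +decide [dotProduct, sum9, colV, upV, yV, phase, ch_zero, ch_one, ch_two,
        show (-1 : Z) = 2 from rfl, show (-2 : Z) = 1 from rfl] <;>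
      field_simp <;> grind
  have e0' : yV F ᵥ* g = colV F 0 := by
    rw [hg, ← vecMul_vecMul, hP', hPw, vecMul_two, vecMul_two]
    funext ⟨x, y⟩
    rcases casesZ x with rfl | rfl | rfl <;> rcases casesZ y with rfl | rfl | rfl <;>
      simp +decide [dotProduct, sum9, colV, upV, yV, phase, ch_zero, ch_one, ch_two,
        show (-1 : Z) = 2 from rfl, show (-2 : Z) = 1 from rfl] <;>
      field_simp <;> grind
  have e2 : g *ᵥ colV F 2 = w • colV F 2 := by
    rw [hg, ← mulVec_mulVec, hP', hPw, two_mulVec, two_mulVec]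
    funext ⟨x, y⟩
    rcases casesZ x with rfl | rfl | rfl <;> rcases casesZ y with rfl | rfl | rfl <;>
      simp +decide [dotProduct, sum9, colV, upV, yV, phase, ch_zero, ch_one, ch_two,
        show (-1 : Z) = 2 from rfl, show (-2 : Z) = 1 from rfl] <;>
      field_simp <;> grind
  have e2' : colV F 2 ᵥ* g = w • colV F 2 := by
    rw [hg, ← vecMul_vecMul, hP', hPw, vecMul_two, vecMul_two]
    funext ⟨x, y⟩
    rcases casesZ x with rfl | rfl | rfl <;> rcases casesZ y with rfl | rfl | rfl <;>
      simp +decide [dotProduct, sum9, colV, upV, yV, phase, ch_zero, ch_one, ch_two,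
        show (-1 : Z) = 2 from rfl, show (-2 : Z) = 1 from rfl] <;>
      field_simp <;> grind
  rw [hP, hT]
  simp only [two, mul_add, add_mul, mul_one, one_mul, mul_smul_comm, smul_mul_assoc, mul_vecMulVec,
    vecMulVec_mul, e0, e0', e2, e2', vecMulVec_smul, smul_vecMulVec]

theorem two_col : two w (colV F 0) (colV F 0) = bd (fun x : Z =>
    1 + (if x = 0 then (w - 1) / 3 else if x = 2 then (w ^ 2 - 1) / 3 else 0) • Matrix.of fun _ _ => (1 : F)) := by
  ext ⟨x, y⟩ ⟨x', y'⟩
  rcases casesZ x with rfl | rfl | rfl <;> rcases casesZ x' with rfl | rfl | rfl <;>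
    simp +decide [two, colV, bd_apply, vecMulVec_apply, Matrix.one_apply]

theorem phi_diag (h : Root w) (c : F) :
    phi w * diagonal (fun y : Z => if y = 0 then c else 1) * phiInv w =
      1 + ((c - 1) / 3) • Matrix.of fun _ _ => (1 : F) := by
  have := h.eq
  have h3 := h.three
  have hd : w - w ^ 2 ≠ 0 := fun e => h.ne_one (mul_left_cancel₀ h.ne_zero (by linear_combination -e))
  ext i j
  rw [Matrix.mul_apply, sumZ]
  simp only [mul_diagonal]
  rcases casesZ i with rfl | rfl | rfl <;> rcases casesZ j with rfl | rfl | rfl <;>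
    simp +decide [phi, phiInv, show (-1 : Z) = 2 from rfl, show (-2 : Z) = 1 from rfl,
      show (2 * 2 : Z) = 1 from rfl, ch_zero, ch_one, ch_two, Matrix.one_apply] <;>
    field_simp <;> grind

/-- the final block does not normalise the small group -/
theorem not_nm3 (h : Root w) (h2 : (2 : F) ≠ 0) :
    ¬ Nm3 w (1 + ((w - 1) / 3) • vecMulVec (fun y : Z => yV F (0, y)) (fun y : Z => yV F (0, y))) := by
  intro hn
  obtain ⟨c, a', b', e⟩ := hn 1 0
  have := h.eq
  have h3 := h.three
  have h1 := h.ne_one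
  have e00 := congrFun (congrFun e 0) 0
  have e01 := congrFun (congrFun e 0) 1
  have e10 := congrFun (congrFun e 1) 0
  have hq := h.ch_cube a'
  simp only [Matrix.smul_apply, smul_eq_mul, w3, Matrix.mul_assoc, diagonal_mul] at e00 e01 e10
  simp only [← Matrix.mul_assoc, mul_pm_apply, mul_diagonal, pm_mul_apply, Equiv.coe_addRight,
    Equiv.addRight_symm_apply, Matrix.add_apply, Matrix.smul_apply, smul_eq_mul, vecMulVec_apply,
    Matrix.one_apply] at e00 e01 e10
  rcases casesZ b' with rfl | rfl | rfl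
  · simp +decide [yV, ch_zero, ch_one, show (-1 : Z) = 2 from rfl, show (-2 : Z) = 1 from rfl,
      show (1 + 2 : Z) = 0 from rfl, show (1 + 1 : Z) = 2 from rfl] at e00 e01 e10
    field_simp at e00 e01 e10
    grind
  · simp +decide [yV, ch_zero, ch_one, show (-1 : Z) = 2 from rfl, show (-2 : Z) = 1 from rfl,
      show (1 + 2 : Z) = 0 from rfl, show (1 + 1 : Z) = 2 from rfl] at e00 e01 e10
    field_simp at e00 e01 e10
    grind
  · simp +decide [yV, ch_zero, ch_one, show (-1 : Z) = 2 from rfl, show (-2 : Z) = 1 from rfl,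
      show (1 + 2 : Z) = 0 from rfl, show (1 + 1 : Z) = 2 from rfl] at e00 e01 e10
    field_simp at e00 e01 e10
    grind

end Pure

open Pure

variable {w : F} {M : Subgroup (GL I9 F)} {G S : Subgroup (GL Z F)}

/-- no element of the group in a single block -/
theorem Setup.no_pure (hS : Setup w M G S) (h2 : (2 : F) ≠ 0) (hB : ∀ A, Mem M (bd A) → ∀ x, Nm3 w (A x))
    {a b : Z} (hne : a ≠ 0 ∨ b ≠ 0) (c : F) : ¬ Mem M (bd (single (c • w3 w a b))) := by
  intro hX
  have h := hS.root
  have hall := all_single hS hne hX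
  -- cycles of lines
  have hwt : ∀ t : I9, Mem M (pm (Equiv.addRight t) : Matrix I9 I9 F) := fun t => by
    have := hS.mem_w 0 t
    rwa [w9, show (fun x : I9 => ch w (dot 0 x)) = fun _ => 1 from funext fun x => by simp [dot, ch_zero],
      diagonal_one, one_mul] at this
  have hc0 : Mem M (pm (colC 0) : Matrix I9 I9 F) := by
    have := hall 0 0 1
    rw [ch_zero, one_smul] at this
    convert this using 1
    ext ⟨x, y⟩ ⟨x', y'⟩
    rcases casesZ x with rfl | rfl | rfl <;> rcases casesZ x' with rfl | rfl | rfl <;>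
      simp +decide [pm_apply, bd_apply, single, colC, w3_apply, ch_zero, Matrix.one_apply]
  have pmconj : ∀ {σ τ ρ : Equiv.Perm I9}, Mem M (pm σ : Matrix I9 I9 F) → Mem M (pm τ : Matrix I9 I9 F) →
      σ * τ * σ⁻¹ = ρ → Mem M (pm ρ : Matrix I9 I9 F) := fun hσ hτ e => by
    rw [← e, ← pm_mul_pm, ← pm_mul_pm]; exact hσ.conj hτ (pm_mul_inv _)
  have pminv : ∀ {σ : Equiv.Perm I9}, Mem M (pm σ : Matrix I9 I9 F) → Mem M (pm σ⁻¹ : Matrix I9 I9 F) :=
    fun hσ => hσ.inv (pm_mul_inv _)
  have swconj : ∀ {A : Matrix I9 I9 F}, Mem M A → Mem M (pm swp * A * pm swp⁻¹) := fun hA => by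
    have := hS.mem_swap.conj hA (X' := -pm swp⁻¹) (by rw [neg_mul_neg, pm_mul_inv])
    simpa using this
  have hc1 : Mem M (pm (colC 1) : Matrix I9 I9 F) := pmconj (hwt (1, 0)) hc0 (by decide +kernel)
  have hc2 : Mem M (pm (colC 2) : Matrix I9 I9 F) := pmconj (hwt (2, 0)) hc0 (by decide +kernel)
  have hr2 : Mem M (pm (rowC 2) : Matrix I9 I9 F) := by
    rw [rowC, ← pm_mul_pm, ← pm_mul_pm]; exact swconj hc2
  have hfive : Mem M (pm five : Matrix I9 I9 F) := by
    rw [five, ← pm_mul_pm, ← pm_mul_pm, ← pm_mul_pm]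
    exact (((pminv hr2).mul hc1).mul hr2).mul (pminv hc0)
  -- phases with sum zero on lines
  have hcol : ∀ k u : Z, Mem M (diagonal fun p : I9 => if p.1 = 0 then ch w (k + u * p.2) else 1) := fun k u => by
    have := hall k u 0
    convert this using 1
    ext ⟨x, y⟩ ⟨x', y'⟩
    rcases casesZ x with rfl | rfl | rfl <;> rcases casesZ x' with rfl | rfl | rfl <;>
      simp +decide [bd_apply, single, w3_apply, diagonal_apply, Prod.ext_iff, Matrix.one_apply] <;>
      split_ifs <;> simp_all [h.ch_add]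
  have hconj : ∀ {σ : Equiv.Perm I9} {f : I9 → F} (f' : I9 → F), Mem M (pm σ : Matrix I9 I9 F) →
      Mem M (diagonal f) → (∀ p, f' p = f (σ.symm p)) → Mem M (diagonal f') := fun {σ f} f' hσ hf e => by
    rw [show f' = fun p => f (σ.symm p) from funext e]
    have := hσ.conj hf (pm_mul_inv σ)
    rwa [pm_mul_diagonal, mul_assoc, pm_mul_inv, mul_one] at this
  have hrow : ∀ k u : Z, Mem M (diagonal fun p : I9 => if p.2 = 0 then ch w (k + u * p.1) else 1) := fun k u => by
    have := swconj (hcol k u)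
    rwa [pm_mul_diagonal, mul_assoc, pm_mul_inv, mul_one] at this
  have dmul : ∀ {f g f' : I9 → F}, Mem M (diagonal f) → Mem M (diagonal g) → (∀ p, f' p = f p * g p) →
      Mem M (diagonal f') := fun {f g f'} hf hg e => by
    rw [show f' = fun p => f p * g p from funext e, ← diagonal_mul_diagonal]; exact hf.mul hg
  -- the bireflection
  obtain ⟨P, hP⟩ : ∃ P, P = two w (colV F 0) (colV F 0) := ⟨_, rfl⟩
  have hPM : Mem M P := by
    have he := hrow 1 2
    have hc := (mem_phi hS).conj he (X' := bd fun _ => phiInv w) (by rw [bd_mul, ← bd_one]; simp [phi_mul_inv h])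
    rw [diagonal_bd, bd_mul, bd_mul] at hc
    convert hc using 1
    rw [hP, two_col]
    congr 1
    funext x
    have e := phi_diag h (ch w (1 + 2 * x))
    rw [show (fun y : Z => if ((x, y) : I9).2 = 0 then ch w (1 + 2 * ((x, y) : I9).1) else 1) =
      fun y : Z => if y = 0 then ch w (1 + 2 * x) else 1 from rfl, e]
    rcases casesZ x with rfl | rfl | rfl <;>
      simp +decide [ch_zero, ch_one, ch_two, show (1 + 2 : Z) = 0 from rfl, show (1 + 2 * 2 : Z) = 2 from rfl]
  obtain ⟨P', hP'⟩ : ∃ P', P' = two w (upV F) (upV F) := ⟨_, rfl⟩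
  have hP'M : Mem M P' := by
    have hc := hfive.conj hPM (pm_mul_inv five)
    convert hc using 1
    ext i j
    rw [pm_conj_apply, hP, hP']
    have e1 : ∀ p, upV F p = colV F 0 (five.symm p) := fun p => by
      unfold upV colV
      exact if_congr ((by decide +kernel : ∀ p : I9, (p = (1, 0) ∨ p = (0, 0) ∨ p = (0, 1)) ↔
        (five.symm p).1 = 0) p) rfl rfl
    have e2 : ∀ p, colV F 2 p = colV F 2 (five.symm p) := fun p => by
      unfold colV
      exact if_congr ((by decide +kernel : ∀ p : I9, p.1 = 2 ↔ (five.symm p).1 = 2) p) rfl rfl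
    simp only [two, Matrix.add_apply, Matrix.smul_apply, vecMulVec_apply, ← e1, ← e2, Matrix.one_apply,
      Equiv.apply_eq_iff_eq]
  obtain ⟨d, hd⟩ : ∃ d : I9 → F, d = fun p => ch w (phase p) := ⟨_, rfl⟩
  have hdM : Mem M (diagonal d) := by
    have hA := hcol 2 0
    have hB' := hconj (fun p => if p.1 = 1 then ch w (1 + 0 * p.2) else 1) (hwt (1, 0)) (hcol 1 0) (by
      intro p; exact (if_congr ((by decide +kernel : ∀ p : I9, p.1 = 1 ↔ ((Equiv.addRight ((1, 0) : I9)).symm p).1 = 0) p)
        (by simp) rfl))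
    refine dmul (dmul hA hB' fun _ => rfl) (dmul (hcol 2 1) (hrow 1 1) fun _ => rfl) fun p => ?_
    obtain ⟨x, y⟩ := p
    subst hd
    have := h.cube
    rcases casesZ x with rfl | rfl | rfl <;> rcases casesZ y with rfl | rfl | rfl <;>
      simp +decide [phase, ch_zero, ch_one, ch_two, show (1 + 1 : Z) = 2 from rfl, show (1 + 2 : Z) = 0 from rfl,
        show (2 + 1 : Z) = 0 from rfl, show (2 + 2 : Z) = 1 from rfl] <;> grind
  have hd1 : diagonal d * diagonal (fun p => ch w (-phase p)) = 1 := by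
    rw [hd, diagonal_mul_diagonal, ← diagonal_one]
    congr 1; funext p; rw [← h.ch_add, add_neg_cancel, ch_zero]
  obtain ⟨Pw, hPw⟩ : ∃ Pw, Pw = two w (fun p => ch w (phase p) * upV F p)
    (fun p => ch w (-phase p) * upV F p) := ⟨_, rfl⟩
  have hPwM : Mem M Pw := by
    have hc := hdM.conj hP'M hd1
    convert hc using 1
    have e2 : ∀ p, d p * colV F 2 p = colV F 2 p ∧ colV F 2 p * ch w (-phase p) = colV F 2 p := fun p => by
      unfold colV
      split_ifs with e
      · rw [hd]; simp [(by decide +kernel : ∀ p : I9, p.1 = 2 → phase p = 0) p e, ch_zero]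
      · simp
    ext i j
    rw [mul_diagonal, diagonal_mul, hPw, hP']
    simp only [two, Matrix.add_apply, Matrix.smul_apply, vecMulVec_apply, smul_eq_mul, Matrix.one_apply]
    have hii : d i * ch w (-phase i) = 1 := by rw [hd, ← h.ch_add, add_neg_cancel, ch_zero]
    split_ifs with e
    · subst e
      linear_combination (norm := (simp only [hd]; ring_nf)) -hii -
        ((w ^ 2 - 1) / 3) * colV F 2 i * (ch w (-phase i)) * (e2 i).1 - ((w ^ 2 - 1) / 3) * colV F 2 i * (e2 i).2
    · linear_combination (norm := (simp only [hd]; ring_nf)) -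
        ((w ^ 2 - 1) / 3) * colV F 2 j * (ch w (-phase j)) * (e2 i).1 - ((w ^ 2 - 1) / 3) * colV F 2 i * (e2 j).2
  -- its conjugate has a bad block
  obtain ⟨T, hT⟩ : ∃ T, T = two w (yV F) (yV F) := ⟨_, rfl⟩
  have hgP := birefl h hP hP' hPw hT rfl
  have hTM : Mem M T := by
    obtain ⟨g, hg, hge⟩ := hPwM.mul hP'M
    obtain ⟨x, hx, hxe⟩ := hPM
    refine ⟨g * x * g⁻¹, M.mul_mem (M.mul_mem hg hx) (M.inv_mem hg), ?_⟩
    rw [Units.val_mul, Units.val_mul, hxe, hge, hgP, mul_assoc, ← hge, Units.mul_inv, mul_one]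
  have hTb : T = bd (fun x : Z => 1 + (if x = 0 then ((w - 1) / 3) •
      vecMulVec (fun y : Z => yV F (0, y)) (fun y : Z => yV F (0, y))
      else if x = 2 then ((w ^ 2 - 1) / 3) • Matrix.of fun _ _ => (1 : F) else 0)) := by
    rw [hT]
    ext ⟨x, y⟩ ⟨x', y'⟩
    rcases casesZ x with rfl | rfl | rfl <;> rcases casesZ x' with rfl | rfl | rfl <;>
      simp +decide [two, yV, colV, bd_apply, vecMulVec_apply, Matrix.one_apply]
  refine not_nm3 h h2 ?_
  have := hB _ (hTb ▸ hTM) 0
  simpa using this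

end CfsgLib.MaxSub.SlNine
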