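import Cfsg.Agent.Lib.MaxSub.SlNine.Setting
import Cfsg.Agent.Lib.MaxSub.SlThree.ExtraData
import Cfsg.Agent.Lib.ClassK.Symplectic
import Cfsg.Agent.Lib.Aschbacher.SympType
import Cfsg.Agent.Lib.Aschbacher.Forms
import Cfsg.Prelude.Def_GeometricClasses

/-!
The symplectic type groups `3 ^ (1 + 2)` and `3 ^ (1 + 4)` in coordinates: their normalisers, the class-six datum
in dimension three, and coordinates for every such group in dimension nine.
-/

set_option autoImplicit false
set_option linter.unusedSectionVars false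

namespace CfsgLib.MaxSub.SlNine

open Matrix Cfsg.Geo
open scoped MatrixGroups commutatorElement

variable {F : Type*} [Field F]

section phased

variable {V α : Type} [AddCommGroup V] [Fintype α] [DecidableEq α]

/-- the laws of a family of monomial matrices with phases -/
structure Phased (w : F) (W : V → V → Matrix α α F) (β : V → V → Z) : Prop where
  root : Root w
  zero : W 0 0 = 1
  beta_add : ∀ a b b', β a (b + b') = β a b + β a b'
  add_beta : ∀ a a' b, β (a + a') b = β a b + β a' b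
  three : ∀ v : V, v + v + v = 0
  mul : ∀ a b a' b', W a b * W a' b' = ch w (-β a' b) • W (a + a') (b + b')

namespace Phased

variable {w : F} {W : V → V → Matrix α α F} {β : V → V → Z} (hW : Phased w W β)
include hW

theorem beta_neg (a b : V) : β a (-b) = -β a b := by
  have h0 : β a 0 = 0 := by
    have := hW.beta_add a 0 0
    rw [add_zero] at this
    exact left_eq_add.1 this
  have h := hW.beta_add a b (-b)
  rw [add_neg_cancel, h0] at h
  exact eq_neg_of_add_eq_zero_right h.symm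

theorem neg_beta (a b : V) : β (-a) b = -β a b := by
  have h0 : β 0 b = 0 := by
    have := hW.add_beta 0 0 b
    rw [add_zero] at this
    exact left_eq_add.1 this
  have h := hW.add_beta a (-a) b
  rw [add_neg_cancel, h0] at h
  exact eq_neg_of_add_eq_zero_right h.symm

theorem smul_mul (j k : Z) (a b a' b' : V) :
    (ch w j • W a b) * (ch w k • W a' b') = ch w (j + k - β a' b) • W (a + a') (b + b') := by
  rw [Matrix.smul_mul, Matrix.mul_smul, hW.mul, smul_smul, smul_smul, ← hW.root.ch_add, ← hW.root.ch_add]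
  congr 2
  ring

theorem cube (a b : V) : W a b * W a b * W a b = 1 := by
  rw [hW.mul, Matrix.smul_mul, hW.mul, smul_smul, ← hW.root.ch_add, hW.three, hW.three, hW.zero, hW.beta_add,
    show -β a b + -(β a b + β a b) = -(3 * β a b) by ring, show (3 : Z) = 0 from rfl, zero_mul, neg_zero,
    ch_zero, one_smul]

theorem smul_cube (k : Z) (a b : V) : (ch w k • W a b) * (ch w k • W a b) * (ch w k • W a b) = 1 := by
  simp only [Matrix.smul_mul, Matrix.mul_smul, smul_smul]
  rw [hW.cube, show ch w k * (ch w k * ch w k) = ch w k ^ 3 by ring, hW.root.ch_cube, one_smul]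

/-- the group of all `w ^ k W a b` -/
def group : Subgroup (GL α F) where
  carrier := {g | ∃ k a b, (g : Matrix α α F) = ch w k • W a b}
  one_mem' := ⟨0, 0, 0, by rw [Units.val_one, hW.zero, ch_zero, one_smul]⟩
  mul_mem' := by
    rintro g g' ⟨j, a, b, hg⟩ ⟨k, a', b', hg'⟩
    exact ⟨_, _, _, by rw [Units.val_mul, hg, hg', hW.smul_mul]⟩
  inv_mem' := by
    rintro g ⟨k, a, b, hg⟩
    refine ⟨k + k - β a b, a + a, b + b, ?_⟩
    have h1 : g * (g * g) = 1 := Units.ext (by
      rw [Units.val_mul, Units.val_mul, hg, ← mul_assoc, hW.smul_cube, Units.val_one])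
    rw [inv_eq_of_mul_eq_one_right h1, Units.val_mul, hg, hW.smul_mul]

theorem mem_group {g : GL α F} : g ∈ hW.group ↔ ∃ k a b, (g : Matrix α α F) = ch w k • W a b := Iff.rfl

/-- the element `w ^ k W a b` -/
def unit (k : Z) (a b : V) : GL α F :=
  ⟨ch w k • W a b, (ch w k • W a b) * (ch w k • W a b), by rw [← mul_assoc, hW.smul_cube], hW.smul_cube k a b⟩

theorem coe_unit (k : Z) (a b : V) : (hW.unit k a b : Matrix α α F) = ch w k • W a b := rfl

theorem unit_mem (k : Z) (a b : V) : hW.unit k a b ∈ hW.group := ⟨k, a, b, rfl⟩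

theorem pow_three {g : GL α F} (hg : g ∈ hW.group) : g ^ 3 = 1 := by
  obtain ⟨k, a, b, hg⟩ := hg
  exact Units.ext (by rw [Units.val_pow_eq_pow_val, hg, pow_succ, pow_two, hW.smul_cube, Units.val_one])

theorem normalizer_iff [Finite F] [Nonempty α] {g : GL α F} :
    g ∈ subgroupNormalizer hW.group ↔
      ∀ a b, ∃ (c : F) (a' b' : V), (g : Matrix α α F) * W a b = c • (W a' b' * (g : Matrix α α F)) := by
  haveI : Finite (GL α F) := Finite.of_injective (fun g => (g : Matrix α α F)) fun _ _ => Units.ext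
  refine ⟨fun hg a b => ?_, fun hg => ?_⟩
  · obtain ⟨k, a', b', hk⟩ := (Subgroup.mem_normalizer_iff.1 hg _).1 (hW.unit_mem 0 a b)
    refine ⟨ch w k, a', b', ?_⟩
    rw [← Matrix.smul_mul, ← hk]
    simp [hW.coe_unit, ch_zero, mul_assoc]
  · refine Subgroup.mem_normalizer_fintype fun n hn => ?_
    obtain ⟨k, a, b, hn⟩ := hn
    obtain ⟨c, a', b', hc⟩ := hg a b
    have he : ((g * n * g⁻¹ : GL α F) : Matrix α α F) = (ch w k * c) • W a' b' := by
      rw [Units.val_mul, Units.val_mul, hn, Matrix.mul_smul, hc, smul_smul, Matrix.smul_mul, mul_assoc,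
        Units.mul_inv, Matrix.mul_one]
    have h3 : (g * n * g⁻¹) ^ 3 = 1 := by
      rw [conj_pow, hW.pow_three ⟨k, a, b, hn⟩, mul_one, mul_inv_cancel]
    have h4 := congrArg Units.val h3
    rw [Units.val_pow_eq_pow_val, he, smul_pow, pow_succ (W a' b'), pow_two (W a' b'), hW.cube, Units.val_one] at h4
    obtain ⟨j, hj⟩ := hW.root.eq_ch (smul_left_injective F (one_ne_zero (α := Matrix α α F))
      (h4.trans (one_smul F _).symm))
    exact ⟨j, a', b', by rw [he, hj]⟩

end Phased

end phased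

variable {w : F}

theorem Root.phased3 (h : Root w) : Phased w (w3 w) (fun a b : Z => a * b) :=
  ⟨h, w3_zero w, mul_add, add_mul, fun v => by rw [show v + v + v = 3 * v by ring, show (3 : Z) = 0 from rfl,
    zero_mul], h.w3_mul⟩

theorem Root.phased9 (h : Root w) : Phased w (w9 w) dot :=
  ⟨h, w9_zero w, dot_add, add_dot, fun v => by
    ext <;> simp only [Prod.fst_add, Prod.snd_add, Prod.fst_zero, Prod.snd_zero] <;>
      generalize v.1 = x <;> revert x <;> generalize v.2 = y <;> revert y <;> decide, h.w9_mul⟩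

/-- the symplectic type group in dimension three -/
def R3 (h : Root w) : Subgroup (GL Z F) := h.phased3.group

/-- the symplectic type group in dimension nine -/
def R9 (h : Root w) : Subgroup (GL I9 F) := h.phased9.group

theorem mem_R3 {h : Root w} {g : GL Z F} : g ∈ R3 h ↔ ∃ k a b, (g : Matrix Z Z F) = ch w k • w3 w a b := Iff.rfl

theorem mem_R9 {h : Root w} {g : GL I9 F} :
    g ∈ R9 h ↔ ∃ k a b, (g : Matrix I9 I9 F) = ch w k • w9 w a b := Iff.rfl

theorem normalizer_iff3 [Finite F] (h : Root w) {g : GL Z F} :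
    g ∈ subgroupNormalizer (R3 h) ↔ Nm3 w (g : Matrix Z Z F) := h.phased3.normalizer_iff

theorem normalizer_iff9 [Finite F] (h : Root w) {g : GL I9 F} :
    g ∈ subgroupNormalizer (R9 h) ↔ Nm w (g : Matrix I9 I9 F) := h.phased9.normalizer_iff

theorem w3_mulVec (a b : Z) (v : Z → F) (i : Z) : (w3 w a b *ᵥ v) i = ch w (a * i) * v (i - b) := by
  rw [Matrix.mulVec, dotProduct, Finset.sum_eq_single (i - b)]
  · rw [w3_apply, if_pos (sub_add_cancel i b).symm]
  · intro j _ hj
    rw [w3_apply, if_neg (fun e => hj (by rw [e, add_sub_cancel_right])), zero_mul]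
  · simp

theorem w9_mulVec (a b : I9) (v : I9 → F) (i : I9) : (w9 w a b *ᵥ v) i = ch w (dot a i) * v (i - b) := by
  rw [Matrix.mulVec, dotProduct, Finset.sum_eq_single (i - b)]
  · rw [w9_apply, if_pos (sub_add_cancel i b).symm]
  · intro j _ hj
    rw [w9_apply, if_neg (fun e => hj (by rw [e, add_sub_cancel_right])), zero_mul]
  · simp

/-- The quadratic phase and the Fourier matrix normalise. -/
theorem Root.nm3_phase (h : Root w) : Nm3 w (diagonal fun y : Z => ch w (y * y)) := by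
  intro a b
  refine ⟨ch w (-(b * b)), a + 2 * b, b, ?_⟩
  ext i j
  rw [diagonal_mul, Matrix.smul_apply, mul_diagonal, w3_apply, w3_apply, smul_eq_mul, mul_ite, mul_zero, ite_mul,
    zero_mul, mul_ite, mul_zero]
  split_ifs with e
  · subst e
    rw [← h.ch_add, ← h.ch_add, ← h.ch_add]
    congr 1
    ring
  · rfl

theorem Root.nm3_phi (h : Root w) : Nm3 w (phi w) := by
  intro a b
  refine ⟨ch w (a * b), b, -a, ?_⟩
  ext i j
  rw [phi, Matrix.smul_mul, Matrix.mul_smul, Matrix.smul_apply, Matrix.smul_apply, Matrix.smul_apply,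
    Matrix.mul_apply, Finset.sum_eq_single (j + b), Matrix.mul_apply, Finset.sum_eq_single (i + a)]
  · simp only [w3_apply, Matrix.of_apply, smul_eq_mul, if_true, add_neg_cancel_right]
    rw [← h.ch_add, ← h.ch_add, mul_left_comm (ch w (a * b)), ← h.ch_add]
    congr 2
    ring
  · intro k _ hk
    rw [w3_apply, if_neg (fun e => hk (by rw [e, neg_add_cancel_right])), zero_mul]
  · simp
  · intro k _ hk
    rw [w3_apply, if_neg hk, mul_zero]
  · simp

theorem Root.phi_unit (h : Root w) : IsUnit (phi w) := by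
  refine IsUnit.of_mul_eq_one (phiInv w) ?_
  have hsum : ∀ a : Z, (∑ k : Z, ch w (a * k)) = if a = 0 then 3 else 0 := fun a => by
    have hk : ∀ f : Z → F, ∑ k, f k = f 0 + f 1 + f 2 := fun f => Fin.sum_univ_three f
    rw [hk]
    rcases (show a = 0 ∨ a = 1 ∨ a = 2 by revert a; decide) with rfl | rfl | rfl
    · simp [ch_zero]; norm_num
    · rw [if_neg (by decide)]; simp only [one_mul, ch]
      show w ^ (0 : ℕ) + w ^ (1 : ℕ) + w ^ (2 : ℕ) = 0
      linear_combination h.eq
    · rw [if_neg (by decide)]; simp only [ch]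
      show w ^ (0 : ℕ) + w ^ (2 : ℕ) + w ^ (1 : ℕ) = 0
      linear_combination h.eq
  rw [phi, phiInv, Matrix.smul_mul, Matrix.mul_smul, smul_smul]
  ext i j
  rw [Matrix.smul_apply, Matrix.mul_apply]
  simp only [Matrix.of_apply, ← h.ch_add]
  rw [show ∑ k, ch w (i * k + -(k * j)) = ∑ k, ch w ((i - j) * k) from
    Finset.sum_congr rfl fun k _ => by congr 1; ring, hsum, Matrix.one_apply, smul_eq_mul]
  simp only [sub_eq_zero]
  split_ifs
  · have hne : w - w ^ 2 ≠ 0 := fun e => h.sq_ne_one (by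
      have : w * (1 - w) = 0 := by linear_combination e
      rcases mul_eq_zero.1 this with h0 | h0
      · exact absurd h0 h.ne_zero
      · rw [← sub_eq_zero.1 h0, one_pow])
    have e : (w - w ^ 2) * (w - w ^ 2) = -3 := by linear_combination (w ^ 2 - 3 * w + 3) * h.eq
    rw [mul_neg, ← _root_.mul_inv, e, inv_neg, neg_neg, inv_mul_cancel₀ h.three]
  · rw [mul_zero]

section data

variable [Fintype F]

theorem R3_scalar_iff (h : Root w) {g : GL Z F} {k a b : Z} (hg : (g : Matrix Z Z F) = ch w k • w3 w a b) :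
    (∀ y ∈ R3 h, g * y = y * g) ↔ a = 0 ∧ b = 0 := by
  refine ⟨fun hc => ?_, ?_⟩
  · have key : ∀ a' b', ch w (a * b' - a' * b) = 1 := fun a' b' => by
      have e := congrArg Units.val (hc _ (h.phased3.unit_mem 0 a' b'))
      rw [Units.val_mul, Units.val_mul, hg, Phased.coe_unit, ch_zero, one_smul, Matrix.smul_mul, Matrix.mul_smul,
        h.w3_comm, smul_smul] at e
      refine mul_left_cancel₀ (h.ch_ne_zero k) ((smul_left_injective F ?_ e).trans (mul_one _).symm)
      intro e0
      have h1 : IsUnit (w3 w a' b' * w3 w a b) := by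
        rw [h.w3_mul]
        exact ((h.phased3.unit (-(a * b')) (a' + a) (b' + b)).isUnit)
      exact h1.ne_zero e0
    exact ⟨by simpa using h.ch_eq_one (key 0 1), by simpa using h.ch_eq_one (key 1 0)⟩
  · rintro ⟨rfl, rfl⟩ y -
    refine Units.ext ?_
    simp [hg, w3_zero]

/-- An abelian characteristic subgroup is central. -/
theorem R3_char_le_center (h : Root w) {A : Subgroup (R3 h)} (hA : A.Characteristic) (hAc : IsMulCommutative A) :
    A ≤ Subgroup.center (R3 h) := by
  intro x hx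
  obtain ⟨k, a, b, hk⟩ := mem_R3.1 x.2
  rw [Subgroup.mem_center_iff]
  suffices hab : a = 0 ∧ b = 0 from fun y => Subtype.ext ((R3_scalar_iff h hk).2 hab y y.2).symm
  have key : ∀ (T : Matrix Z Z F), IsUnit T → Nm3 w T →
      ∀ (a' b' : Z) (c : F), T * w3 w a b = c • (w3 w a' b' * T) → a * b' - a' * b = 0 := by
    intro T hT hN a' b' c hc
    obtain ⟨g, hg⟩ := hT
    have hgn : g ∈ subgroupNormalizer (R3 h) := (normalizer_iff3 h).2 (hg ▸ hN)
    let φ : R3 h ≃* R3 h :=
      { toFun := fun u => ⟨g * u * g⁻¹, (Subgroup.mem_normalizer_iff.1 hgn _).1 u.2⟩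
        invFun := fun u => ⟨g⁻¹ * u * g, by
          have := (Subgroup.mem_normalizer_iff.1 (inv_mem hgn) _).1 u.2
          rwa [inv_inv] at this⟩
        left_inv := fun u => Subtype.ext (by simp [mul_assoc])
        right_inv := fun u => Subtype.ext (by simp [mul_assoc])
        map_mul' := fun u v => Subtype.ext (by simp [mul_assoc]) }
    have hmem : φ x ∈ A := Subgroup.characteristic_iff_map_eq.1 hA φ ▸ ⟨x, hx, rfl⟩
    have hcomm : x * φ x = φ x * x := congrArg Subtype.val (hAc.is_comm.comm (⟨x, hx⟩ : A) ⟨_, hmem⟩)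
    have e : ((φ x : GL Z F) : Matrix Z Z F) = (ch w k * c) • w3 w a' b' := by
      show ((g * x * g⁻¹ : GL Z F) : Matrix Z Z F) = _
      rw [Units.val_mul, Units.val_mul, hk, Matrix.mul_smul, hg, hc, smul_smul, Matrix.smul_mul, mul_assoc,
        ← hg, Units.mul_inv, Matrix.mul_one]
    have hc0 : c ≠ 0 := fun h0 => by
      rw [h0, zero_smul] at hc
      have h1 : IsUnit (T * w3 w a b) := by
        refine (hg ▸ g.isUnit).mul ?_
        have := (h.phased3.unit 0 a b).isUnit
        rwa [Phased.coe_unit, ch_zero, one_smul] at this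
      exact h1.ne_zero hc
    have e2 := congrArg (fun u : R3 h => ((u : GL Z F) : Matrix Z Z F)) hcomm
    simp only [Subgroup.coe_mul, Units.val_mul, hk, e, Matrix.smul_mul, Matrix.mul_smul, smul_smul, h.w3_comm a b]
      at e2
    have hne : w3 w a' b' * w3 w a b ≠ 0 := by
      rw [h.w3_mul]
      exact (h.phased3.unit (-(a * b')) (a' + a) (b' + b)).ne_zero
    have e3 := smul_left_injective F hne e2
    refine h.ch_eq_one (mul_left_cancel₀ (mul_ne_zero (mul_ne_zero (h.ch_ne_zero k) (h.ch_ne_zero k)) hc0) ?_)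
    linear_combination e3
  have hD : IsUnit (diagonal fun y : Z => ch w (y * y)) := by
    rw [Matrix.isUnit_diagonal]
    exact Pi.isUnit_iff.2 fun y => (Units.mk0 _ (h.ch_ne_zero _)).isUnit
  have h1 : a * b - (a + 2 * b) * b = 0 := by
    refine key _ hD h.nm3_phase (a + 2 * b) b (ch w (-(b * b))) ?_
    ext i j
    rw [diagonal_mul, Matrix.smul_apply, mul_diagonal, w3_apply, w3_apply, smul_eq_mul, mul_ite, mul_zero, ite_mul,
      zero_mul, mul_ite, mul_zero]
    split_ifs with e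
    · subst e
      rw [← h.ch_add, ← h.ch_add, ← h.ch_add]
      congr 1
      ring
    · rfl
  obtain rfl : b = 0 := (show ∀ a b : Z, a * b - (a + 2 * b) * b = 0 → b = 0 by decide) a b h1
  refine ⟨?_, rfl⟩
  obtain ⟨c, a', b', hc⟩ := h.nm3_phi a 0
  have h2 := key _ h.phi_unit h.nm3_phi a' b' c hc
  have h3 : b' = -a := by
    have hh : phi w * w3 w a 0 = ch w 0 • (w3 w 0 (-a) * phi w) := by
      ext i j
      rw [phi, Matrix.smul_mul, Matrix.mul_smul, Matrix.smul_apply, Matrix.smul_apply, Matrix.smul_apply,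
        Matrix.mul_apply, Finset.sum_eq_single j, Matrix.mul_apply, Finset.sum_eq_single (i + a)]
      · simp only [w3_apply, Matrix.of_apply, smul_eq_mul]
        rw [if_pos (add_zero j).symm, if_pos (add_neg_cancel_right i a).symm, ← h.ch_add, ← h.ch_add, ch_zero,
          one_mul]
        congr 2
        ring
      · intro k _ hk
        rw [w3_apply, if_neg (fun e => hk (by rw [e, neg_add_cancel_right])), zero_mul]
      · simp
      · intro k _ hk
        rw [w3_apply, if_neg (by rwa [add_zero]), mul_zero]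
      · simp
    obtain ⟨u, hu⟩ := h.phi_unit
    have e := hc.symm.trans hh
    rw [← hu, ← Matrix.smul_mul, ← Matrix.smul_mul] at e
    have e' := u.isUnit.mul_right_cancel e
    have hc0 : c ≠ 0 := fun h0 => by
      rw [h0, zero_smul, ch_zero, one_smul] at e'
      exact (h.phased3.unit 0 0 (-a)).ne_zero (by rw [Phased.coe_unit, ch_zero, one_smul, ← e'])
    rw [ch_zero, one_smul] at e'
    exact ((h.w3_inj e'.symm).2).symm
  subst h3
  exact (show ∀ a a' : Z, a * -a - a' * 0 = 0 → a = 0 by decide) a a' h2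

theorem R3_actsAbsolutelyIrreducibly (h : Root w) : ActsAbsolutelyIrreducibly (matrixSet (R3 h)) := by
  have hmem : ∀ a b, w3 w a b ∈ matrixSet (R3 h) := fun a b =>
    ⟨h.phased3.unit 0 a b, h.phased3.unit_mem 0 a b,
      show (h.phased3.unit 0 a b : Matrix Z Z F) = _ by rw [Phased.coe_unit, ch_zero, one_smul]⟩
  refine ⟨fun U hU => ?_, fun T hT => ?_⟩
  · by_cases hbot : U = ⊥
    · exact Or.inl hbot
    right
    obtain ⟨v, hv, hv0⟩ := (Submodule.ne_bot_iff U).1 hbot
    obtain ⟨i, hi⟩ := Function.ne_iff.1 hv0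
    have hstab : ∀ a b u, u ∈ U → w3 w a b *ᵥ u ∈ U := fun a b u hu =>
      hU _ (hmem a b) ⟨u, hu, by rw [Matrix.toLin'_apply]⟩
    have he : (Pi.single i (3 * v i) : Z → F) ∈ U := by
      have e : (Pi.single i (3 * v i) : Z → F) = ∑ a : Z, ch w (-(a * i)) • (w3 w a 0 *ᵥ v) := by
        funext j
        rw [Finset.sum_apply]
        simp only [Pi.smul_apply, smul_eq_mul, w3_mulVec, sub_zero, ← mul_assoc, ← h.ch_add]
        rw [← Finset.sum_mul, show ∑ a : Z, ch w (-(a * i) + a * j) = ∑ a : Z, ch w ((j - i) * a) from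
          Finset.sum_congr rfl fun a _ => by congr 1; ring, show ∀ f : Z → F, ∑ k, f k = f 0 + f 1 + f 2 from
          fun f => Fin.sum_univ_three f]
        rcases (show j - i = 0 ∨ j - i = 1 ∨ j - i = 2 by generalize j - i = d; revert d; decide) with e | e | e <;>
          rw [e]
        · obtain rfl := sub_eq_zero.1 e
          simp [ch_zero]; norm_num
        all_goals
          rw [Pi.single_eq_of_ne (fun h' => by rw [h', sub_self] at e; revert e; decide)]
          simp only [ch]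
        · show 0 = (w ^ (0 : ℕ) + w ^ (1 : ℕ) + w ^ (2 : ℕ)) * v j
          linear_combination (-v j) * h.eq
        · show 0 = (w ^ (0 : ℕ) + w ^ (2 : ℕ) + w ^ (1 : ℕ)) * v j
          linear_combination (-v j) * h.eq
      rw [e]
      exact U.sum_mem fun a _ => U.smul_mem _ (hstab a 0 v hv)
    refine eq_top_iff.2 fun u _ => ?_
    rw [pi_eq_sum_univ u]
    refine U.sum_mem fun j _ => U.smul_mem _ ?_
    have e : (fun k => if j = k then (1 : F) else 0) = (3 * v i)⁻¹ • (w3 w 0 (j - i) *ᵥ Pi.single i (3 * v i)) := by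
      funext k
      rw [Pi.smul_apply, w3_mulVec, zero_mul, ch_zero, one_mul, smul_eq_mul]
      by_cases hjk : j = k
      · subst hjk
        rw [if_pos rfl, sub_sub_cancel, Pi.single_eq_same, inv_mul_cancel₀ (mul_ne_zero h.three hi)]
      · rw [if_neg hjk, Pi.single_eq_of_ne (fun e => hjk (by linear_combination -e)), mul_zero]
    rw [e]
    exact U.smul_mem _ (hstab _ _ _ he)
  · refine ⟨T 0 0, ?_⟩
    have e1 : ∀ i j, i ≠ j → T i j = 0 := fun i j hij => by
      have e := congrFun (congrFun (hT _ (hmem 1 0)) i) j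
      rw [w3, mul_assoc (diagonal _), diagonal_mul, ← mul_assoc, mul_pm_apply, mul_diagonal, pm_mul_apply] at e
      simp only [Equiv.coe_addRight, add_zero, one_mul, Equiv.addRight_symm_apply, neg_zero] at e
      by_contra hne
      exact hij (h.ch_inj (mul_left_cancel₀ hne (e.trans (mul_comm _ _)))).symm
    have e2 : ∀ b, T b b = T 0 0 := fun b => by
      have e := congrFun (congrFun (hT _ (hmem 0 b)) b) 0
      rw [w3, mul_assoc (diagonal _), diagonal_mul, ← mul_assoc, mul_pm_apply, mul_diagonal, pm_mul_apply] at e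
      simpa [ch_zero] using e
    ext i j
    by_cases hij : i = j
    · subst hij; simp [e2]
    · simp [e1 i j hij, hij]

theorem R3_data {p : ℕ} (hp : p.Prime) (hF : Fintype.card F = p) (hp3 : p % 3 = 1) (h : Root w) :
    IsLinearSymplecticTypeData 3 (R3 h) := by
  classical
  haveI : Finite (GL Z F) := Finite.of_injective (fun g => (g : Matrix Z Z F)) fun _ _ => Units.ext
  haveI : Fact (Nat.Prime 3) := ⟨Nat.prime_three⟩
  have hcard : Nat.card (R3 h) = 3 ^ (1 + 2 * 1) := by
    let f : Z × Z × Z → R3 h := fun x => ⟨h.phased3.unit x.1 x.2.1 x.2.2, h.phased3.unit_mem _ _ _⟩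
    have hf : Function.Bijective f := by
      refine ⟨fun x y e => ?_, fun g => ?_⟩
      · have e' : ch w x.1 • w3 w x.2.1 x.2.2 = ch w y.1 • w3 w y.2.1 y.2.2 :=
          congrArg (fun u : R3 h => ((u : GL Z F) : Matrix Z Z F)) e
        have e'' : w3 w x.2.1 x.2.2 = ((ch w x.1)⁻¹ * ch w y.1) • w3 w y.2.1 y.2.2 := by
          rw [← smul_smul, ← e', smul_smul, inv_mul_cancel₀ (h.ch_ne_zero _), one_smul]
        obtain ⟨ea, eb⟩ := h.w3_inj e''
        rw [ea, eb] at e'
        have hne : w3 w y.2.1 y.2.2 ≠ 0 := by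
          have := (h.phased3.unit 0 y.2.1 y.2.2).ne_zero
          rwa [Phased.coe_unit, ch_zero, one_smul] at this
        exact Prod.ext (h.ch_inj (smul_left_injective F hne e')) (Prod.ext ea eb)
      · obtain ⟨k, a, b, hk⟩ := mem_R3.1 g.2
        exact ⟨(k, a, b), Subtype.ext (Units.ext hk.symm)⟩
    rw [← Nat.card_eq_of_bijective f hf]
    simp [Z]
  have hcen : Nat.card (Subgroup.center (R3 h)) = 3 := by
    let f : Z → Subgroup.center (R3 h) := fun k =>
      ⟨⟨h.phased3.unit k 0 0, h.phased3.unit_mem _ _ _⟩, Subgroup.mem_center_iff.2 fun y =>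
        Subtype.ext ((R3_scalar_iff h (h.phased3.coe_unit k 0 0)).2 ⟨rfl, rfl⟩ y y.2).symm⟩
    have hf : Function.Bijective f := by
      refine ⟨fun x y e => ?_, fun g => ?_⟩
      · have e' := congrArg (fun u : Subgroup.center (R3 h) => (((u : R3 h) : GL Z F) : Matrix Z Z F)) e
        simp only [f, Phased.coe_unit, w3_zero] at e'
        exact h.ch_inj (smul_left_injective F one_ne_zero e')
      · obtain ⟨k, a, b, hk⟩ := mem_R3.1 (g : R3 h).2
        obtain ⟨rfl, rfl⟩ := (R3_scalar_iff h hk).1 fun y hy =>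
          (congrArg Subtype.val (Subgroup.mem_center_iff.1 g.2 ⟨y, hy⟩)).symm
        exact ⟨k, Subtype.ext (Subtype.ext (Units.ext hk.symm))⟩
    rw [← Nat.card_eq_of_bijective f hf]
    simp [Z]
  have hexp : ∀ g : R3 h, g ^ 3 = 1 := fun g => Subtype.ext (h.phased3.pow_three g.2)
  haveI := SlThree.Extra.charP_prime hp hF
  refine ⟨⟨Nat.prime_three, IsPGroup.of_card hcard, fun A hA hAc => ?_, ?_⟩, R3_actsAbsolutelyIrreducibly h, p, 1,
    ?_, ⟨hp, inferInstance, by rw [hF, pow_one], ?_, fun d hd0 hd1 => by omega⟩,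
    Or.inl ⟨by decide, odd_one, hcen, 1, le_rfl, hcard⟩⟩
  · haveI : IsCyclic (Subgroup.center (R3 h)) := isCyclic_of_prime_card hcen
    exact isCyclic_of_injective (Subgroup.inclusion (R3_char_le_center h hA hAc))
      (Subgroup.inclusion_injective _)
  · show Monoid.exponent (R3 h) = 3
    rcases (Nat.dvd_prime Nat.prime_three).1 (Monoid.exponent_dvd_of_forall_pow_eq_one hexp) with e | e
    · haveI := Monoid.exp_eq_one_iff.1 e
      rw [Nat.card_of_subsingleton (1 : R3 h)] at hcard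
      omega
    · exact e
  · omega
  · rw [hcen, pow_one]; omega

end data

section coord

variable {ι : Type} [Fintype ι] [DecidableEq ι]

local notation "Mι" => Matrix ι ι F

/-- `x y = w ^ k y x` -/
def Cm (w : F) (x y : GL ι F) (k : Z) : Prop := (x : Mι) * (y : Mι) = ch w k • ((y : Mι) * (x : Mι))

namespace Cm

variable {x x' y y' : GL ι F} {j k : Z}

theorem mul_right (h : Root w) (h1 : Cm w x y j) (h2 : Cm w x y' k) : Cm w x (y * y') (j + k) := by
  show (x : Mι) * ((y * y' : GL ι F) : Mι) = _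
  rw [Units.val_mul, ← mul_assoc, h1, Matrix.smul_mul, mul_assoc, h2, Matrix.mul_smul, smul_smul, ← h.ch_add,
    mul_assoc]

theorem mul_left (h : Root w) (h1 : Cm w x y j) (h2 : Cm w x' y k) : Cm w (x * x') y (j + k) := by
  show ((x * x' : GL ι F) : Mι) * (y : Mι) = _
  rw [Units.val_mul, mul_assoc, h2, Matrix.mul_smul, ← mul_assoc, h1, Matrix.smul_mul, smul_smul, ← h.ch_add,
    add_comm k j, mul_assoc]

theorem symm (h : Root w) (h1 : Cm w x y k) : Cm w y x (-k) := by
  show (y : Mι) * (x : Mι) = _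
  rw [h1, smul_smul, ← h.ch_add, neg_add_cancel, ch_zero, one_smul]

theorem zero_iff : Cm w x y 0 ↔ Commute x y := by
  rw [Cm, ch_zero, one_smul, Commute, SemiconjBy, Units.ext_iff, Units.val_mul, Units.val_mul]

theorem pow_right (h : Root w) (h1 : Cm w x y k) : ∀ n : ℕ, Cm w x (y ^ n) ((n : Z) * k)
  | 0 => by
    rw [pow_zero, Nat.cast_zero, zero_mul, zero_iff]
    exact Commute.one_right x
  | n + 1 => by
    rw [pow_succ, show ((n + 1 : ℕ) : Z) * k = (n : Z) * k + k by push_cast; ring]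
    exact (pow_right h h1 n).mul_right h h1

theorem pow_val_right (h : Root w) (h1 : Cm w x y k) (t : Z) : Cm w x (y ^ t.val) (t * k) := by
  have := h1.pow_right h t.val
  rwa [ZMod.natCast_zmod_val] at this

theorem pow_val_left (h : Root w) (h1 : Cm w x y k) (t : Z) : Cm w (x ^ t.val) y (t * k) := by
  have := ((h1.symm h).pow_val_right h t).symm h
  rwa [mul_neg, neg_neg] at this

theorem inv_left (h : Root w) (h1 : Cm w x y k) : Cm w x⁻¹ y (-k) := by
  refine Cm.symm h ?_
  show (y : Mι) * ((x⁻¹ : GL ι F) : Mι) = _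
  calc (y : Mι) * ((x⁻¹ : GL ι F) : Mι)
      = ((x⁻¹ : GL ι F) : Mι) * ((x : Mι) * (y : Mι)) * ((x⁻¹ : GL ι F) : Mι) := by
        rw [← mul_assoc, Units.inv_mul, one_mul]
    _ = ch w k • (((x⁻¹ : GL ι F) : Mι) * (y : Mι)) := by
        rw [h1, Matrix.mul_smul, Matrix.smul_mul, mul_assoc, mul_assoc (y : Mι), Units.mul_inv, mul_one]

theorem mulVec (h1 : Cm w x y k) {v : ι → F} {c : F} (hv : (x : Mι) *ᵥ v = c • v) :
    (x : Mι) *ᵥ ((y : Mι) *ᵥ v) = (ch w k * c) • ((y : Mι) *ᵥ v) := by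
  rw [Matrix.mulVec_mulVec, h1, Matrix.smul_mulVec, ← Matrix.mulVec_mulVec, hv, Matrix.mulVec_smul, smul_smul]

end Cm

theorem Root.pow_val_add (h : Root w) {y : GL ι F} (hy : y ^ 3 = 1) (a b : Z) :
    y ^ (a + b).val = y ^ a.val * y ^ b.val := by
  rw [← pow_add, ZMod.val_add, ← pow_eq_pow_mod (a.val + b.val) hy]

/-- the projection on the eigenspace of `w ^ a` -/
def eproj (w : F) (X : Mι) (a : Z) : Mι := 1 + ch w (-a) • X + ch w (-(2 * a)) • (X * X)

theorem Root.sum_ch (h : Root w) (a : Z) : 1 + ch w a + ch w (2 * a) = if a = 0 then 3 else 0 := by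
  rcases (show a = 0 ∨ a = 1 ∨ a = 2 by revert a; decide) with rfl | rfl | rfl
  · simp [ch_zero]; norm_num
  · rw [if_neg (by decide)]
    show 1 + w ^ (1 : ℕ) + w ^ (2 : ℕ) = 0
    linear_combination h.eq
  · rw [if_neg (by decide)]
    show 1 + w ^ (2 : ℕ) + w ^ (1 : ℕ) = 0
    linear_combination h.eq

theorem Root.eproj_eigen (h : Root w) {X : Mι} {v : ι → F} {b : Z} (hv : X *ᵥ v = ch w b • v) (a : Z) :
    eproj w X a *ᵥ v = (if b = a then (3 : F) else 0) • v := by
  have e := h.sum_ch (b - a)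
  simp only [sub_eq_zero] at e
  rw [eproj, Matrix.add_mulVec, Matrix.add_mulVec, Matrix.one_mulVec, Matrix.smul_mulVec, Matrix.smul_mulVec,
    ← Matrix.mulVec_mulVec, hv, Matrix.mulVec_smul, hv, smul_smul, smul_smul, smul_smul, ← h.ch_add, ← h.ch_add,
    ← h.ch_add, ← e, add_smul, add_smul, one_smul]
  congr 3 <;> ring

theorem Root.eproj_mul (h : Root w) {X : Mι} (hX : X * (X * X) = 1) (a : Z) :
    X * eproj w X a = ch w a • eproj w X a := by
  have e1 : ch w (-(2 * a)) = ch w a * 1 * 1 := by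
    rw [mul_one, mul_one]; congr 1; revert a; decide
  rw [eproj, mul_add, mul_add, mul_one, Matrix.mul_smul, Matrix.mul_smul, hX, smul_add, smul_add, smul_smul,
    smul_smul, ← h.ch_add, ← h.ch_add, add_neg_cancel, ch_zero, one_smul,
    show a + -(2 * a) = -a by ring, e1, mul_one, mul_one]
  abel

theorem Root.exists_proj_ne (h : Root w) (X : Mι) {u : ι → F} (hu : u ≠ 0) :
    ∃ a, eproj w X a *ᵥ u ≠ 0 := by
  by_contra hcon
  push Not at hcon
  have e : (3 : F) • u = eproj w X 0 *ᵥ u + eproj w X 1 *ᵥ u + eproj w X 2 *ᵥ u := by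
    simp only [eproj, ch, Matrix.add_mulVec, Matrix.one_mulVec, Matrix.smul_mulVec,
      show (-(0 : Z)).val = 0 from rfl, show (-(1 : Z)).val = 2 from rfl, show (-(2 : Z)).val = 1 from rfl,
      show (-(2 * 0 : Z)).val = 0 from rfl, show (-(2 * 1 : Z)).val = 1 from rfl,
      show (-(2 * 2 : Z)).val = 2 from rfl]
    linear_combination (norm := module) -(h.eq • (1 : F) • (X *ᵥ u + (X * X) *ᵥ u))
  rw [hcon, hcon, hcon, add_zero, add_zero] at e
  exact hu ((smul_eq_zero.1 e).resolve_left h.three)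

/-- Coordinates, from commutation laws alone. -/
theorem exists_coord_core [Finite F] (h : Root w) (e : ι ≃ I9) {R : Subgroup (GL ι F)}
    (hexp : ∀ g ∈ R, g ^ 3 = 1) (hcom : ∀ x ∈ R, ∀ y ∈ R, ∃ k, Cm w x y k)
    (hcen : ∀ g ∈ R, (∀ y ∈ R, Commute g y) → ∃ k, (g : Mι) = ch w k • 1) (hbig : 27 < Nat.card R) :
    ∃ P : GL ι F, R.map ((MulAut.conj P).trans (glReindex e)).toMonoidHom = R9 h := by
  classical
  haveI : Finite (GL ι F) := Finite.of_injective (fun g => (g : Mι)) fun _ _ => Units.ext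
  haveI : Nonempty ι := ⟨e.symm 0⟩
  have hpair : ∀ x ∈ R, (∀ k, (x : Mι) ≠ ch w k • 1) → ∃ y ∈ R, Cm w x y 1 := by
    intro x hx hns
    by_contra hcon
    push Not at hcon
    obtain ⟨k, hk⟩ := hcen x hx fun y hy => by
      obtain ⟨k, hk⟩ := hcom x hx y hy
      rcases (show ∀ k : Z, k = 0 ∨ k = 1 ∨ k = 2 by decide) k with rfl | rfl | rfl
      · exact Cm.zero_iff.1 hk
      · exact absurd hk (hcon y hy)
      · refine absurd ?_ (hcon (y * y) (R.mul_mem hy hy))
        exact (show (2 : Z) + 2 = 1 by decide) ▸ hk.mul_right h hk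
    exact hns k hk
  -- the first pair
  obtain ⟨x1, hx1, hx1s⟩ : ∃ x ∈ R, ∀ k, (x : Mι) ≠ ch w k • 1 := by
    by_contra hcon
    push Not at hcon
    choose f hf using hcon
    have hinj : Function.Injective (fun g : R => f g g.2) := fun a b hab =>
      Subtype.ext (Units.ext (by rw [hf a a.2, hf b b.2]; exact congrArg (fun k => ch w k • (1 : Mι)) hab))
    have := Nat.card_le_card_of_injective _ hinj
    rw [Nat.card_eq_fintype_card (α := Z), ZMod.card] at this
    omega
  obtain ⟨y1, hy1, h11⟩ := hpair x1 hx1 hx1s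
  -- an element commuting with the first pair
  have hfix : ∀ g ∈ R, ∃ s t : Z, Cm w (g * (x1 ^ s.val * y1 ^ t.val)) x1 0 ∧
      Cm w (g * (x1 ^ s.val * y1 ^ t.val)) y1 0 := by
    intro g hg
    obtain ⟨i, hi⟩ := hcom g hg x1 hx1
    obtain ⟨j, hj⟩ := hcom g hg y1 hy1
    refine ⟨-j, i, ?_, ?_⟩
    · have := hi.mul_left h (((Cm.zero_iff.2 (Commute.refl x1)).pow_val_left h (-j)).mul_left h
        ((h11.symm h).pow_val_left h i))
      rwa [mul_zero, zero_add, mul_neg_one, add_neg_cancel] at this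
    · have := hj.mul_left h ((h11.pow_val_left h (-j)).mul_left h
        ((Cm.zero_iff.2 (Commute.refl y1)).pow_val_left h i))
      rwa [mul_zero, add_zero, mul_one, add_neg_cancel] at this
  obtain ⟨x2, hx2, hx2s, hx21, hx2y1⟩ : ∃ x ∈ R, (∀ k, (x : Mι) ≠ ch w k • 1) ∧ Cm w x x1 0 ∧ Cm w x y1 0 := by
    by_contra hcon
    push Not at hcon
    choose s t hs ht using hfix
    have hk : ∀ g (hg : g ∈ R), ∃ k, ((g * (x1 ^ (s g hg).val * y1 ^ (t g hg).val) : GL ι F) : Mι) = ch w k • 1 := by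
      intro g hg
      by_contra hno
      push Not at hno
      exact hcon _ (R.mul_mem hg (R.mul_mem (R.pow_mem hx1 _) (R.pow_mem hy1 _))) hno (hs g hg) (ht g hg)
    choose k hk using hk
    have hinj : Function.Injective (fun g : R => ((k g g.2, s g g.2, t g g.2) : Z × Z × Z)) := by
      intro a b hab
      simp only [Prod.mk.injEq] at hab
      obtain ⟨e1, e2, e3⟩ := hab
      have ea := hk a a.2
      have eb := hk b b.2
      rw [e1, e2, e3] at ea
      exact Subtype.ext (mul_right_cancel (Units.ext (ea.trans eb.symm)))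
    have := Nat.card_le_card_of_injective _ hinj
    simp only [Nat.card_prod, Nat.card_zmod] at this
    omega
  obtain ⟨y, hy, hy'⟩ := hpair x2 hx2 hx2s
  obtain ⟨s, t, hs, ht⟩ := hfix y hy
  obtain ⟨y2, hy2d⟩ : ∃ y2, y2 = y * (x1 ^ s.val * y1 ^ t.val) := ⟨_, rfl⟩
  rw [← hy2d] at hs ht
  have hy2 : y2 ∈ R := hy2d ▸ R.mul_mem hy (R.mul_mem (R.pow_mem hx1 _) (R.pow_mem hy1 _))
  have h22 : Cm w x2 y2 1 := by
    have := hy'.mul_right h ((hx21.pow_val_right h s).mul_right h (hx2y1.pow_val_right h t))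
    rw [mul_zero, mul_zero, add_zero, add_zero] at this
    exact hy2d ▸ this
  have hXcomm : Commute x1 x2 := (Cm.zero_iff.1 hx21).symm
  have hYcomm : Commute y1 y2 := (Cm.zero_iff.1 ht).symm
  have h12 : Cm w x1 y2 0 := Cm.zero_iff.2 (Cm.zero_iff.1 hs).symm
  obtain ⟨Y, hY⟩ : ∃ Y : I9 → GL ι F, ∀ b, Y b = y1 ^ b.1.val * y2 ^ b.2.val := ⟨_, fun _ => rfl⟩
  obtain ⟨X, hX⟩ : ∃ X : I9 → GL ι F, ∀ a, X a = x1 ^ a.1.val * x2 ^ a.2.val := ⟨_, fun _ => rfl⟩
  have hYR : ∀ b, Y b ∈ R := fun b => hY b ▸ R.mul_mem (R.pow_mem hy1 _) (R.pow_mem hy2 _)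
  have hXR : ∀ a, X a ∈ R := fun a => hX a ▸ R.mul_mem (R.pow_mem hx1 _) (R.pow_mem hx2 _)
  have hY0 : Y 0 = 1 := by simp [hY]
  have hYadd : ∀ a b, Y (a + b) = Y a * Y b := fun a b => by
    rw [hY, hY, hY, Prod.fst_add, Prod.snd_add, h.pow_val_add (hexp _ hy1), h.pow_val_add (hexp _ hy2),
      (hYcomm.pow_pow b.1.val a.2.val).mul_mul_mul_comm]
  have hXY1 : ∀ b, Cm w x1 (Y b) b.1 := fun b => by
    have := (h11.pow_val_right h b.1).mul_right h (h12.pow_val_right h b.2)
    rw [mul_one, mul_zero, add_zero] at this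
    exact (hY b).symm ▸ this
  have hXY2 : ∀ b, Cm w x2 (Y b) b.2 := fun b => by
    have := (hx2y1.pow_val_right h b.1).mul_right h (h22.pow_val_right h b.2)
    rw [mul_one, mul_zero, zero_add] at this
    exact (hY b).symm ▸ this
  -- the common fixed vector
  have hcube : ∀ g ∈ R, (g : Mι) * ((g : Mι) * (g : Mι)) = 1 := fun g hg => by
    simpa [pow_succ, mul_assoc] using congrArg Units.val (hexp g hg)
  obtain ⟨u0, hu0⟩ := exists_ne (0 : ι → F)
  obtain ⟨a, ha⟩ := h.exists_proj_ne (x1 : Mι) hu0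
  obtain ⟨b, hb⟩ := h.exists_proj_ne (x2 : Mι) ha
  obtain ⟨u, hu⟩ : ∃ u, u = eproj w (x2 : Mι) b *ᵥ (eproj w (x1 : Mι) a *ᵥ u0) := ⟨_, rfl⟩
  have hu2 : (x2 : Mι) *ᵥ u = ch w b • u := by
    rw [hu, Matrix.mulVec_mulVec, h.eproj_mul (hcube _ hx2), Matrix.smul_mulVec]
  have hu1 : (x1 : Mι) *ᵥ u = ch w a • u := by
    have hc : (x1 : Mι) * eproj w (x2 : Mι) b = eproj w (x2 : Mι) b * (x1 : Mι) := by
      have hc0 : Commute (x1 : Mι) (x2 : Mι) := (hXcomm.map (Units.coeHom Mι))
      exact ((Commute.one_right _).add_right (hc0.smul_right _)).add_right ((hc0.mul_right hc0).smul_right _)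
    rw [hu, Matrix.mulVec_mulVec, hc, ← Matrix.mulVec_mulVec,
      Matrix.mulVec_mulVec _ (x1 : Mι) (eproj w (x1 : Mι) a), h.eproj_mul (hcube _ hx1), Matrix.smul_mulVec,
      Matrix.mulVec_smul]
  obtain ⟨v, hv⟩ : ∃ v : I9 → ι → F, ∀ x, v x = (Y (x + -(a, b)) : Mι) *ᵥ u := ⟨_, fun _ => rfl⟩
  have hv1 : ∀ x, (x1 : Mι) *ᵥ v x = ch w x.1 • v x := fun x => by
    rw [hv, (hXY1 _).mulVec hu1, ← h.ch_add, show (x + -(a, b)).1 + a = x.1 by simp]
  have hv2 : ∀ x, (x2 : Mι) *ᵥ v x = ch w x.2 • v x := fun x => by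
    rw [hv, (hXY2 _).mulVec hu2, ← h.ch_add, show (x + -(a, b)).2 + b = x.2 by simp]
  have hvY : ∀ c x, (Y c : Mι) *ᵥ v x = v (x + c) := fun c x => by
    rw [hv, hv, Matrix.mulVec_mulVec, ← Units.val_mul, ← hYadd, show c + (x + -(a, b)) = x + c + -(a, b) by abel]
  have hvne : ∀ x, v x ≠ 0 := fun x hx => hb (by
    have := congrArg (((Y (x + -(a, b)))⁻¹ : GL ι F) : Mι).mulVec (hv x)
    rw [hx, Matrix.mulVec_zero, Matrix.mulVec_mulVec, Units.inv_mul, Matrix.one_mulVec] at this
    exact hu ▸ this.symm)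
  have hsel : ∀ (c : I9 → F) (z : I9), eproj w (x1 : Mι) z.1 *ᵥ (eproj w (x2 : Mι) z.2 *ᵥ ∑ x, c x • v x) =
      ((3 : F) * 3 * c z) • v z := by
    intro c z
    rw [Matrix.mulVec_sum, Matrix.mulVec_sum, Finset.sum_eq_single z]
    · rw [Matrix.mulVec_smul, h.eproj_eigen (hv2 z), if_pos rfl, Matrix.mulVec_smul, Matrix.mulVec_smul,
        h.eproj_eigen (hv1 z), if_pos rfl, smul_smul, smul_smul]
      congr 1; ring
    · intro x _ hxz
      rw [Matrix.mulVec_smul, h.eproj_eigen (hv2 x), Matrix.mulVec_smul, Matrix.mulVec_smul, h.eproj_eigen (hv1 x)]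
      by_cases h2 : x.2 = z.2
      · rw [if_neg (fun h1 => hxz (Prod.ext h1 h2)), zero_smul, smul_zero, smul_zero]
      · rw [if_neg h2, zero_smul, smul_zero]
    · simp
  have h33 : (3 : F) * 3 ≠ 0 := mul_ne_zero h.three h.three
  obtain ⟨B, hB⟩ : ∃ B : Mι, ∀ i j, B i j = v (e j) i := ⟨Matrix.of fun i j => v (e j) i, fun _ _ => rfl⟩
  have hBu : IsUnit B := by
    rw [← Matrix.linearIndependent_cols_iff_isUnit]
    refine Fintype.linearIndependent_iff.2 fun c hc j => ?_
    have hc' : ∑ x, c (e.symm x) • v x = 0 := by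
      rw [← hc, ← Equiv.sum_comp e]
      refine Finset.sum_congr rfl fun i _ => ?_
      funext k
      simp [Matrix.col, Matrix.transpose_apply, hB]
    have e1 := hsel (fun x => c (e.symm x)) (e j)
    rw [hc', Matrix.mulVec_zero, Matrix.mulVec_zero, Equiv.symm_apply_apply] at e1
    exact (mul_eq_zero.1 ((smul_eq_zero.1 e1.symm).resolve_right (hvne _))).resolve_left h33
  have hext : ∀ {g : Mι} {c : F}, (∀ x, g *ᵥ v x = c • v x) → g = c • 1 := by
    intro g c hg
    refine hBu.mul_right_cancel ?_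
    ext i j
    rw [Matrix.smul_mul, one_mul, Matrix.smul_apply, hB, Matrix.mul_apply]
    have := congrFun (hg (e j)) i
    simp only [Matrix.mulVec, dotProduct, Pi.smul_apply] at this
    simp only [hB]
    exact this
  -- every element is monomial in these coordinates
  have hform : ∀ g ∈ R, ∃ k a b, ∀ x, (g : Mι) *ᵥ v x = (ch w k * ch w (dot a (x + b))) • v (x + b) := by
    intro g hg
    obtain ⟨i1, hi1⟩ := hcom g hg x1 hx1
    obtain ⟨i2, hi2⟩ := hcom g hg x2 hx2
    obtain ⟨j1, hj1⟩ := hcom g hg y1 hy1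
    obtain ⟨j2, hj2⟩ := hcom g hg y2 hy2
    obtain ⟨E, hE⟩ : ∃ E, E = X (j1, j2) * Y (-i1, -i2) := ⟨_, rfl⟩
    have c1 : Cm w E x1 i1 := by
      have := (((Cm.zero_iff.2 (Commute.refl x1)).pow_val_left h j1).mul_left h (hx21.pow_val_left h j2)).mul_left h
        ((hXY1 (-i1, -i2)).symm h)
      rw [mul_zero, mul_zero, add_zero, zero_add, neg_neg] at this
      rwa [hE, hX]
    have c2 : Cm w E x2 i2 := by
      have := (((Cm.zero_iff.2 hXcomm).pow_val_left h j1).mul_left h
        ((Cm.zero_iff.2 (Commute.refl x2)).pow_val_left h j2)).mul_left h ((hXY2 (-i1, -i2)).symm h)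
      rw [mul_zero, mul_zero, add_zero, zero_add, neg_neg] at this
      rwa [hE, hX]
    have d1 : Cm w E y1 j1 := by
      have := ((h11.pow_val_left h j1).mul_left h (hx2y1.pow_val_left h j2)).mul_left h
        (((Cm.zero_iff.2 (Commute.refl y1)).pow_val_left h (-i1)).mul_left h
          ((Cm.zero_iff.2 hYcomm.symm).pow_val_left h (-i2)))
      rw [mul_one, mul_zero, mul_zero, mul_zero, add_zero, add_zero, add_zero] at this
      rwa [hE, hX, hY]
    have d2 : Cm w E y2 j2 := by
      have := ((h12.pow_val_left h j1).mul_left h (h22.pow_val_left h j2)).mul_left h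
        (((Cm.zero_iff.2 hYcomm).pow_val_left h (-i1)).mul_left h
          ((Cm.zero_iff.2 (Commute.refl y2)).pow_val_left h (-i2)))
      rw [mul_one, mul_zero, mul_zero, mul_zero, zero_add, add_zero, add_zero] at this
      rwa [hE, hX, hY]
    obtain ⟨z, hz⟩ : ∃ z, z = g * E⁻¹ := ⟨_, rfl⟩
    have hzR : z ∈ R := hz ▸ R.mul_mem hg (R.inv_mem (hE ▸ R.mul_mem (hXR _) (hYR _)))
    have hz0 : ∀ {y : GL ι F} {i : Z}, Cm w g y i → Cm w E y i → Commute z y := fun h1 h2 => by
      have := h1.mul_left h (h2.inv_left h)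
      rw [add_neg_cancel] at this
      exact hz ▸ Cm.zero_iff.1 this
    have hzx1 := hz0 hi1 c1
    have hzx2 := hz0 hi2 c2
    have hzY : ∀ b, Commute z (Y b) := fun b => hY b ▸
      ((hz0 hj1 d1).pow_right _).mul_right ((hz0 hj2 d2).pow_right _)
    -- `z v 0` is a multiple of `v 0`
    obtain ⟨c, hc⟩ : ∃ c : F, (z : Mι) *ᵥ v 0 = c • v 0 := by
      obtain ⟨Bi, hBi⟩ := hBu
      obtain ⟨d, hd⟩ : ∃ d : I9 → F, ∀ x, d x = ((((Bi⁻¹ : GL ι F) : Mι)) *ᵥ ((z : Mι) *ᵥ v 0)) (e.symm x) :=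
        ⟨_, fun _ => rfl⟩
      have hsum : (z : Mι) *ᵥ v 0 = ∑ x, d x • v x := by
        have e1 : (z : Mι) *ᵥ v 0 = B *ᵥ (((Bi⁻¹ : GL ι F) : Mι) *ᵥ ((z : Mι) *ᵥ v 0)) := by
          rw [← hBi, Matrix.mulVec_mulVec, Units.mul_inv, Matrix.one_mulVec]
        rw [← Equiv.sum_comp e, e1]
        funext i
        rw [Finset.sum_apply, Matrix.mulVec, dotProduct]
        refine Finset.sum_congr rfl fun j _ => ?_
        rw [Pi.smul_apply, hd, Equiv.symm_apply_apply, hB, smul_eq_mul, mul_comm]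
      refine ⟨d 0, ?_⟩
      have e2 := hsel d 0
      rw [← hsum] at e2
      have hz1 : (x1 : Mι) *ᵥ ((z : Mι) *ᵥ v 0) = ch w 0 • ((z : Mι) *ᵥ v 0) := by
        rw [(Cm.zero_iff.2 hzx1.symm).mulVec (hv1 0), ch_zero, one_mul, Prod.fst_zero, ch_zero]
      have hz2 : (x2 : Mι) *ᵥ ((z : Mι) *ᵥ v 0) = ch w 0 • ((z : Mι) *ᵥ v 0) := by
        rw [(Cm.zero_iff.2 hzx2.symm).mulVec (hv2 0), ch_zero, one_mul, Prod.snd_zero, ch_zero]
      simp only [Prod.fst_zero, Prod.snd_zero] at e2
      rw [h.eproj_eigen hz2, if_pos rfl, Matrix.mulVec_smul, h.eproj_eigen hz1, if_pos rfl, smul_smul,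
        mul_smul ((3 : F) * 3) (d 0)] at e2
      exact smul_right_injective _ h33 e2
    have hzc : (z : Mι) = c • 1 := hext fun x => by
      rw [← zero_add x, ← hvY, Matrix.mulVec_mulVec,
        show (z : Mι) * (Y x : Mι) = (Y x : Mι) * (z : Mι) from congrArg Units.val (hzY x).eq,
        ← Matrix.mulVec_mulVec, hc, Matrix.mulVec_smul]
    obtain ⟨k, rfl⟩ := h.eq_ch (c := c) (by
      have h3 := hcube z hzR
      rw [hzc, Matrix.smul_mul, one_mul, Matrix.smul_mul, one_mul, smul_smul, smul_smul] at h3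
      have := smul_left_injective F (one_ne_zero (α := Mι)) (h3.trans (one_smul F _).symm)
      linear_combination this)
    refine ⟨k, (j1, j2), (-i1, -i2), fun x => ?_⟩
    have hXv : ∀ y, (X (j1, j2) : Mι) *ᵥ v y = ch w (dot (j1, j2) y) • v y := by
      intro y
      have hpow : ∀ (g : GL ι F) (c : F), (g : Mι) *ᵥ v y = c • v y → ∀ n : ℕ,
          ((g ^ n : GL ι F) : Mι) *ᵥ v y = c ^ n • v y := by
        intro g c hgc n
        induction n with
        | zero => simp
        | succ n ih => rw [pow_succ, Units.val_mul, ← Matrix.mulVec_mulVec, hgc, Matrix.mulVec_smul, ih, smul_smul,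
            ← pow_succ']
      rw [hX, Units.val_mul, ← Matrix.mulVec_mulVec, hpow x2 _ (hv2 y), Matrix.mulVec_smul, hpow x1 _ (hv1 y),
        smul_smul]
      congr 1
      rw [ch, ch, ← pow_mul, ← pow_mul, ← pow_add, ch, dot, ZMod.val_add, ZMod.val_mul, ZMod.val_mul, Nat.add_mod_mod,
        Nat.mod_add_mod, ← pow_eq_pow_mod _ h.cube]
      ring
    rw [show g = z * E by rw [hz, inv_mul_cancel_right], Units.val_mul, hzc, Matrix.smul_mul, one_mul, hE,
      Units.val_mul, Matrix.smul_mulVec, ← Matrix.mulVec_mulVec, hvY, hXv, smul_smul]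
  -- the change of basis
  obtain ⟨Bi, hBi⟩ := hBu
  refine ⟨Bi⁻¹, le_antisymm ?_ fun m hm => ?_⟩
  all_goals
    have hmat : ∀ (g : GL ι F) (k : Z) (a b : I9),
        (∀ x, (g : Mι) *ᵥ v x = (ch w k * ch w (dot a (x + b))) • v (x + b)) →
        ((((MulAut.conj Bi⁻¹).trans (glReindex e)) g : GL I9 F) : Matrix I9 I9 F) = ch w k • w9 w a b := by
      intro g k a b hg
      have hmul : (g : Mι) * B = B * (ch w k • w9 w a b).submatrix e e := by
        ext i j
        have := congrFun (hg (e j)) i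
        simp only [Matrix.mulVec, dotProduct, Pi.smul_apply, smul_eq_mul] at this
        rw [Matrix.mul_apply, Matrix.mul_apply]
        simp only [hB]
        rw [this, Finset.sum_eq_single (e.symm (e j + b))]
        · simp only [Matrix.submatrix_apply, Matrix.smul_apply, w9_apply, Equiv.apply_symm_apply, if_true,
            smul_eq_mul]
          ring
        · intro q _ hq
          rw [Matrix.submatrix_apply, Matrix.smul_apply, w9_apply,
            if_neg (fun e' => hq (by rw [← e', Equiv.symm_apply_apply])), smul_zero, mul_zero]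
        · simp
      show Matrix.reindex e e (((Bi⁻¹ * g * Bi⁻¹⁻¹ : GL ι F)) : Mι) = _
      rw [inv_inv, Units.val_mul, Units.val_mul, hBi, mul_assoc, hmul, ← hBi, ← mul_assoc, Units.inv_mul, one_mul,
        Matrix.reindex_apply]
      ext i j
      simp
  · rintro _ ⟨g, hg, rfl⟩
    obtain ⟨k, a, b, hkab⟩ := hform g hg
    exact mem_R9.2 ⟨k, a, b, hmat g k a b hkab⟩
  · obtain ⟨k, a, b, hm⟩ := mem_R9.1 hm
    have hsc : ∃ s ∈ R, (s : Mι) = ch w k • 1 := by
      refine ⟨(x1 * y1 * (y1 * x1)⁻¹) ^ k.val, R.pow_mem (R.mul_mem (R.mul_mem hx1 hy1)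
        (R.inv_mem (R.mul_mem hy1 hx1))) _, ?_⟩
      have h1 : ((x1 * y1 * (y1 * x1)⁻¹ : GL ι F) : Mι) = w • 1 := by
        rw [Units.val_mul, Units.val_mul, h11, Matrix.smul_mul, ← Units.val_mul, Units.mul_inv,
          show ch w 1 = w from pow_one w]
      rw [Units.val_pow_eq_pow_val, h1, smul_pow, one_pow]
      rfl
    obtain ⟨s, hs, hsm⟩ := hsc
    refine ⟨s * (X a * Y b), R.mul_mem hs (R.mul_mem (hXR a) (hYR b)), Units.ext ?_⟩
    rw [hm]
    refine hmat _ k a b fun x => ?_
    have hpow : ∀ (g : GL ι F) (c : F), (g : Mι) *ᵥ v (x + b) = c • v (x + b) → ∀ n : ℕ,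
        ((g ^ n : GL ι F) : Mι) *ᵥ v (x + b) = c ^ n • v (x + b) := by
      intro g c hgc n
      induction n with
      | zero => simp
      | succ n ih => rw [pow_succ, Units.val_mul, ← Matrix.mulVec_mulVec, hgc, Matrix.mulVec_smul, ih, smul_smul,
          ← pow_succ']
    rw [Units.val_mul, Units.val_mul, hsm, Matrix.smul_mul, one_mul, Matrix.smul_mulVec, ← Matrix.mulVec_mulVec,
      hvY, hX, Units.val_mul, ← Matrix.mulVec_mulVec, hpow x2 _ (hv2 _), Matrix.mulVec_smul, hpow x1 _ (hv1 _),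
      smul_smul, smul_smul]
    congr 1
    rw [ch, ch, ch, ← pow_mul, ← pow_mul, ← pow_add, ← pow_add, ch, ← pow_add, dot, ZMod.val_add, ZMod.val_mul,
      ZMod.val_mul, Nat.add_mod_mod, Nat.mod_add_mod, pow_add _ k.val,
      ← pow_eq_pow_mod _ h.cube]
    ring

end coord

section symp

variable [Fintype F]

/-- Coordinates for every group of symplectic type of exponent three in dimension nine. -/
theorem exists_coord_of_sympType {R : Subgroup (GL (Fin 9) F)} (h3 : (3 : F) ≠ 0)
    (hs : IsSymplecticTypeGroup 3 R) (hirr : ActsAbsolutelyIrreducibly (matrixSet R))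
    (hz : Nat.card (Subgroup.center R) = 3) :
    ∃ (w : F) (h : Root w) (P : GL (Fin 9) F) (e : Fin 9 ≃ I9),
      R.map ((MulAut.conj P).trans (glReindex e)).toMonoidHom = R9 h := by
  classical
  haveI : Fact (Nat.Prime 3) := ⟨Nat.prime_three⟩
  have hexp' : ∀ g : R, g ^ 3 = 1 := fun g => by
    have := Monoid.pow_exponent_eq_one g
    rwa [hs.exponent_eq, show 3 * Nat.gcd 2 3 = 3 from rfl] at this
  have hexp : ∀ g ∈ R, g ^ 3 = 1 := fun g hg => congrArg Subtype.val (hexp' ⟨g, hg⟩)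
  have hsc : ∀ z : R, z ∈ Subgroup.center R →
      ∃ c : F, ((z : GL (Fin 9) F) : Matrix (Fin 9) (Fin 9) F) = c • 1 ∧ c ^ 3 = 1 := by
    intro z hzc
    obtain ⟨c, hc⟩ := hirr.2 ((z : GL (Fin 9) F) : Matrix (Fin 9) (Fin 9) F) (by
      rintro _ ⟨y, hy, rfl⟩
      exact congrArg (fun u : R => ((u : GL (Fin 9) F) : Matrix (Fin 9) (Fin 9) F))
        (Subgroup.mem_center_iff.1 hzc ⟨y, hy⟩).symm)
    refine ⟨c, hc, ?_⟩
    have h1 := congrArg Units.val (hexp z z.2)
    rw [Units.val_pow_eq_pow_val, hc, smul_pow, one_pow, Units.val_one] at h1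
    exact smul_left_injective F one_ne_zero (h1.trans (one_smul F _).symm)
  haveI : Nontrivial (Subgroup.center R) := Finite.one_lt_card_iff_nontrivial.1 (by omega)
  obtain ⟨z0, hz0⟩ := exists_ne (1 : Subgroup.center R)
  obtain ⟨w, hw, hw3⟩ := hsc z0 z0.2
  have hw1 : w ≠ 1 := fun e => hz0 (by
    apply Subtype.ext; apply Subtype.ext; apply Units.ext
    simp [hw, e])
  have h : Root w := ⟨(mul_eq_zero.1 (show (w - 1) * (w ^ 2 + w + 1) = 0 by linear_combination hw3)).resolve_left
    (sub_ne_zero.2 hw1), h3⟩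
  have hscal : ∀ g ∈ R, (∀ y ∈ R, Commute g y) → ∃ k, (g : Matrix (Fin 9) (Fin 9) F) = ch w k • 1 := by
    intro g hg hc
    obtain ⟨c, hc', hc3⟩ := hsc ⟨g, hg⟩ (Subgroup.mem_center_iff.2 fun y => Subtype.ext (hc y y.2).symm)
    obtain ⟨k, rfl⟩ := h.eq_ch hc3
    exact ⟨k, hc'⟩
  -- class two
  have hclass : commutator R ≤ Subgroup.center R := by
    haveI : Group.IsNilpotent R := hs.pGroup.isNilpotent
    refine CfsgLib.ClassK.commutator_le_center_of_inf fun c hc => ?_
    set Y := commutator R ⊓ Subgroup.upperCentralSeries R 2 with hY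
    haveI : IsMulCommutative Y := ⟨⟨fun a b => Subtype.ext (Subgroup.mem_centralizer_iff.1
      (CfsgLib.ClassK.commutator_le_centralizer_upperCentralSeries_two (Subgroup.mem_inf.1 b.2).1) a
      (Subgroup.mem_inf.1 a.2).2)⟩⟩
    haveI : IsCyclic Y := hs.cyclic_of_characteristic Y inferInstance inferInstance
    obtain ⟨⟨d, hd⟩, hgen⟩ := IsCyclic.exists_generator (α := Y)
    rw [Subgroup.mem_center_iff]
    intro s
    obtain ⟨i, hi⟩ := Subgroup.mem_zpowers_iff.1 (hgen ⟨c, hc⟩)
    have hci : d ^ i = c := congrArg Subtype.val hi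
    suffices hsd : Commute s d from hci ▸ (hsd.zpow_right i).eq
    obtain ⟨j, hj⟩ := Subgroup.mem_zpowers_iff.1 (hgen ⟨_, Subgroup.Normal.conj_mem inferInstance d hd s⟩)
    have hj' : d ^ (j % 3) = s * d * s⁻¹ := by
      rw [← show d ^ j = s * d * s⁻¹ from congrArg Subtype.val hj]
      conv_rhs => rw [show j = j % 3 + 3 * (j / 3) by omega]
      rw [_root_.zpow_add, _root_.zpow_mul, show d ^ (3 : ℤ) = 1 from (_root_.zpow_natCast d 3).trans (hexp' d), _root_.one_zpow, mul_one]
    rcases (by omega : j % 3 = 0 ∨ j % 3 = 1 ∨ j % 3 = 2) with e | e | e <;> rw [e] at hj'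
    · rw [zpow_zero, eq_comm, conj_eq_one_iff] at hj'
      rw [hj']; exact Commute.one_right s
    · rw [zpow_one] at hj'
      exact (eq_mul_inv_iff_mul_eq.1 hj').symm
    · rw [zpow_ofNat] at hj'
      have e8 : s * (s * (s * d * s⁻¹) * s⁻¹) * s⁻¹ = (s * s * s) * d * (s * s * s)⁻¹ := by group
      rw [show s * s * s = 1 by rw [← hexp' s, pow_succ, pow_two], one_mul, inv_one, mul_one] at e8
      simp only [← hj', ← conj_pow, ← pow_mul] at e8
      have e8' : d ^ 8 = d := e8
      have hd2 : d ^ 2 = d := by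
        conv_rhs => rw [← e8']
        rw [show (8 : ℕ) = 3 * 2 + 2 from rfl, pow_add, pow_mul, hexp', one_pow, one_mul]
      have hd1 : d = 1 := mul_left_cancel (a := d) (by rw [← pow_two, hd2, mul_one])
      rw [hd1]; exact Commute.one_right s
  have hcom : ∀ x ∈ R, ∀ y ∈ R, ∃ k, Cm w x y k := by
    intro x hx y hy
    obtain ⟨c, hc, hc3⟩ := hsc _ (hclass (Subgroup.commutator_mem_commutator (Subgroup.mem_top (⟨x, hx⟩ : R))
      (Subgroup.mem_top (⟨y, hy⟩ : R))))
    obtain ⟨k, rfl⟩ := h.eq_ch hc3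
    refine ⟨k, ?_⟩
    have e : x * y = ((⁅(⟨x, hx⟩ : R), ⟨y, hy⟩⁆ : R) : GL (Fin 9) F) * (y * x) := by
      rw [commutatorElement_def]
      show _ = x * y * x⁻¹ * y⁻¹ * (y * x)
      group
    have e' := congrArg Units.val e
    rw [Units.val_mul, Units.val_mul, Units.val_mul, hc, Matrix.smul_mul, one_mul] at e'
    exact e'
  have hbig : 27 < Nat.card R := by
    have halg : CfsgLib.Aschbacher.alg R = ⊤ := CfsgLib.Aschbacher.alg_top_of_absIrred hirr
    haveI : Fintype (R ⧸ Subgroup.center R) := Fintype.ofFinite _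
    have hdim := finrank_range_le_card (R := F)
      (fun Q : R ⧸ Subgroup.center R => (((Q.out : R) : GL (Fin 9) F) : Matrix (Fin 9) (Fin 9) F))
    rw [Set.finrank, top_le_iff.1 (CfsgLib.Aschbacher.span_reps halg), finrank_top, Module.finrank_matrix,
      Module.finrank_self, Fintype.card_fin, ← Nat.card_eq_fintype_card] at hdim
    rw [Subgroup.card_eq_card_quotient_mul_card_subgroup (Subgroup.center R), hz]
    omega
  obtain ⟨e⟩ : Nonempty (Fin 9 ≃ I9) := ⟨Fintype.equivOfCardEq (by simp [I9, Z])⟩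
  obtain ⟨P, hP⟩ := exists_coord_core h e hexp hcom hscal hbig
  exact ⟨w, h, P, e, hP⟩

/-- Coordinates for the class-six datum over a prime field. -/
theorem exists_coord {p : ℕ} (hp : p.Prime) (hF : Fintype.card F = p) (hp3 : p % 3 = 1)
    {R : Subgroup (GL (Fin 9) F)} (hR : IsLinearSymplecticTypeData 3 R) :
    ∃ (w : F) (h : Root w) (P : GL (Fin 9) F) (e : Fin 9 ≃ I9),
      R.map ((MulAut.conj P).trans (glReindex e)).toMonoidHom = R9 h := by
  obtain ⟨h2, h3⟩ := SlThree.Extra.small_ne_zero hp hF hp3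
  obtain ⟨hs, hirr, p', e', -, -, hcase⟩ := hR
  refine exists_coord_of_sympType h3 hs hirr ?_
  rcases hcase with ⟨-, -, hz, -⟩ | ⟨h', -⟩ | ⟨h', -⟩
  · exact hz
  · omega
  · omega

end symp

end CfsgLib.MaxSub.SlNine
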