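import Cfsg.Agent.Lib.MaxSub.SlNine.Final
import Cfsg.Agent.Lib.MaxSub.SlNine.CentZ
import Cfsg.Agent.Lib.MaxSub.SlNine.Pure
import Cfsg.Agent.Lib.MaxSub.SlNine.Std
import Cfsg.Agent.Lib.MaxSub.Rational
import Cfsg.Agent.Lib.MaxSub.Transvection
import Cfsg.Agent.Lib.MaxSub.TPowSL.Main

/-!
The normaliser of a group of symplectic type of order `3 ^ 5` is maximal in the special linear group of degree
nine over a prime field with cube roots of unity, given the setting in coordinates.
-/

set_option autoImplicit false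
set_option linter.unusedSectionVars false

namespace CfsgLib.MaxSub.SlNine

open Matrix
open scoped MatrixGroups
open Cfsg.Geo

variable {F : Type*} [Field F] [Fintype F] {w : F}

/-- an overgroup in the setting consists of normalising elements -/
theorem Setup.all_nm {M : Subgroup (GL I9 F)} {G S : Subgroup (GL Z F)} (hS : Setup w M G S) (h2 : (2 : F) ≠ 0)
    (hsl : M ≤ specialLinear I9 F) {g : GL I9 F} (hg : g ∈ M) : Nm w (g : Matrix I9 I9 F) := by
  have hp : NoPure w M := fun a b hne c => hS.no_pure h2 (fun A hA x => hS.nm3_block hA x) hne c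
  refine hS.le_normalizer hp (fun X hX e => hS.cent_zed hp h2 hX e) ?_ ?_ hg
  · rintro ⟨x, hx, hxe⟩
    have := congrArg Units.val (show Matrix.GeneralLinearGroup.det x = 1 from hsl hx)
    rw [Matrix.GeneralLinearGroup.val_det_apply, hxe, det_neg, det_one, mul_one,
      show Fintype.card I9 = 9 by simp [I9, Z], Units.val_one] at this
    linear_combination -this
  · intro x e
    have e2 : Matrix.trace (tau F) = Matrix.trace (zed F) := by
      rw [show zed F = (x : Matrix I9 I9 F) * tau F * (x⁻¹ : GL I9 F).val by rw [e, mul_assoc, Units.mul_inv, mul_one],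
        Matrix.trace_mul_cycle, Units.inv_mul, one_mul]
    simp only [Matrix.trace, Matrix.diag, Fintype.sum_prod_type, Pure.sumZ, tau, zed, Matrix.neg_apply, pm_apply,
      negFst_apply, Equiv.neg_apply] at e2
    simp +decide at e2
    exact mul_ne_zero h2 h2 (by linear_combination e2)

/-- a diagonal element of the special linear group that does not normalise -/
theorem exists_not_nm (h : Root w) (h2 : (2 : F) ≠ 0) :
    ∃ g ∈ specialLinear I9 F, ¬ Nm w (g : Matrix I9 I9 F) := by
  obtain ⟨d, hd⟩ : ∃ d : I9 → F, d = fun i => (if i = (0, 0) then -1 else 1) * (if i = (0, 1) then -1 else 1) :=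
    ⟨_, rfl⟩
  have hdd : diagonal d * diagonal d = 1 := by
    rw [diagonal_mul_diagonal, ← diagonal_one]
    congr 1; funext i
    rw [hd]
    beta_reduce
    split_ifs <;> ring
  refine ⟨⟨diagonal d, diagonal d, hdd, hdd⟩, ?_, fun hn => ?_⟩
  · refine Units.ext ?_
    rw [Matrix.GeneralLinearGroup.val_det_apply, det_diagonal, hd, Finset.prod_mul_distrib,
      Finset.prod_ite_eq', Finset.prod_ite_eq', if_pos (Finset.mem_univ _), if_pos (Finset.mem_univ _)]
    simp
  · obtain ⟨c, a, b, hc⟩ := hn (0, 0) (1, 0)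
    have ev : ∀ i : I9, (if b = (1, 0) then c * ch w (dot a i) * d (i - (1, 0)) else 0) = d i := fun i => by
      have := congrFun (congrFun hc i) (i - (1, 0))
      rw [diagonal_mul, Matrix.smul_apply, mul_diagonal, w9_apply, if_pos (sub_add_cancel i _).symm, w9_apply] at this
      simp only [dot, zero_mul, add_zero, ch_zero, mul_one, smul_eq_mul] at this
      rw [this]
      by_cases hb : b = (1, 0)
      · rw [if_pos hb, if_pos (by rw [hb, sub_add_cancel]), mul_assoc]; rfl
      · rw [if_neg hb, if_neg (fun e => hb (by linear_combination -e)), zero_mul, mul_zero]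
    have e1 := ev (2, 0)
    have e2 := ev (2, 1)
    have e3 := ev (1, 2)
    have e4 := ev (1, 0)
    by_cases hb : b = (1, 0)
    · simp only [if_pos hb, hd] at e1 e2 e3 e4
      simp +decide [dot] at e1 e2 e3 e4
      have hc0 : c ≠ 0 := fun e => by rw [e, zero_mul] at e1; exact zero_ne_one e1
      have k1 : a.2 = 0 := by
        have := h.ch_inj (mul_left_cancel₀ hc0 (e1.trans e2.symm))
        linear_combination -this
      have k2 : a.1 = 0 := by
        have := h.ch_inj (mul_left_cancel₀ hc0 (e1.trans e3.symm))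
        rw [k1] at this
        linear_combination this
      simp [k1, k2, ch_zero] at e1 e4
      rw [e1] at e4
      exact h2 (by linear_combination -e4)
    · rw [if_neg hb, hd] at e1
      simp +decide at e1

/-- maximality in coordinates -/
theorem maximal_coord (h : Root w) (h2 : (2 : F) ≠ 0)
    (hset : ∀ M : Subgroup (GL I9 F), (∀ g : GL I9 F, g ∈ specialLinear I9 F → Nm w (g : Matrix I9 I9 F) → g ∈ M) →
      M ≤ specialLinear I9 F → ¬ specialLinear I9 F ≤ M → Setup w M ⊤ (specialLinear Z F)) :
    IsMaximalIn (specialLinear I9 F) (subgroupNormalizer (R9 h) ⊓ specialLinear I9 F) := by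
  refine ⟨lt_of_le_of_ne inf_le_right fun e => ?_, fun M h1 h2' => ?_⟩
  · obtain ⟨g, hg, hgn⟩ := exists_not_nm h h2
    exact hgn ((normalizer_iff9 h).1 (e.ge hg).1)
  · by_cases hM : specialLinear I9 F ≤ M
    · exact Or.inr (le_antisymm h2' hM)
    · have hS := hset M (fun g hg hn => h1 ⟨(normalizer_iff9 h).2 hn, hg⟩) h2' hM
      exact Or.inl (le_antisymm (fun g hg => ⟨(normalizer_iff9 h).2 (hS.all_nm h2 h2' hg), h2' hg⟩) h1)

/-- clause six of the list in degree nine, given the setting -/
theorem symp_maximal_of_setup {p : ℕ} (hp : p.Prime) (hF : Fintype.card F = p) (hp3 : p % 3 = 1)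
    {R : Subgroup (GL (Fin 9) F)} (hR : IsLinearSymplecticTypeData 3 R)
    (hset : ∀ (w : F), Root w → ∀ M : Subgroup (GL I9 F),
      (∀ g : GL I9 F, g ∈ specialLinear I9 F → Nm w (g : Matrix I9 I9 F) → g ∈ M) →
      M ≤ specialLinear I9 F → ¬ specialLinear I9 F ≤ M → Setup w M ⊤ (specialLinear Z F)) :
    IsMaximalIn (specialLinear (Fin 9) F) (subgroupNormalizer R ⊓ specialLinear (Fin 9) F) := by
  obtain ⟨w, h, P, e, hP⟩ := exists_coord hp hF hp3 hR
  obtain ⟨h2, -⟩ := SlThree.Extra.small_ne_zero hp hF hp3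
  obtain ⟨E, hE⟩ : ∃ E : GL (Fin 9) F ≃* GL I9 F, E = (MulAut.conj P).trans (glReindex e) := ⟨_, rfl⟩
  rw [← hE] at hP
  have hsl : (specialLinear (Fin 9) F).map E.toMonoidHom = specialLinear I9 F := by
    have hn : (specialLinear (Fin 9) F).Normal := MonoidHom.normal_ker _
    have hc : (specialLinear (Fin 9) F).map (MulAut.conj P).toMonoidHom = specialLinear (Fin 9) F :=
      le_antisymm (Subgroup.map_le_iff_le_comap.2 fun x hx => hn.conj_mem x hx P) fun x hx =>
        ⟨P⁻¹ * x * P, by simpa using hn.conj_mem x hx P⁻¹, by simp [mul_assoc]⟩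
    have e1 : (specialLinear (Fin 9) F).map E.toMonoidHom =
        ((specialLinear (Fin 9) F).map (MulAut.conj P).toMonoidHom).map (glReindex e).toMonoidHom := by
      rw [Subgroup.map_map, hE]; rfl
    rw [e1, hc, CfsgLib.MaxSub.TPowSL.map_specialLinear_glReindex]
  have hnm : (subgroupNormalizer R).map E.toMonoidHom = subgroupNormalizer (R9 h) := by
    rw [subgroupNormalizer, subgroupNormalizer, Subgroup.map_equiv_normalizer_eq, hP]
  have hmap : ∀ K : Subgroup (GL (Fin 9) F), (K.map E.toMonoidHom).map E.symm.toMonoidHom = K := fun K => by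
    rw [Subgroup.map_map, show E.symm.toMonoidHom.comp E.toMonoidHom = MonoidHom.id _ from
      MonoidHom.ext fun x => E.symm_apply_apply x, Subgroup.map_id]
  have := CfsgLib.MaxSub.isMaximalIn_map E.symm (maximal_coord h h2 (hset w h))
  rwa [← hnm, ← hsl, ← Subgroup.map_inf _ _ E.toMonoidHom E.injective, hmap, hmap] at this

end CfsgLib.MaxSub.SlNine
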