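import Mathlib

/-!
Coordinates for the symplectic type group of order `3 ^ 5` in dimension nine: the index set is the affine
plane over `ZMod 3`, the group is made of phases and translations.
-/

set_option autoImplicit false
set_option linter.unusedSectionVars false

namespace CfsgLib.MaxSub.SlNine

open Matrix

/-- the three points of a line -/
abbrev Z := ZMod 3
/-- the nine points of the plane -/
abbrev I9 := Z × Z

variable {F : Type*} [Field F]

/-- a primitive cube root of unity in a field of characteristic other than three -/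
structure Root (w : F) : Prop where
  eq : w ^ 2 + w + 1 = 0
  three : (3 : F) ≠ 0

/-- the character `a ↦ w ^ a` -/
def ch (w : F) (a : Z) : F := w ^ a.val

namespace Root

variable {w : F} (h : Root w)
include h

theorem cube : w ^ 3 = 1 := by linear_combination (w - 1) * h.eq

theorem ne_zero : w ≠ 0 := fun e => by have := h.eq; simp [e] at this

theorem ne_one : w ≠ 1 := fun e => h.three (by have := h.eq; rw [e] at this; linear_combination this)

theorem sq_ne_one : w ^ 2 ≠ 1 := fun e => h.ne_one (by linear_combination (-1 : F) * w * e + h.cube)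

theorem ch_add (a b : Z) : ch w (a + b) = ch w a * ch w b := by
  rw [ch, ch, ch, ← pow_add, ZMod.val_add, ← pow_eq_pow_mod (a.val + b.val) h.cube]

theorem ch_ne_zero (a : Z) : ch w a ≠ 0 := pow_ne_zero _ h.ne_zero

theorem ch_eq_one {a : Z} (e : ch w a = 1) : a = 0 := by
  fin_cases a
  · rfl
  · exact absurd (show w ^ (1 : ℕ) = 1 from e) (by rw [pow_one]; exact h.ne_one)
  · exact absurd (show w ^ (2 : ℕ) = 1 from e) h.sq_ne_one

theorem ch_inj {a b : Z} (e : ch w a = ch w b) : a = b := by
  have : ch w (a - b) * ch w b = 1 * ch w b := by rw [← h.ch_add, sub_add_cancel, e, one_mul]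
  exact sub_eq_zero.1 (h.ch_eq_one (mul_right_cancel₀ (h.ch_ne_zero b) this))

theorem ch_cube (a : Z) : ch w a ^ 3 = 1 := by
  rw [ch, ← pow_mul, mul_comm, pow_mul, h.cube, one_pow]

theorem eq_ch {c : F} (e : c ^ 3 = 1) : ∃ a : Z, c = ch w a := by
  have : (c - 1) * ((c - w) * (c - w ^ 2)) = 0 := by
    linear_combination e + (-c ^ 2 + (w + 1) * c - c * w - w + 1) * 0 + (c - c ^ 2) * h.eq +
      (c - 1) * h.cube
  rcases mul_eq_zero.1 this with h0 | h0
  · exact ⟨0, by rw [sub_eq_zero.1 h0]; simp [ch]⟩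
  rcases mul_eq_zero.1 h0 with h0 | h0
  · exact ⟨1, by rw [sub_eq_zero.1 h0]; exact (pow_one w).symm⟩
  · exact ⟨2, by rw [sub_eq_zero.1 h0]; rfl⟩

end Root

theorem ch_zero (w : F) : ch w 0 = 1 := by simp [ch]

variable {α : Type*} [Fintype α] [DecidableEq α]

/-- permutation matrices -/
def pm (σ : Equiv.Perm α) : Matrix α α F := Matrix.of fun i j => if i = σ j then 1 else 0

theorem pm_apply (σ : Equiv.Perm α) (i j : α) : (pm σ : Matrix α α F) i j = if i = σ j then 1 else 0 := rfl

theorem pm_one : (pm 1 : Matrix α α F) = 1 := by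
  ext i j; simp only [pm_apply, Matrix.one_apply, Equiv.Perm.one_apply]; exact if_congr Iff.rfl rfl rfl

theorem pm_mul_apply (σ : Equiv.Perm α) (A : Matrix α α F) (i j : α) : ((pm σ : Matrix α α F) * A) i j = A (σ.symm i) j := by
  rw [Matrix.mul_apply, Finset.sum_eq_single (σ.symm i)]
  · simp [pm_apply]
  · intro b _ hb
    rw [pm_apply, if_neg (fun e => hb (by rw [e, Equiv.symm_apply_apply])), zero_mul]
  · simp

theorem mul_pm_apply (σ : Equiv.Perm α) (A : Matrix α α F) (i j : α) : (A * (pm σ : Matrix α α F)) i j = A i (σ j) := by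
  rw [Matrix.mul_apply, Finset.sum_eq_single (σ j)]
  · simp [pm_apply]
  · intro b _ hb
    rw [pm_apply, if_neg hb, mul_zero]
  · simp

theorem pm_mul_pm (σ τ : Equiv.Perm α) : (pm σ * pm τ : Matrix α α F) = pm (σ * τ) := by
  ext i j
  rw [pm_mul_apply, pm_apply, pm_apply]
  exact if_congr ⟨fun e => by rw [Equiv.Perm.mul_apply, ← e, Equiv.apply_symm_apply],
    fun e => by rw [e, Equiv.Perm.mul_apply, Equiv.symm_apply_apply]⟩ rfl rfl

theorem pm_mul_inv (σ : Equiv.Perm α) : (pm σ * pm σ⁻¹ : Matrix α α F) = 1 := by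
  rw [pm_mul_pm, mul_inv_cancel, pm_one]

theorem pm_inv_mul (σ : Equiv.Perm α) : (pm σ⁻¹ * pm σ : Matrix α α F) = 1 := by
  rw [pm_mul_pm, inv_mul_cancel, pm_one]

theorem pm_mul_diagonal (σ : Equiv.Perm α) (d : α → F) :
    pm σ * diagonal d = diagonal (fun i => d (σ.symm i)) * pm σ := by
  ext i j
  rw [pm_mul_apply, diagonal_mul, pm_apply, diagonal_apply]
  by_cases e : i = σ j
  · subst e; simp
  · rw [if_neg e, if_neg (fun h' => e (by rw [← h', Equiv.apply_symm_apply])), mul_zero]

theorem pm_conj_apply (σ : Equiv.Perm α) (A : Matrix α α F) (i j : α) :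
    ((pm σ : Matrix α α F) * A * (pm σ⁻¹ : Matrix α α F)) i j = A (σ.symm i) (σ.symm j) := by
  rw [mul_pm_apply, pm_mul_apply]; rfl

/-- the elements of the group: translation by `b` followed by the phase `a` -/
def w3 (w : F) (a b : Z) : Matrix Z Z F :=
  diagonal (fun y => ch w (a * y)) * pm (Equiv.addRight b)

/-- the pairing on the plane -/
def dot (a x : I9) : Z := a.1 * x.1 + a.2 * x.2

/-- the elements of the group in dimension nine -/
def w9 (w : F) (a b : I9) : Matrix I9 I9 F :=
  diagonal (fun x => ch w (dot a x)) * pm (Equiv.addRight b)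

theorem dot_add (a x y : I9) : dot a (x + y) = dot a x + dot a y := by
  simp only [dot, Prod.fst_add, Prod.snd_add]; ring

theorem add_dot (a a' x : I9) : dot (a + a') x = dot a x + dot a' x := by
  simp only [dot, Prod.fst_add, Prod.snd_add]; ring

theorem w9_apply (w : F) (a b i j : I9) : w9 w a b i j = if i = j + b then ch w (dot a i) else 0 := by
  rw [w9, diagonal_mul, pm_apply, mul_ite, mul_one, mul_zero]; rfl

theorem w3_apply (w : F) (a b i j : Z) : w3 w a b i j = if i = j + b then ch w (a * i) else 0 := by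
  rw [w3, diagonal_mul, pm_apply, mul_ite, mul_one, mul_zero]; rfl

theorem w9_zero (w : F) : w9 w 0 0 = 1 := by
  ext i j
  simp [w9_apply, dot, ch_zero, Matrix.one_apply]

theorem w3_zero (w : F) : w3 w 0 0 = 1 := by
  ext i j
  simp [w3_apply, ch_zero, Matrix.one_apply]

variable {w : F}

theorem Root.w9_mul (h : Root w) (a b a' b' : I9) :
    w9 w a b * w9 w a' b' = ch w (-dot a' b) • w9 w (a + a') (b + b') := by
  ext i j
  rw [w9, mul_assoc, diagonal_mul, Matrix.smul_apply, pm_mul_apply, w9_apply, w9_apply, smul_eq_mul,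
    mul_ite, mul_zero, mul_ite, mul_zero, Equiv.addRight_symm_apply]
  refine if_congr ⟨fun e => ?_, fun e => ?_⟩ ?_ rfl
  · beta_reduce at e; rw [← sub_eq_add_neg, sub_eq_iff_eq_add] at e; rw [e]; abel
  · beta_reduce; rw [e]; abel
  · rw [← h.ch_add, ← h.ch_add]
    congr 1
    simp only [add_dot, Equiv.addRight_symm_apply, dot, Prod.fst_add, Prod.snd_add, Prod.fst_neg, Prod.snd_neg]
    ring

theorem Root.w3_mul (h : Root w) (a b a' b' : Z) :
    w3 w a b * w3 w a' b' = ch w (-(a' * b)) • w3 w (a + a') (b + b') := by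
  ext i j
  rw [w3, mul_assoc, diagonal_mul, Matrix.smul_apply, pm_mul_apply, w3_apply, w3_apply, smul_eq_mul,
    mul_ite, mul_zero, mul_ite, mul_zero, Equiv.addRight_symm_apply]
  refine if_congr ⟨fun e => ?_, fun e => ?_⟩ ?_ rfl
  · beta_reduce at e; rw [← sub_eq_add_neg, sub_eq_iff_eq_add] at e; rw [e]; abel
  · beta_reduce; rw [e]; abel
  · rw [← h.ch_add, ← h.ch_add]
    congr 1
    simp only [Equiv.addRight_symm_apply]
    ring

theorem Root.w9_comm (h : Root w) (a b a' b' : I9) :
    w9 w a b * w9 w a' b' = ch w (dot a b' - dot a' b) • (w9 w a' b' * w9 w a b) := by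
  rw [h.w9_mul, h.w9_mul, smul_smul, ← h.ch_add, add_comm a a', add_comm b b']
  congr 2
  ring

theorem Root.w3_comm (h : Root w) (a b a' b' : Z) :
    w3 w a b * w3 w a' b' = ch w (a * b' - a' * b) • (w3 w a' b' * w3 w a b) := by
  rw [h.w3_mul, h.w3_mul, smul_smul, ← h.ch_add, add_comm a a', add_comm b b']
  congr 2
  ring

theorem Root.w3_inj (h : Root w) {a b a' b' : Z} {c : F} (e : w3 w a b = c • w3 w a' b') :
    a = a' ∧ b = b' := by
  have h0 := congrFun (congrFun e b) 0
  rw [Matrix.smul_apply, w3_apply, w3_apply, if_pos (zero_add b).symm] at h0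
  have hb : b = b' := by
    by_contra hne
    rw [if_neg (by rwa [zero_add]), smul_zero] at h0
    exact h.ch_ne_zero _ h0
  refine ⟨?_, hb⟩
  subst hb
  have h1 : ∀ y, ch w (a * y) = c * ch w (a' * y) := fun y => by
    have := congrFun (congrFun e y) (y - b)
    rwa [Matrix.smul_apply, w3_apply, w3_apply, if_pos (sub_add_cancel y b).symm,
      if_pos (sub_add_cancel y b).symm, smul_eq_mul] at this
  have hc : c = 1 := by simpa [ch_zero] using (h1 0).symm
  exact h.ch_inj (by simpa [hc] using h1 1)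

theorem Root.w9_inj (h : Root w) {a b a' b' : I9} {c : F} (e : w9 w a b = c • w9 w a' b') :
    a = a' ∧ b = b' := by
  have h0 := congrFun (congrFun e b) 0
  rw [Matrix.smul_apply, w9_apply, w9_apply, if_pos (zero_add b).symm] at h0
  have hb : b = b' := by
    by_contra hne
    rw [if_neg (by rwa [zero_add]), smul_zero] at h0
    exact h.ch_ne_zero _ h0
  refine ⟨?_, hb⟩
  subst hb
  have h1 : ∀ x, ch w (dot a x) = c * ch w (dot a' x) := fun x => by
    have := congrFun (congrFun e x) (x - b)
    rwa [Matrix.smul_apply, w9_apply, w9_apply, if_pos (sub_add_cancel x b).symm,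
      if_pos (sub_add_cancel x b).symm, smul_eq_mul] at this
  have hc : c = 1 := by simpa [ch_zero, dot] using (h1 0).symm
  have e1 := h1 (1, 0)
  have e2 := h1 (0, 1)
  simp only [hc, one_mul, dot, mul_one, mul_zero, add_zero, zero_add] at e1 e2
  exact Prod.ext (h.ch_inj e1) (h.ch_inj e2)

/-- block diagonal matrices, the blocks given by the first coordinate -/
def bd (A : Z → Matrix Z Z F) : Matrix I9 I9 F :=
  Matrix.of fun i j => if i.1 = j.1 then A i.1 i.2 j.2 else 0

theorem bd_apply (A : Z → Matrix Z Z F) (i j : I9) : bd A i j = if i.1 = j.1 then A i.1 i.2 j.2 else 0 := rfl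

theorem bd_mul (A B : Z → Matrix Z Z F) : bd A * bd B = bd (fun x => A x * B x) := by
  ext i j
  rw [Matrix.mul_apply, Fintype.sum_prod_type, Finset.sum_eq_single i.1]
  · simp only [bd_apply, if_pos]
    split_ifs with e
    · rw [Matrix.mul_apply]
    · simp
  · intro b _ hb
    exact Finset.sum_eq_zero fun y _ => by rw [bd_apply, if_neg (Ne.symm hb), zero_mul]
  · simp

theorem bd_one : bd (fun _ => (1 : Matrix Z Z F)) = 1 := by
  ext i j
  simp only [bd_apply, Matrix.one_apply, Prod.ext_iff]
  split_ifs <;> simp_all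

theorem bd_inj {A B : Z → Matrix Z Z F} (e : bd A = bd B) (x : Z) : A x = B x := by
  ext y y'
  simpa [bd_apply] using congrFun (congrFun e (x, y)) (x, y')

theorem bd_smul (c : F) (A : Z → Matrix Z Z F) : bd (fun x => c • A x) = c • bd A := by
  ext i j
  simp [bd_apply]

theorem bd_det (A : Z → Matrix Z Z F) : (bd A).det = ∏ x, (A x).det := by
  have e : bd A = (Matrix.blockDiagonal A).submatrix (Equiv.prodComm Z Z) (Equiv.prodComm Z Z) := by
    ext i j
    simp [bd_apply, Matrix.blockDiagonal_apply]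
  rw [e, Matrix.det_submatrix_equiv_self, Matrix.det_blockDiagonal]

theorem Root.w9_bd (h : Root w) (a : I9) (b : Z) :
    w9 w a (0, b) = bd (fun x => ch w (a.1 * x) • w3 w a.2 b) := by
  ext i j
  rw [bd_apply, w9_apply, Matrix.smul_apply, w3_apply, smul_eq_mul, mul_ite, mul_zero, ← ite_and, ← h.ch_add]
  refine if_congr ?_ rfl rfl
  simp [Prod.ext_iff]

/-- the matrices of an element of a group -/
def Mem (M : Subgroup (GL α F)) (X : Matrix α α F) : Prop := ∃ g ∈ M, (g : Matrix α α F) = X

namespace Mem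

variable {M : Subgroup (GL α F)} {X Y : Matrix α α F}

theorem one : Mem M (1 : Matrix α α F) := ⟨1, M.one_mem, rfl⟩

theorem mul (hX : Mem M X) (hY : Mem M Y) : Mem M (X * Y) := by
  obtain ⟨g, hg, rfl⟩ := hX
  obtain ⟨g', hg', rfl⟩ := hY
  exact ⟨g * g', M.mul_mem hg hg', rfl⟩

theorem inv (hX : Mem M X) (e : X * Y = 1) : Mem M Y := by
  obtain ⟨g, hg, rfl⟩ := hX
  refine ⟨g⁻¹, M.inv_mem hg, ?_⟩
  calc ((g⁻¹ : GL α F) : Matrix α α F) = ((g⁻¹ : GL α F) : Matrix α α F) * ((g : Matrix α α F) * Y) := by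
        rw [e, mul_one]
    _ = Y := by rw [← mul_assoc, Units.inv_mul, one_mul]

theorem pow (hX : Mem M X) : ∀ n : ℕ, Mem M (X ^ n)
  | 0 => by rw [pow_zero]; exact one
  | n + 1 => by rw [pow_succ]; exact (pow hX n).mul hX

theorem conj (hX : Mem M X) (hY : Mem M Y) {X' : Matrix α α F} (e : X * X' = 1) : Mem M (X * Y * X') :=
  (hX.mul hY).mul (hX.inv e)

end Mem

/-- normalising the group in dimension three, up to scalars -/
def Nm3 (w : F) (X : Matrix Z Z F) : Prop :=
  ∀ a b, ∃ (c : F) (a' b' : Z), X * w3 w a b = c • (w3 w a' b' * X)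

/-- normalising the group in dimension nine, up to scalars -/
def Nm (w : F) (X : Matrix I9 I9 F) : Prop :=
  ∀ a b, ∃ (c : F) (a' b' : I9), X * w9 w a b = c • (w9 w a' b' * X)

end CfsgLib.MaxSub.SlNine
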