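import Cfsg.Agent.Lib.MaxSub.SlNine.Act

/-!
Elements of the normaliser in dimension nine, and the elements that the setting puts into `M`.
-/

set_option autoImplicit false
set_option linter.unusedSectionVars false

namespace CfsgLib.MaxSub.SlNine

open Matrix
open scoped MatrixGroups

variable {F : Type*} [Field F] {w : F}

namespace Nm

variable {X Y : Matrix I9 I9 F}

theorem one : Nm w (1 : Matrix I9 I9 F) := fun a b => ⟨1, a, b, by simp⟩

theorem mul (hX : Nm w X) (hY : Nm w Y) : Nm w (X * Y) := fun a b => by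
  obtain ⟨c, a', b', e⟩ := hY a b
  obtain ⟨d, a'', b'', e'⟩ := hX a' b'
  exact ⟨c * d, a'', b'', by rw [mul_assoc, e, mul_smul_comm, ← mul_assoc, e', smul_mul_assoc, smul_smul, mul_assoc]⟩

theorem smul (hX : Nm w X) (k : F) : Nm w (k • X) := fun a b => by
  obtain ⟨c, a', b', e⟩ := hX a b
  exact ⟨c, a', b', by rw [smul_mul_assoc, e, mul_smul_comm, smul_smul, smul_smul, mul_comm]⟩

theorem pow (hX : Nm w X) : ∀ n : ℕ, Nm w (X ^ n)
  | 0 => by rw [pow_zero]; exact one
  | n + 1 => by rw [pow_succ]; exact (pow hX n).mul hX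

end Nm

theorem qd_eq_bd_phase (k : Z) : qd w 0 0 k = bd (fun _ => diagonal fun y : Z => ch w (k * (y * y))) := by
  ext i j
  rw [qd, bd_apply, diagonal_apply, diagonal_apply]
  simp only [zero_mul, zero_add, Prod.ext_iff]
  split_ifs <;> simp_all

theorem shear_eq_bd (k : Z) : (pm (shear k) : Matrix I9 I9 F) = bd (fun x => w3 w 0 (k * x)) := by
  ext i j
  rw [bd_apply, pm_apply, w3_apply, zero_mul, ch_zero, ← ite_and]
  refine if_congr ?_ rfl rfl
  simp only [shear, Equiv.coe_fn_mk, Prod.ext_iff]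
  constructor
  · rintro ⟨e1, e2⟩
    exact ⟨e1, by rw [e2, e1]⟩
  · rintro ⟨e1, e2⟩
    exact ⟨e1, by rw [e2, e1]⟩

variable (h : Root w)
include h

theorem sigma_eq_bd : qd w 0 1 0 = bd (fun x => w3 w x 0) := by
  ext i j
  rw [qd, bd_apply, diagonal_apply, w3_apply, add_zero]
  simp only [zero_mul, zero_add, one_mul, add_zero, Prod.ext_iff]
  split_ifs <;> simp_all

theorem w9_shift (c : Z) (A : Z → Matrix Z Z F) :
    w9 w 0 (c, 0) * bd A = bd (fun x => A (x - c)) * w9 w 0 (c, 0) := by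
  have e0 : w9 w 0 (c, 0) = pm (Equiv.addRight ((c, 0) : I9)) := by
    rw [w9, show (fun x : I9 => ch w (dot 0 x)) = fun _ => 1 from funext fun x => by simp [dot, ch_zero],
      diagonal_one, one_mul]
  ext i j
  rw [e0, pm_mul_apply, mul_pm_apply, bd_apply, bd_apply]
  simp only [Equiv.addRight_symm_apply, Equiv.coe_addRight, Prod.fst_add, Prod.snd_add, Prod.fst_neg, Prod.snd_neg,
    neg_zero, add_zero, sub_eq_add_neg]
  refine if_congr ?_ rfl rfl
  constructor
  · intro e; rw [← e]; abel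
  · intro e; rw [e]; abel

theorem nm_w9 (a b : I9) : Nm w (w9 w a b) := fun a' b' => ⟨_, a', b', h.w9_comm a b a' b'⟩

theorem nm_qd (s₁₁ s₁₂ s₂₂ : Z) : Nm w (qd w s₁₁ s₁₂ s₂₂) := fun a b => by
  refine ⟨ch w (-(s₁₁ * (b.1 * b.1) + s₁₂ * (b.1 * b.2) + s₂₂ * (b.2 * b.2))),
    (a.1 + 2 * s₁₁ * b.1 + s₁₂ * b.2, a.2 + s₁₂ * b.1 + 2 * s₂₂ * b.2), b, Matrix.ext fun i j => ?_⟩
  simp only [qd, diagonal_mul, mul_diagonal, Matrix.smul_apply, w9_apply, smul_eq_mul, ite_mul, mul_ite,
    zero_mul, mul_zero]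
  split_ifs with e
  · subst e
    rw [← h.ch_add, ← h.ch_add, ← h.ch_add]
    congr 1
    simp only [dot, Prod.fst_add, Prod.snd_add]
    ring
  · rfl

theorem nm_perm (σ : Equiv.Perm I9) (hadd : ∀ x y, σ (x + y) = σ x + σ y) (ψ : I9 → I9)
    (hdot : ∀ a x, dot (ψ a) (σ x) = dot a x) : Nm w (pm σ : Matrix I9 I9 F) := fun a b => by
  refine ⟨1, ψ a, σ b, ?_⟩
  rw [one_smul, w9, ← mul_assoc, pm_mul_diagonal, mul_assoc, w9, mul_assoc, pm_mul_pm, pm_mul_pm]
  congr 2
  · funext i
    rw [← hdot a (σ.symm i), Equiv.apply_symm_apply]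
  · refine Equiv.ext fun x => ?_
    simp [hadd]

theorem nm_shear (k : Z) : Nm w (pm (shear k) : Matrix I9 I9 F) :=
  nm_perm h _ (fun x y => by simp only [shear, Equiv.coe_fn_mk, Prod.fst_add, Prod.snd_add, Prod.mk_add_mk]; ring_nf)
    (fun a => (a.1 - k * a.2, a.2)) fun a x => by simp only [shear, Equiv.coe_fn_mk, dot]; ring

theorem nm_swp : Nm w (pm swp : Matrix I9 I9 F) :=
  nm_perm h _ (fun x y => rfl) (fun a => (a.2, a.1)) fun a x => by
    simp only [swp, Equiv.prodComm_apply, dot, Prod.fst_swap, Prod.snd_swap]; ring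

theorem nm_neg_swp : Nm w (-pm swp : Matrix I9 I9 F) := by
  simpa using (nm_swp h).smul (-1 : F)

theorem nm_tau : Nm w (tau F) :=
  nm_perm h _ (fun x y => neg_add x y) (fun a => -a) fun a x => by
    simp only [Equiv.neg_apply, dot, Prod.fst_neg, Prod.snd_neg]; ring

theorem nm_zed : Nm w (zed F) := by
  have := (nm_perm h negFst (fun x y => by
    simp only [negFst, Equiv.prodCongr_apply, Prod.map, Equiv.neg_apply, Equiv.coe_refl, id_eq, Prod.fst_add,
      Prod.snd_add, Prod.mk_add_mk, neg_add]) (fun a => (-a.1, a.2)) fun a x => by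
    simp only [negFst, Equiv.prodCongr_apply, Prod.map, Equiv.neg_apply, Equiv.coe_refl, id_eq, dot]; ring).smul
      (-1 : F)
  simpa [zed] using this

theorem w9_split (a b : I9) : w9 w a b = w9 w a (0, b.2) * w9 w 0 (b.1, 0) := by
  rw [h.w9_mul, add_zero]
  simp [dot, ch_zero]

theorem nm_bd_const {X : Matrix Z Z F} (hX : Nm3 w X) : Nm w (bd fun _ => X) := fun a b => by
  obtain ⟨c, a', b', e⟩ := hX a.2 b.2
  refine ⟨c, (a.1, a'), (b.1, b'), ?_⟩
  rw [w9_split h a b, w9_split h (a.1, a') (b.1, b'), ← mul_assoc, h.w9_bd, bd_mul]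
  have e1 : (fun x => X * (ch w (a.1 * x) • w3 w a.2 b.2)) =
      fun x => c • ((ch w (a.1 * x) • w3 w a' b') * X) := funext fun x => by
    rw [mul_smul_comm, e, smul_mul_assoc, smul_comm]
  rw [e1, bd_smul, ← bd_mul, ← h.w9_bd (a.1, a'), smul_mul_assoc, mul_assoc, mul_assoc, w9_shift h b.1 (fun _ => X)]

theorem det_w3_ne (a b : Z) : (w3 w a b).det ≠ 0 := fun e0 => by
  have := congrArg Matrix.det (h.w3_mul a b (-a) (-b))
  rw [det_mul, e0, zero_mul, det_smul, add_neg_cancel, add_neg_cancel, w3_zero, det_one, mul_one] at this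
  exact pow_ne_zero _ (h.ch_ne_zero _) this.symm

theorem det_phi_ne : (phi w).det ≠ 0 := fun e0 => by
  have := congrArg Matrix.det (phi_mul_phiInv h)
  rw [det_mul, e0, zero_mul, det_one] at this
  exact zero_ne_one this

theorem nm3_phi : Nm3 w (phi w) := nm3_of_sends fun u => ⟨_, sends_phi h u⟩

theorem nm3_w3 (v : Z × Z) : Nm3 w (v3 w v) := nm3_of_sends fun u => ⟨u, sends_w3 h v u⟩

theorem nm3_phase (k : Z) : Nm3 w (diagonal fun y : Z => ch w (k * (y * y))) :=
  nm3_of_sends fun u => ⟨_, sends_phase h k u⟩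

omit h

namespace Setup

variable {M : Subgroup (GL I9 F)} {G S : Subgroup (GL Z F)} (hS : Setup w M G S)
include hS

theorem mem_phi : Mem M (bd fun _ => phi w) := by
  obtain ⟨g, hg, e⟩ := hS.phi_mem
  rw [← e]
  exact hS.mem_hess g hg (e ▸ nm3_phi hS.root)

theorem mem_const (v : Z × Z) : Mem M (bd fun _ => v3 w v) := by
  have := hS.mem_w (0, v.1) (0, v.2)
  rw [hS.root.w9_bd] at this
  simpa [ch_zero] using this

theorem mem_phase (k : Z) : Mem M (bd fun _ => diagonal fun y : Z => ch w (k * (y * y))) :=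
  qd_eq_bd_phase (w := w) k ▸ hS.mem_quad 0 0 k

theorem mem_phi_pow (n : ℕ) : Mem M (bd fun _ => phi w ^ n) := by
  induction n with
  | zero => simpa [bd_one] using (Mem.one (M := M))
  | succ n ih => simpa [bd_mul, ← pow_succ] using ih.mul hS.mem_phi

theorem mem_sigma (x₀ : Z × Z) : Mem M (bd fun x => v3 w (x * x₀.1, x * x₀.2)) := by
  have h := hS.root
  have h1 : Mem M (bd fun x => w3 w (x * x₀.1) 0) := by
    have := (hS.mem_quad 0 1 0).pow x₀.1.val
    rw [sigma_eq_bd h] at this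
    have e : ∀ n : ℕ, (bd fun x => w3 w x 0) ^ n = bd (fun x => w3 w ((n : Z) * x) 0) := by
      intro n
      induction n with
      | zero => simp [w3_zero, bd_one]
      | succ n ih =>
        rw [pow_succ, ih, bd_mul]
        congr 1; funext x
        rw [h.w3_mul]
        simp [ch_zero, add_mul]
    rw [e, ZMod.natCast_zmod_val] at this
    simpa [mul_comm] using this
  have h2 : Mem M (bd fun x => w3 w 0 (x * x₀.2)) := by
    have := hS.mem_shear x₀.2
    rw [shear_eq_bd (w := w)] at this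
    simpa [mul_comm] using this
  have := h1.mul h2
  rw [bd_mul] at this
  simpa [h.w3_mul, ch_zero] using this

end Setup

end CfsgLib.MaxSub.SlNine
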