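import Cfsg.Agent.Lib.MaxSub.SlNine.Block
import Cfsg.Agent.Lib.MaxSub.SlNine.Std
import Cfsg.Agent.Lib.MaxSub.SlThree.ExtraMain
import Cfsg.Agent.Lib.MaxSub.Transvection
import Cfsg.Agent.Lib.MaxSub.BlockMono
import Cfsg.Agent.Lib.MaxSub.Sub
import Cfsg.Agent.Lib.Aschbacher.SLNotLe
import Cfsg.Agent.Lib.Classical.SLGen

/-!
The setting for `SL₉(p)`: the block group is `GL₃(p)` with simple part `SL₃(p)`.
-/

set_option autoImplicit false
set_option linter.unusedSectionVars false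
set_option linter.style.haveILetI false

namespace CfsgLib.MaxSub.SlNine

open Matrix Cfsg.Geo
open scoped MatrixGroups

variable {F : Type*} [Field F] {w : F}

theorem mem_sl3 {α : Type} [Fintype α] [DecidableEq α] {g : GL α F} :
    g ∈ specialLinear α F ↔ (g : Matrix α α F).det = 1 := by
  show Matrix.GeneralLinearGroup.det g = 1 ↔ _
  exact ⟨fun e => by simpa using congrArg Units.val e, fun e => Units.ext e⟩

theorem det_pm {α : Type} [Fintype α] [DecidableEq α] (σ : Equiv.Perm α) :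
    (pm σ : Matrix α α F).det = ((Equiv.Perm.sign σ : ℤ) : F) := by
  have : (pm σ : Matrix α α F) = (Equiv.Perm.permMatrix F σ⁻¹) := by
    ext i j
    rw [pm_apply, Equiv.Perm.permMatrix, PEquiv.toMatrix_apply, Equiv.toPEquiv_apply]
    refine if_congr ?_ rfl rfl
    simp [Equiv.Perm.inv_def, Equiv.symm_apply_eq]
  rw [this, Matrix.det_permutation, Equiv.Perm.sign_inv]

theorem sign_addRight3 : ∀ b : Z, Equiv.Perm.sign (Equiv.addRight b) = 1 := by decide +kernel

theorem sign_addRight9 : ∀ b : I9, Equiv.Perm.sign (Equiv.addRight b) = 1 := by decide +kernel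

theorem sign_shear : ∀ k : Z, Equiv.Perm.sign (shear k) = 1 := by decide +kernel

theorem sign_swp : Equiv.Perm.sign swp = -1 := by decide +kernel

theorem sign_negFst : Equiv.Perm.sign negFst = -1 := by decide +kernel

variable (h : Root w)
include h

theorem prod_ch {α : Type} (s : Finset α) (f : α → Z) : ∏ x ∈ s, ch w (f x) = ch w (∑ x ∈ s, f x) := by
  classical
  induction s using Finset.induction_on with
  | empty => simp [ch_zero]
  | insert a s ha ih => rw [Finset.prod_insert ha, Finset.sum_insert ha, ih, h.ch_add]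

theorem det_w9 (a b : I9) : (w9 w a b).det = 1 := by
  rw [w9, det_mul, det_diagonal, det_pm, sign_addRight9, prod_ch h,
    show ∑ x : I9, dot a x = 0 by revert a; decide +kernel, ch_zero]
  simp

theorem det_qd (s₁ s₂ s₃ : Z) : (qd w s₁ s₂ s₃).det = 1 := by
  rw [qd, det_diagonal, prod_ch h]
  have : ∀ a b c : Z, ∑ x : I9, (a * (x.1 * x.1) + b * (x.1 * x.2) + c * (x.2 * x.2)) = 0 := by decide +kernel
  rw [this, ch_zero]

theorem det_w3 (a b : Z) : (w3 w a b).det = 1 := by
  rw [w3, det_mul, det_diagonal, det_pm, sign_addRight3, prod_ch h,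
    show ∑ x : Z, a * x = 0 by revert a; decide +kernel, ch_zero]
  simp

theorem det_phi : (phi w).det = 1 := by
  have e : phi w = (w - w ^ 2)⁻¹ • (Matrix.of ![![1, 1, 1], ![1, w, w ^ 2], ![1, w ^ 2, w]] : Matrix Z Z F) := by
    ext i j
    rw [phi, Matrix.smul_apply, Matrix.smul_apply]
    congr 1
    fin_cases i <;> fin_cases j <;>
      first | (exact pow_zero w) | (exact pow_one w) | rfl
  rw [e, det_smul, show Fintype.card Z = 3 from ZMod.card 3]
  have hd : (Matrix.of ![![1, 1, 1], ![1, w, w ^ 2], ![1, w ^ 2, w]] : Matrix (Fin 3) (Fin 3) F).det =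
      (w - w ^ 2) ^ 3 := by
    rw [det_fin_three]
    simp only [Matrix.of_apply, Matrix.cons_val', Matrix.cons_val_zero, Matrix.cons_val_one, Matrix.cons_val_fin_one,
      Matrix.cons_val]
    linear_combination (w ^ 4 - 4 * w ^ 3 + 5 * w ^ 2 - 2 * w) * h.eq
  have hne : (w - w ^ 2) ≠ 0 := fun e0 => by
    have h0 : w * (1 - w) = 0 := by linear_combination e0
    rcases mul_eq_zero.1 h0 with h0 | h0
    · exact h.ne_zero h0
    · exact h.ne_one (sub_eq_zero.1 h0).symm
  rw [inv_pow, show (Matrix.of ![![1, 1, 1], ![1, w, w ^ 2], ![1, w ^ 2, w]] : Matrix Z Z F).det = _ from hd]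
  exact inv_mul_cancel₀ (pow_ne_zero _ hne)

omit h

/-- the groups whose element has this matrix -/
theorem mem_sl_of_det {α : Type} [Fintype α] [DecidableEq α] {X : Matrix α α F} (hd : X.det = 1) :
    Mem (specialLinear α F) X :=
  ⟨GeneralLinearGroup.mkOfDetNeZero X (by rw [hd]; exact one_ne_zero), mem_sl3.2 hd, rfl⟩

theorem mem_sl_conj {α : Type} [Fintype α] [DecidableEq α] {g x : GL α F} (hx : x ∈ specialLinear α F) :
    g * x * g⁻¹ ∈ specialLinear α F := by
  show Matrix.GeneralLinearGroup.det (g * x * g⁻¹) = 1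
  rw [map_mul, map_mul, show Matrix.GeneralLinearGroup.det x = 1 from hx, mul_one, ← map_mul, mul_inv_cancel, map_one]

/-- A normal subgroup covering a perfect group modulo the centre is the whole group. -/
theorem eq_top_of_sup_center {G : Type*} [Group G] (K : Subgroup G) [hKn : K.Normal]
    (hsup : K ⊔ Subgroup.center G = ⊤) (hperf : commutator G = ⊤) : K = ⊤ := by
  rw [eq_top_iff, ← hperf, commutator_def, Subgroup.commutator_le]
  intro a _ b _
  have ha : a ∈ K ⊔ Subgroup.center G := by rw [hsup]; exact Subgroup.mem_top a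
  obtain ⟨k, hk, z, hz, rfl⟩ := Subgroup.mem_sup_of_normal_left.1 ha
  rw [Subgroup.mem_center_iff] at hz
  rw [commutatorElement_def, show k * z * b * (k * z)⁻¹ * b⁻¹ = k * (z * b * z⁻¹ * k⁻¹ * b⁻¹) by group,
    ← hz b, show b * z * z⁻¹ * k⁻¹ * b⁻¹ = b * k⁻¹ * b⁻¹ by group]
  exact K.mul_mem hk (hKn.conj_mem _ (K.inv_mem hk) b)

/-- A group normalised by `SL₃` with an element that is not scalar contains `SL₃`. -/
theorem sl3_le_of_normal (L : Subgroup (GL Z F)) (hn : ∀ g ∈ specialLinear Z F, ∀ x ∈ L, g * x * g⁻¹ ∈ L)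
    (hx : ∃ x ∈ L, ∀ c : F, (x : Matrix Z Z F) ≠ c • 1) : specialLinear Z F ≤ L := by
  classical
  obtain ⟨x, hxL, hns⟩ := hx
  obtain ⟨v, hv⟩ : ∃ v : Z → F, (x : Matrix Z Z F) *ᵥ v ∉ Submodule.span F {v} := by
    by_contra hc
    push Not at hc
    obtain ⟨c, hc'⟩ := (mem_scalars_iff x).1 (CfsgLib.AschPrime.mem_scalars_of_forall_eigen x fun v => by
      obtain ⟨c, e⟩ := Submodule.mem_span_singleton.1 (hc v)
      exact ⟨c, e.symm⟩)
    exact hns _ hc'
  obtain ⟨χ, hχ1, hχ⟩ := exists_dotProduct_of_notMem hv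
  have hχv : χ ⬝ᵥ v = 0 := hχ v (Submodule.mem_span_singleton_self v)
  obtain ⟨t, ht⟩ : ∃ t, t = tvGL v χ hχv := ⟨_, rfl⟩
  have htS : t ∈ specialLinear Z F := ht ▸ tvGL_mem_specialLinear _ _ _
  obtain ⟨q, hq⟩ : ∃ q, q = t * x * t⁻¹ * x⁻¹ := ⟨_, rfl⟩
  have hqL : q ∈ L := hq ▸ L.mul_mem (hn t htS x hxL) (L.inv_mem hxL)
  have hqS : q ∈ specialLinear Z F := by
    rw [hq, show t * x * t⁻¹ * x⁻¹ = t * (x * t⁻¹ * x⁻¹) by group]
    exact mul_mem htS (mem_sl_conj (inv_mem htS))
  have hqns : ∀ c : F, (q : Matrix Z Z F) ≠ c • 1 := by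
    intro c e
    have e1 : (t : Matrix Z Z F) * x = c • ((x : Matrix Z Z F) * t) := by
      rw [← Units.val_mul, show t * x = q * (x * t) by rw [hq]; group, Units.val_mul, e, Matrix.smul_mul, one_mul,
        Units.val_mul]
    have e2 := congrArg (fun A => A *ᵥ v) e1
    simp only [← mulVec_mulVec, smul_mulVec, ht, coe_tvGL, tvMat_mulVec, hχv, zero_smul, add_zero, hχ1, one_smul] at e2
    rcases eq_or_ne c 1 with rfl | hc
    · rw [one_smul, add_eq_left] at e2
      exact hv (by rw [e2, mulVec_zero]; exact zero_mem _)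
    · refine hv (Submodule.mem_span_singleton.2 ⟨(c - 1)⁻¹, ?_⟩)
      have e3 : (c - 1) • ((x : Matrix Z Z F) *ᵥ v) = v := by
        rw [sub_smul, one_smul, ← e2, add_sub_cancel_left]
      conv_lhs => rw [← e3]
      rw [smul_smul, inv_mul_cancel₀ (sub_ne_zero.2 hc), one_smul]
  obtain ⟨K, hK⟩ : ∃ K, K = L.comap (Matrix.SpecialLinearGroup.toGL : Matrix.SpecialLinearGroup Z F →* GL Z F) :=
    ⟨_, rfl⟩
  have hKn : K.Normal := ⟨fun y hy s => by
    rw [hK, Subgroup.mem_comap] at hy ⊢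
    rw [map_mul, map_mul, map_inv]
    exact hn _ (mem_sl3.2 s.2) _ hy⟩
  obtain ⟨q', hq'⟩ : ∃ q' : Matrix.SpecialLinearGroup Z F, Matrix.SpecialLinearGroup.toGL q' = q :=
    ⟨⟨q, mem_sl3.1 hqS⟩, Units.ext rfl⟩
  have hq'K : q' ∈ K := by rw [hK, Subgroup.mem_comap, hq']; exact hqL
  have htop : K = ⊤ := by
    have hZ : 3 ≤ Fintype.card Z := (ZMod.card 3).ge
    haveI := CfsgLib.Classical.isSimpleGroup_psl (ι := Z) (F := F) hZ
    have := hKn
    have hperf := CfsgLib.Classical.commutator_sl_eq_top (ι := Z) (F := F) hZ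
    obtain ⟨C, hC⟩ : ∃ C, C = Subgroup.center (Matrix.SpecialLinearGroup Z F) := ⟨_, rfl⟩
    rcases (Subgroup.Normal.map (H := K) inferInstance
      (QuotientGroup.mk' (Subgroup.center (Matrix.SpecialLinearGroup Z F)))
      (QuotientGroup.mk'_surjective _)).eq_bot_or_eq_top with hb | hb
    · exfalso
      rw [Subgroup.map_eq_bot_iff, QuotientGroup.ker_mk'] at hb
      obtain ⟨r, -, hr⟩ := Matrix.SpecialLinearGroup.mem_center_iff.1 (hb hq'K)
      refine hqns r ?_
      rw [← hq']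
      show (q' : Matrix Z Z F) = _
      rw [← hr, Matrix.scalar_apply, Matrix.smul_one_eq_diagonal]
    · have hsup : K ⊔ Subgroup.center (Matrix.SpecialLinearGroup Z F) = ⊤ := by
        have := congrArg (Subgroup.comap (QuotientGroup.mk' (Subgroup.center (Matrix.SpecialLinearGroup Z F)))) hb
        rwa [Subgroup.comap_map_eq, QuotientGroup.ker_mk', Subgroup.comap_top] at this
      exact eq_top_of_sup_center K hsup hperf
  intro g hg
  obtain ⟨g', hg'⟩ : ∃ g' : Matrix.SpecialLinearGroup Z F, Matrix.SpecialLinearGroup.toGL g' = g :=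
    ⟨⟨g, mem_sl3.1 hg⟩, Units.ext rfl⟩
  have : g' ∈ K := htop ▸ Subgroup.mem_top _
  rw [hK, Subgroup.mem_comap, hg'] at this
  exact this

section dich

variable [Fintype F] {p : ℕ}

/-- The dichotomy: a group containing the special normaliser of the group of order `27` normalises it or contains
`SL₃`. -/
theorem sl3_dich (hp : p.Prime) (hF : Fintype.card F = p) (hp3 : p % 3 = 1) (h : Root w) (P : Subgroup (GL Z F))
    (hP : ∀ g ∈ specialLinear Z F, Nm3 w (g : Matrix Z Z F) → g ∈ P) :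
    (∀ g ∈ P, Nm3 w (g : Matrix Z Z F)) ∨ specialLinear Z F ≤ P := by
  classical
  haveI : Finite (GL Z F) := Finite.of_injective (fun g => (g : Matrix Z Z F)) fun _ _ => Units.ext
  obtain ⟨-, hmax⟩ := SlThree.clause_five p (R3 h) hp hF hp3 (R3_data hp hF hp3 h)
  obtain ⟨H0, hH0⟩ : ∃ H0, H0 = subgroupNormalizer (R3 h) ⊓ specialLinear Z F := ⟨_, rfl⟩
  have hmemH : ∀ g, g ∈ H0 ↔ Nm3 w (g : Matrix Z Z F) ∧ g ∈ specialLinear Z F := fun g => by
    rw [hH0, Subgroup.mem_inf, normalizer_iff3 h]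
  have hle : subgroupNormalizer (R3 h) ⊓ specialLinear Z F ≤ P ⊓ specialLinear Z F := fun g hg => by
    have hg' : g ∈ H0 := hH0 ▸ hg
    rw [hmemH] at hg'
    exact ⟨hP g hg'.2 hg'.1, hg'.2⟩
  rcases hmax _ hle inf_le_right with e | e
  rotate_left
  · exact Or.inr fun g hg => (e.symm.le hg).1
  left
  have hQ : P ⊓ specialLinear Z F = H0 := e.trans hH0.symm
  intro g hg
  rw [← normalizer_iff3 h]
  have hconj : ∀ n ∈ H0, g * n * g⁻¹ ∈ H0 := fun n hn => by
    rw [← hQ] at hn ⊢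
    exact ⟨P.mul_mem (P.mul_mem hg hn.1) (P.inv_mem hg), mem_sl_conj hn.2⟩
  have hconj' : ∀ n ∈ H0, g⁻¹ * n * g ∈ H0 := fun n hn => by
    rw [← hQ] at hn ⊢
    have := mem_sl_conj (g := g⁻¹) hn.2
    rw [inv_inv] at this
    exact ⟨P.mul_mem (P.mul_mem (P.inv_mem hg) hn.1) hg, this⟩
  have hR : ∀ {r : GL Z F}, r ∈ R3 h → r ∈ H0 := fun {r} hr => by
    obtain ⟨k, a, b, e⟩ := mem_R3.1 hr
    refine (hmemH r).2 ⟨(normalizer_iff3 h).1 (Subgroup.le_normalizer hr), mem_sl3.2 ?_⟩
    rw [e, det_smul, ZMod.card, h.ch_cube, det_w3 h, one_mul]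
  obtain ⟨φ, hφS, hφ⟩ := mem_sl_of_det (det_phi h)
  have hφH : φ ∈ H0 := (hmemH φ).2 ⟨hφ ▸ nm3_phi h, hφS⟩
  have key : ∀ α β : Z × Z, let f : Z × Z → Z × Z := fun u => u.1.val • α + u.2.val • β
      (f (f (f (1, 0))) = (1, 0) ∧ f (f (f (0, 1))) = (0, 1)) →
      (let k : Z × Z → Z × Z := fun u =>
        f (let y := f (f (-u.2, u.1)); (y.2, -y.1))
       k (k (k (1, 0))) = (1, 0) ∧ k (k (k (0, 1))) = (0, 1)) →
      α = (1, 0) ∧ β = (0, 1) := by decide +kernel
  refine Subgroup.mem_normalizer_fintype fun r hr => ?_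
  show g * r * g⁻¹ ∈ R3 h
  obtain ⟨x, hx⟩ : ∃ x, x = g * r * g⁻¹ := ⟨_, rfl⟩
  rw [← hx]
  have hxH : x ∈ H0 := hx ▸ hconj r (hR hr)
  -- the conjugates form a subgroup normal in `H0` of exponent three
  have hcube : ∀ n ∈ H0, (n * x * n⁻¹) * x⁻¹ ∈ H0 ∧ ((n * x * n⁻¹) * x⁻¹) ^ 3 = 1 := by
    intro n hn
    have hm := hconj' n hn
    have hnR : (g⁻¹ * n * g) * r * (g⁻¹ * n * g)⁻¹ ∈ R3 h :=
      (Subgroup.mem_normalizer_iff.1 ((normalizer_iff3 h).2 ((hmemH _).1 hm).1) r).1 hr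
    refine ⟨H0.mul_mem (H0.mul_mem (H0.mul_mem hn hxH) (H0.inv_mem hn)) (H0.inv_mem hxH), ?_⟩
    have : ((g⁻¹ * n * g) * r * (g⁻¹ * n * g)⁻¹ * r⁻¹) ^ 3 = 1 :=
      h.phased3.pow_three ((R3 h).mul_mem hnR ((R3 h).inv_mem hr))
    rw [show (n * x * n⁻¹) * x⁻¹ = g * ((g⁻¹ * n * g) * r * (g⁻¹ * n * g)⁻¹ * r⁻¹) * g⁻¹ by rw [hx]; group,
      conj_pow, this, mul_one, mul_inv_cancel]
  have hx3 : x ^ 3 = 1 := by rw [hx, conj_pow, h.phased3.pow_three hr, mul_one, mul_inv_cancel]
  have hxN := ((hmemH x).1 hxH).1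
  have hd : (x : Matrix Z Z F).det ≠ 0 := by rw [mem_sl3.1 ((hmemH x).1 hxH).2]; exact one_ne_zero
  obtain ⟨α, hα⟩ := hxN.sends (1, 0)
  obtain ⟨β, hβ⟩ := hxN.sends (0, 1)
  obtain ⟨f, hf⟩ : ∃ f : Z × Z → Z × Z, f = fun u => u.1.val • α + u.2.val • β := ⟨_, rfl⟩
  have hfs : ∀ u, Sends w (x : Matrix Z Z F) u (f u) := fun u => by rw [hf]; exact Sends.of_basis h hα hβ u
  have hx3' : ∀ u, Sends w (1 : Matrix Z Z F) u (f (f (f u))) := fun u => by
    have := (hfs _).mul ((hfs _).mul (hfs u))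
    rwa [← Units.val_mul, ← Units.val_mul, ← pow_two, ← pow_succ', hx3, Units.val_one] at this
  have hone : ∀ u, f (f (f u)) = u := fun u => Sends.unique h (by simp) (hx3' u) (Sends.one u)
  obtain ⟨y, hy⟩ : ∃ y, y = φ * x⁻¹ * φ⁻¹ := ⟨_, rfl⟩
  have hys : ∀ u, Sends w (y : Matrix Z Z F) u (let z := f (f (-u.2, u.1)); (z.2, -z.1)) := by
    intro u
    have hxi : x⁻¹ = x * x := by
      refine inv_eq_of_mul_eq_one_right ?_
      rw [← pow_two, ← pow_succ', hx3]
    have hφi : Sends w ((φ⁻¹ : GL Z F) : Matrix Z Z F) u (-u.2, u.1) := by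
      obtain ⟨c, hc⟩ : Sends w (φ : Matrix Z Z F) (-u.2, u.1) u := by
        have := sends_phi h (-u.2, u.1)
        rw [← hφ] at this
        simpa using this
      have hc0 : c ≠ 0 := fun e0 => by
        rw [e0, zero_smul] at hc
        have := congrArg Matrix.det hc
        rw [det_mul, Matrix.det_zero, mem_sl3.1 hφS, one_mul] at this
        exact det_w3_ne h _ _ this
      refine ⟨c⁻¹, ?_⟩
      have e' := congrArg (fun A : Matrix Z Z F =>
        ((φ⁻¹ : GL Z F) : Matrix Z Z F) * A * ((φ⁻¹ : GL Z F) : Matrix Z Z F)) hc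
      simp only [Matrix.mul_smul, Matrix.smul_mul, mul_assoc, Units.mul_inv, mul_one] at e'
      rw [← mul_assoc, Units.inv_mul, one_mul] at e'
      rw [e', smul_smul, inv_mul_cancel₀ hc0, one_smul]
    rw [hy, Units.val_mul, Units.val_mul, hxi, Units.val_mul, hφ]
    exact ((sends_phi h _).mul ((hfs _).mul (hfs _))).mul hφi
  have hxy : (x * y) ^ 3 = 1 := by
    have h1 := (hcube φ hφH).2
    have e0 : x * y = ((φ * x * φ⁻¹) * x⁻¹)⁻¹ := by rw [hy]; group
    rw [e0, inv_pow, h1, inv_one]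
  obtain ⟨k, hk⟩ : ∃ k : Z × Z → Z × Z, k = fun u => f (let z := f (f (-u.2, u.1)); (z.2, -z.1)) := ⟨_, rfl⟩
  have hks : ∀ u, Sends w ((x * y : GL Z F) : Matrix Z Z F) u (k u) := fun u => by
    rw [hk, Units.val_mul]; exact (hfs _).mul (hys u)
  have hk3 : ∀ u, Sends w (1 : Matrix Z Z F) u (k (k (k u))) := fun u => by
    have := (hks _).mul ((hks _).mul (hks u))
    rwa [← Units.val_mul, ← Units.val_mul, ← pow_two, ← pow_succ', hxy, Units.val_one] at this
  have hone' : ∀ u, k (k (k u)) = u := fun u => Sends.unique h (by simp) (hk3 u) (Sends.one u)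
  subst hk; subst hf
  obtain ⟨rfl, rfl⟩ := key α β ⟨hone _, hone _⟩ ⟨hone' _, hone' _⟩
  obtain ⟨c, v, hc⟩ := eq_w3_of_sends h hd hα hβ
  have hc3 : c ^ 3 = 1 := by
    have := mem_sl3.1 ((hmemH x).1 hxH).2
    rwa [hc, det_smul, ZMod.card, det_w3 h, mul_one] at this
  obtain ⟨j, rfl⟩ := h.eq_ch hc3
  exact mem_R3.2 ⟨j, v.1, v.2, hc⟩

end dich

/-- The odd part of a matrix commuting with the involution. -/
def oddPart (X : Matrix I9 I9 F) : Matrix Z Z F := Matrix.of fun y y' => X (1, y) (1, y') - X (1, y) (2, y')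

theorem oddPart_comm_zed {X : Matrix I9 I9 F} (hX : X * zed F = zed F * X) (a b a' b' : Z) :
    X (a, b) (a', b') = X (-a, b) (-a', b') := by
  have := congrFun (congrFun hX (a, b)) (-a', b')
  rw [zed, Matrix.mul_neg, Matrix.neg_mul, Matrix.neg_apply, Matrix.neg_apply, neg_inj, mul_pm_apply,
    pm_mul_apply] at this
  simpa [negFst] using this

theorem oddPart_mul {X X' : Matrix I9 I9 F} (hX' : X' * zed F = zed F * X') :
    oddPart (X * X') = oddPart X * oddPart X' := by
  ext y y'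
  simp only [oddPart, Matrix.of_apply, Matrix.mul_apply, Fintype.sum_prod_type]
  have hs : ∀ f : Z → F, ∑ a, f a = f 0 + f 1 + f 2 := fun f => Fin.sum_univ_three f
  simp only [hs]
  have h0 : ∀ z, X' (0, z) (2, y') = X' (0, z) (1, y') := fun z => by
    rw [oddPart_comm_zed hX' 0 z 2 y', show -(0 : Z) = 0 from neg_zero, show -(2 : Z) = 1 from rfl]
  have h1 : ∀ z, X' (2, z) (1, y') = X' (1, z) (2, y') := fun z => by
    rw [oddPart_comm_zed hX' 2 z 1 y', show -(2 : Z) = 1 from rfl, show -(1 : Z) = 2 from rfl]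
  have h2 : ∀ z, X' (2, z) (2, y') = X' (1, z) (1, y') := fun z => by
    rw [oddPart_comm_zed hX' 2 z 2 y', show -(2 : Z) = 1 from rfl]
  simp only [h0, h1, h2]
  ring

theorem oddPart_one : oddPart (1 : Matrix I9 I9 F) = 1 := by
  ext y y'
  simp [oddPart, Matrix.one_apply, Prod.ext_iff, show (1 : Z) ≠ 2 by decide]

/-- The setting for `SL₉(p)`. -/
theorem setup_sl [Fintype F] {p : ℕ} (hp : p.Prime) (hF : Fintype.card F = p) (hp3 : p % 3 = 1) (h : Root w)
    {M : Subgroup (GL I9 F)} (hN : ∀ g : GL I9 F, g ∈ specialLinear I9 F → Nm w (g : Matrix I9 I9 F) → g ∈ M)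
    (hM : M ≤ specialLinear I9 F) (hne : ¬ specialLinear I9 F ≤ M) : Setup w M ⊤ (specialLinear Z F) := by
  classical
  have hmk : ∀ {X : Matrix I9 I9 F}, X.det = 1 → Nm w X → Mem M X := fun {X} hd hX =>
    ⟨GeneralLinearGroup.mkOfDetNeZero X (by rw [hd]; exact one_ne_zero), hN _ (mem_sl3.2 hd) hX, rfl⟩
  have hswp : Mem M (-pm swp) := hmk (by
    rw [det_neg, det_pm, sign_swp]; simp [pow_succ]) (nm_neg_swp h)
  refine
    { root := h
      mem_w := fun a b => hmk (det_w9 h a b) (nm_w9 h a b)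
      mem_quad := fun a b c => hmk (det_qd h a b c) (nm_qd h a b c)
      mem_shear := fun k => hmk (by rw [det_pm, sign_shear]; simp) (nm_shear h k)
      mem_swap := hswp
      mem_zed := hmk (by rw [zed, det_neg, det_pm, sign_negFst]; simp [pow_succ]) (nm_zed h)
      mem_hess := fun g hg hgn => hmk (by rw [bd_det, mem_sl3.1 hg]; simp) (nm_bd_const h hgn)
      S_le := le_top
      phi_mem := mem_sl_of_det (det_phi h)
      w3_mem := fun a b => mem_sl_of_det (det_w3 h a b)
      flip_mem := mem_sl_of_det ?_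
      conj_S := fun g _ s hs => mem_sl_conj hs
      normal_top := fun _ L _ hn hx => sl3_le_of_normal L hn hx
      dich := fun P _ hP _ => sl3_dich hp hF hp3 h P hP
      block := ?_
      ablock := ?_
      no_top := ?_ }
  · rw [det_diagonal, show (Finset.univ : Finset Z) = {0, 1, 2} by decide, Finset.prod_insert (by decide),
      Finset.prod_pair (by decide), if_pos rfl, if_neg (by decide), if_neg (by decide)]
    norm_num
  · rintro A ⟨g, hg, e⟩ x
    have hd : ∏ x, (A x).det = 1 := by rw [← bd_det, ← e]; exact mem_sl3.1 (hM hg)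
    exact ⟨GeneralLinearGroup.mkOfDetNeZero (A x) fun e0 => by
      rw [Finset.prod_eq_zero (Finset.mem_univ x) e0] at hd; exact zero_ne_one hd, trivial, rfl⟩
  · rintro X ⟨g, hg, rfl⟩ hX
    have hXi : ((g⁻¹ : GL I9 F) : Matrix I9 I9 F) * zed F = zed F * ((g⁻¹ : GL I9 F) : Matrix I9 I9 F) := by
      calc ((g⁻¹ : GL I9 F) : Matrix I9 I9 F) * zed F
          = ((g⁻¹ : GL I9 F) : Matrix I9 I9 F) * (zed F * g) * ((g⁻¹ : GL I9 F) : Matrix I9 I9 F) := by
            rw [mul_assoc, mul_assoc, Units.mul_inv, mul_one]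
        _ = zed F * ((g⁻¹ : GL I9 F) : Matrix I9 I9 F) := by rw [← hX, ← mul_assoc, Units.inv_mul, one_mul]
    have e1 : oddPart (g : Matrix I9 I9 F) * oddPart ((g⁻¹ : GL I9 F) : Matrix I9 I9 F) = 1 := by
      rw [← oddPart_mul hXi, Units.mul_inv, oddPart_one]
    exact ⟨GeneralLinearGroup.mkOfDetNeZero (oddPart (g : Matrix I9 I9 F)) fun e0 => by
      have := congrArg Matrix.det e1; rw [det_mul, e0, zero_mul, det_one] at this; exact zero_ne_one this,
      trivial, rfl⟩
  · intro hS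
    refine hne (specialLinear_le_of_hasTv fun i j hij c => ?_)
    -- transvections inside one block
    have hblock : ∀ (x : Z) (y y' : Z), y ≠ y' → ∀ c : F,
        HasTv M (Pi.single (x, y) c) (Pi.single (x, y') 1) := by
      intro x y y' hyy c
      obtain ⟨g, hg, hgv⟩ := mem_sl_of_det (F := F) (Matrix.det_transvection_of_ne y y' hyy c)
      have h1 := hS g hg
      have hsh : w9 w 0 (x, 0) * w9 w 0 (-x, 0) = 1 := by
        rw [h.w9_mul]; simp [dot, ch_zero, show ((0 : Z), (0 : Z)) = (0 : I9) from rfl, w9_zero]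
      have h2 := (hmk (det_w9 h 0 (x, 0)) (nm_w9 h 0 (x, 0))).conj h1 hsh
      rw [w9_shift h, mul_assoc, hsh, mul_one] at h2
      obtain ⟨u, hu, huv⟩ := h2
      refine ⟨by simp [hyy.symm], u, hu, ?_⟩
      rw [huv, tvMat_single]
      ext a b
      obtain ⟨a1, a2⟩ := a
      obtain ⟨b1, b2⟩ := b
      rw [bd_apply, single, hgv]
      simp only [sub_eq_zero, Matrix.transvection, Matrix.add_apply, Matrix.one_apply, Matrix.single_apply,
        Prod.mk.injEq]
      by_cases e : a1 = b1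
      · subst e
        rcases eq_or_ne a1 x with e' | e'
        · subst e'; simp [Matrix.one_apply, Matrix.single_apply]
        · simp [e', Ne.symm e', Matrix.one_apply]
      · have : ¬ (x = a1 ∧ x = b1) := fun h' => e (h'.1 ▸ h'.2)
        simp [e]; grind
    -- transvections across the blocks
    have hcross : ∀ (y x x' : Z), x ≠ x' → ∀ c : F,
        HasTv M (Pi.single (x, y) c) (Pi.single (x', y) 1) := by
      intro y x x' hxx c
      obtain ⟨s, hs, hsv⟩ := hswp
      have := (hblock y x x' hxx c).conj hs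
      have e1 : (s : Matrix I9 I9 F) *ᵥ Pi.single (y, x) c = -Pi.single (x, y) c := by
        rw [hsv, neg_mulVec]
        congr 1
        ext i
        rw [mulVec_single]
        simp [pm_apply, Pi.single_apply, swp]
        rcases eq_or_ne i (x, y) with e | e <;> simp [e]
      have e2 : Pi.single (y, x') (1 : F) ᵥ* ((s⁻¹ : GL I9 F) : Matrix I9 I9 F) = -Pi.single (x', y) 1 := by
        have hsi : s⁻¹ = s := inv_eq_of_mul_eq_one_right (Units.ext (by
          rw [Units.val_mul, hsv, neg_mul_neg, pm_mul_pm, show swp * swp = 1 from Equiv.ext fun i => rfl, pm_one,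
            Units.val_one]))
        rw [hsi, hsv, vecMul_neg]
        congr 1
        ext i
        rw [single_one_vecMul]
        simp [Matrix.row, pm_apply, Pi.single_apply, swp, Prod.ext_iff, and_comm, eq_comm]
      rw [e1, e2] at this
      obtain ⟨-, u, hu, huv⟩ := this
      refine ⟨by simp [hxx.symm], u, hu, ?_⟩
      rw [huv]
      ext a b
      simp [tvMat, vecMulVec_apply]
    obtain ⟨i1, i2⟩ := i
    obtain ⟨j1, j2⟩ := j
    by_cases e1 : i1 = j1
    · subst e1; exact hblock i1 i2 j2 (fun e => hij (by rw [e])) c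
    by_cases e2 : i2 = j2
    · subst e2; exact hcross i2 i1 j1 e1 c
    have := (hcross j2 i1 j1 e1 1).comm (hblock i1 i2 j2 e2 c) (by simp [Ne.symm e1])
    simp at this
    exact this

end CfsgLib.MaxSub.SlNine
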