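import Cfsg.Agent.Lib.MaxSub.SlNine.Model

/-!
The setting for the maximality of the normaliser of the symplectic type group in dimension nine: a group `M`
with enough elements of the normaliser, and the facts about the block group that the dimension three case gives.
-/

set_option autoImplicit false
set_option linter.unusedSectionVars false

namespace CfsgLib.MaxSub.SlNine

open Matrix
open scoped MatrixGroups

variable {F : Type*} [Field F]

/-- the Fourier matrix -/
def phi (w : F) : Matrix Z Z F := (w - w ^ 2)⁻¹ • Matrix.of fun i j : Z => ch w (i * j)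

/-- the inverse of the Fourier matrix -/
def phiInv (w : F) : Matrix Z Z F := (-(w - w ^ 2)⁻¹) • Matrix.of fun i j : Z => ch w (-(i * j))

/-- quadratic phases -/
def qd (w : F) (s₁₁ s₁₂ s₂₂ : Z) : Matrix I9 I9 F :=
  diagonal fun x => ch w (s₁₁ * (x.1 * x.1) + s₁₂ * (x.1 * x.2) + s₂₂ * (x.2 * x.2))

/-- a shear of the plane -/
def shear (k : Z) : Equiv.Perm I9 where
  toFun x := (x.1, x.2 + k * x.1)
  invFun x := (x.1, x.2 - k * x.1)
  left_inv x := by simp
  right_inv x := by simp

/-- exchange of the coordinates -/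
def swp : Equiv.Perm I9 := Equiv.prodComm Z Z

/-- sign change of the first coordinate -/
def negFst : Equiv.Perm I9 := Equiv.prodCongr (Equiv.neg Z) (Equiv.refl Z)

/-- sign change of the second coordinate -/
def negSnd : Equiv.Perm I9 := Equiv.prodCongr (Equiv.refl Z) (Equiv.neg Z)

/-- the involution inverting the first factor -/
def zed (F : Type*) [Field F] : Matrix I9 I9 F := -pm negFst

/-- the involution inverting everything -/
def tau (F : Type*) [Field F] : Matrix I9 I9 F := pm (Equiv.neg I9)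

/-- the phase of a single line -/
def single (A : Matrix Z Z F) : Z → Matrix Z Z F := fun x => if x = 0 then A else 1

/-- what is used about an overgroup `M` of the normaliser: `G` the block group, `S` its simple part -/
structure Setup (w : F) (M : Subgroup (GL I9 F)) (G S : Subgroup (GL Z F)) : Prop where
  root : Root w
  mem_w : ∀ a b, Mem M (w9 w a b)
  mem_quad : ∀ a b c, Mem M (qd w a b c)
  mem_shear : ∀ k, Mem M (pm (shear k))
  mem_swap : Mem M (-pm swp)
  mem_zed : Mem M (zed F)
  mem_hess : ∀ h ∈ S, Nm3 w (h : Matrix Z Z F) → Mem M (bd fun _ => (h : Matrix Z Z F))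
  S_le : S ≤ G
  phi_mem : Mem S (phi w)
  w3_mem : ∀ a b, Mem S (w3 w a b)
  flip_mem : Mem S (diagonal fun y : Z => if y = 0 then (1 : F) else -1)
  conj_S : ∀ g ∈ G, ∀ h ∈ S, g * h * g⁻¹ ∈ S
  normal_top : (∃ g ∈ G, ¬ Nm3 w (g : Matrix Z Z F)) → ∀ L : Subgroup (GL Z F), L ≤ G → (∀ g ∈ S, ∀ x ∈ L, g * x * g⁻¹ ∈ L) →
    (∃ x ∈ L, ∀ c : F, (x : Matrix Z Z F) ≠ c • 1) → S ≤ L
  dich : ∀ P : Subgroup (GL Z F), P ≤ G → (∀ h ∈ S, Nm3 w (h : Matrix Z Z F) → h ∈ P) →
    Mem P (diagonal fun y : Z => ch w (y * y)) →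
    (∀ g ∈ P, Nm3 w (g : Matrix Z Z F)) ∨ S ≤ P
  block : ∀ A, Mem M (bd A) → ∀ x, Mem G (A x)
  ablock : ∀ X, Mem M X → X * zed F = zed F * X →
    Mem G (Matrix.of fun y y' : Z => X (1, y) (1, y') - X (1, y) (2, y'))
  no_top : ¬ ∀ g ∈ S, Mem M (bd (single (g : Matrix Z Z F)))

end CfsgLib.MaxSub.SlNine
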